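import Cfsg.Agent.Lib.FR.Inv

/-!
# S5262: essential subgroups, part 1: subgroups of `X8`, central involutions.  See `docs/FR.md`.
All coordinate facts are in `FR/Sub`, `FR/Inv` (tactics `vz`, `dz`, `vq`).
-/

set_option autoImplicit false

namespace Cfsg.Lib.FR

open Subgroup Cfsg.Lib.BG Cfsg.Lib.G2S Cfsg.Lib.RF4 Cfsg.Lib.RF4.V
open scoped commutatorElement Cfsg.Lib.Transfer

variable {K : Type*} [Field K] [Tw K] [Finite K] {N E : Subgroup (V K)} {f : V K → V K} {a : V K}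

theorem xx_A (ha : a ∈ A) (a3 : a ∉ Z3) : ∃ b ∈ (X2 : Subgroup (V K)), y4 1 * y4 1 = ⁅b, a⁆ := by
  by_cases h : a.a3 = 0
  · have h2 : a.c2 ≠ 0 := fun h2 => a3 (by revert ha; vz; tauto)
    obtain ⟨s, hs⟩ := ex_mul h2 1
    refine ⟨x7 s, by vz, ?_⟩
    clear a3; dz a ha; vz at *; grind
  · obtain ⟨s, hs⟩ := ex_mul h 1
    refine ⟨y6 s, by vz, ?_⟩
    clear a3; dz a ha; vz at *; grind

theorem xx_D (ha : a ∈ D) (a1 : a ∉ A) : ∃ u ∈ (X2 : Subgroup (V K)), ⁅u, a⁆ = 1 ∧ u * u ≠ 1 ∧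
    ∃ b ∈ (X2 : Subgroup (V K)), u * u = ⁅b, a⁆ := by
  have h : a.a7 ≠ 0 := fun h2 => a1 (by revert ha; vz; tauto)
  obtain ⟨r, hr⟩ := ex_mul h a.a3
  obtain ⟨s, hs⟩ := ex_mul h 1
  obtain ⟨t, ht⟩ := ex_mul h (y6 1 * x2 r * (y6 1 * x2 r) : V K).c4
  refine ⟨y6 1 * x2 r, by vz, cm1.2 ?_, fun e => ?_, y4 s * x2 t, by vz, ?_⟩
  · clear a1 ht; dz a ha; vz at *; grind
  · have := congrArg V.c6 e
    clear e; vz at this; grind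
  · clear a1; dz a ha; vz at *; grind

namespace Eh

/-- If `X2 ≰ E`, then `t3` for `(X2, Z3)` (`s_X8`, `x_X8`, `x_Z3`) gives `a ∈ E` with `f a ∈ Z3` and
(*) `f ⁅b, a⁆ ∈ Z3 → b ∈ E` for `b ∈ X2`.  `f a` is central in `E` with square `1`, so is `a` (`cen_of`, `Au.sq`).
`a ∉ Z3` (else `⁅b, a⁆ = 1` for all `b`), `a ∈ A ∨ a ∈ D` (`i_X2`).  By (*) every `u ∈ X2` centralizing `a` is in `E`;
then `f (u * u) = f u * f u ∈ Z3`, so if `u * u = ⁅b, a⁆ ≠ 1` with `b ∈ X2`, (*) gives `b ∈ E`, `⁅b, a⁆ = 1`, absurd.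
`a ∈ A - Z3`: `u = y4 1`, `u * u = x4 1 = ⁅b, a⁆` for `b = y6 (1 / a.a3)` or `b = x7 (1 / a.c2)`.
`a ∈ D - A` (`a.a7 ≠ 0`): `u = y6 1 * x2 (a.a3 / a.a7)`, `u * u ∈ Z2` has `c6 = 1`, and `⁅y4 s * x2 t, a⁆` has
`c6 = a7 s`, `c4 = a7 t`, so every element of `Z2` is such a commutator. -/
theorem xx (h : Eh N E f) (h1 : Z3 ≤ E) (h2 : E ≤ X2) (h3 : X2 ≤ N) : E = X2 := by
  refine le_antisymm h2 ?_
  by_contra h0
  obtain ⟨a, ha, fa, st⟩ := h.t3 h3 h0 (fun b hb => h1 (s_X8 (X2_X8 hb))) h1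
    (fun e _ a ha => Z2_Z3 (c_Z3 ha e)) (fun b hb e he => x_X8 (X2_X8 (h2 he)) (X2_X8 hb))
    fun b hb a ha => x_Z3 ha (X2_X8 hb)
  have c : ∀ e ∈ E, ⁅a, e⁆ = 1 := h.cen_of ha fun e he => cm1_symm (x_Z3 fa (X2_X8 (h2 he)))
  have a2 : a * a = 1 := (h.sq ha).1 (s_A (Z3_A fa))
  have k1 : ∀ u ∈ X2, ⁅u, a⁆ = 1 → u ∈ E := fun u hu e => st u hu (by rw [e, h.one]; exact one_mem _)
  have a3 : a ∉ Z3 := fun hz => h0 fun b hb => k1 b hb (x_Z3 hz (X2_X8 hb))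
  have k2 : ∀ u ∈ X2, ∀ b ∈ X2, ⁅u, a⁆ = 1 → u * u = ⁅b, a⁆ → u * u = 1 := fun u hu b hb e1 e2 => by
    have := k1 u hu e1
    rw [e2]
    exact cm1_symm (c b (st b hb (by
      rw [← e2, h.mul _ this _ this]; exact s_X8 (X2_X8 (h2 (h.mem _ this))))))
  by_cases hA : a ∈ A
  · obtain ⟨b, hb, e⟩ := xx_A hA a3
    have := congrArg V.c4 (k2 (y4 1) (by vz) b hb (b_A hA (by vz)) e)
    vz at this
    exact one_ne_zero this
  · obtain ⟨u, hu, e1, e2, b, hb, e⟩ := xx_D ((i_X2 (h2 ha) a2).resolve_left hA) hA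
    exact e2 (k2 u hu b hb e1 e)

/-- A central involution of `E ≤ Q` is not in `D - A`: `E ≤ X2` by `cD`, `Z3 ≤ E` by `cen` (`x_Z3`), so `E = X2` by
`xx`, but `⁅a, y4 1⁆ ≠ 1`. -/
theorem not_D (h : Eh Q E f) (ha : a ∈ D) (c : ∀ e ∈ E, ⁅a, e⁆ = 1) : a ∈ A := by
  by_contra hA
  have h2 : E ≤ X2 := fun e he => cD ha hA (h.le he) (cm1_symm (c e he))
  have h1 : Z3 ≤ E := fun z hz => h.cen z (A_Q (Z3_A hz)) fun e he => cm1_symm (x_Z3 hz (X2_X8 (h2 he)))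
  have := c (y4 1) (by rw [h.xx h1 h2 X2_Q]; vz)
  exact hA (i_B4 (by
    have h7 := congrArg V.c6 (cm1.1 this)
    clear this c h1 h2 hA; dz a ha; vz at *; grind) (s_D ha))

/-- A central involution lies in `R`: otherwise transport (`Eh.map`) along `ρr ∘ (conjugation by u)` with `u` from
`i_D1` (`au_comp au_ρr (au_cj Q u)`, `ρr_D`); the image of `a` is in `D`, has `a7 ≠ 0`; `not_D`. -/
theorem cen_R (h : Eh Q E f) (ha : a ∈ E) (a2 : a * a = 1) (c : ∀ e ∈ E, ⁅a, e⁆ = 1) : a ∈ R := by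
  by_contra hR
  obtain ⟨u, -, hu⟩ := i_D1 hR a2
  have g := au_comp au_ρr (au_cj Q u)
  obtain ⟨E', f', h', m, -⟩ := h.map g
  have hQ : u * a * u⁻¹ ∈ Q := D1_Q hu
  have := h'.not_D ((ρr_D hQ).2 hu) fun e he => by
    obtain ⟨x, hx, rfl⟩ := g.surj e (h'.le he)
    exact (g.cm1 (h.le ha) hx).2 (c x ((m x hx).1 he))
  exact hR (by simpa using nR.mem_comm (X8_R (X2_X8 (A_X2 ((ρr_A hQ).1 this)))))

/-- `Z2 ≤ E` by `cen`.  If `Z3 ≰ E`, `t3` for `(Z3, Z2)` gives a central involution `a ∈ E`, `a ∈ X8` by `i_R`,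
so `⁅b, a⁆ = 1` for all `b ∈ Z3`. -/
theorem Z3_le (h : Eh R E f) : Z3 ≤ E := by
  have h1 : Z2 ≤ E := fun z hz => h.cen z (X8_R (X2_X8 (A_X2 (Z3_A (Z2_Z3 hz))))) fun e he =>
    cm1_symm (r_Z2 hz (h.le he))
  by_contra h0
  obtain ⟨a, ha, fa, st⟩ := h.t3 (Z3_A.trans (A_X2.trans (X2_X8.trans X8_R))) h0
    (fun b hb => by rw [s_A (Z3_A hb)]; exact one_mem _) h1 (fun e _ a ha => Z_Z2 (c_Z2 ha e))
    (fun b hb e _ => cm_symm (c_Z3 hb e)) fun b hb a ha => r_Z2 ha (X8_R (X2_X8 (A_X2 (Z3_A hb))))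
  have a2 : a * a = 1 := (h.sq ha).1 (s_A (Z3_A (Z2_Z3 fa)))
  exact h0 fun b hb => st b hb (by
    rw [cm1_symm (x_Z3 hb (i_R (h.le ha) a2)), h.one]; exact one_mem _)

/-- A central involution of `E ≤ X8` is not in `A - Z3`: `E ≤ X2` by `cA8`, `E = X2` by `xx`, `Z3_ofA`. -/
theorem not_A (h : Eh R E f) (h2 : E ≤ X8) (ha : a ∈ A) (c : ∀ e ∈ E, ⁅a, e⁆ = 1) : a ∈ Z3 := by
  by_contra h3
  have h4 : E ≤ X2 := fun e he => cA8 ha h3 (h2 he) (cm1_symm (c e he))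
  exact h3 (Z3_ofA ha (h.xx h.Z3_le h4 (X2_X8.trans X8_R) ▸ c))

/-- If `X8 ≰ E`, `t3` for `(X8, Z3)` gives a central involution `a ∈ E`, `a ∉ Z3`.  By `i_A6` either `a ∈ A`, or
transport along `ρs ∘ (conjugation by x1 t)` (`ρs_A`, `ρs_X8`, `ρs_Z3`); `not_A`. -/
theorem eq_X8 (h : Eh R E f) (h2 : E ≤ X8) : E = X8 := by
  refine le_antisymm h2 ?_
  by_contra h0
  have h1 := h.Z3_le
  obtain ⟨a, ha, fa, st⟩ := h.t3 X8_R h0 (fun b hb => h1 (s_X8 hb)) h1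
    (fun e _ a ha => Z2_Z3 (c_Z3 ha e)) (fun b hb e he => x_X8 (h2 he) hb) fun b hb a ha => x_Z3 ha hb
  have c : ∀ e ∈ E, ⁅a, e⁆ = 1 := h.cen_of ha fun e he => cm1_symm (x_Z3 fa (h2 he))
  have a2 : a * a = 1 := (h.sq ha).1 (s_A (Z3_A fa))
  have a3 : a ∉ Z3 := fun hz => h0 fun b hb => st b hb (by rw [x_Z3 hz hb, h.one]; exact one_mem _)
  rcases i_A6 (h.le ha) a2 with hA | ⟨t, ht⟩
  · exact a3 (h.not_A h2 hA c)
  have g := au_comp au_ρs (au_cj R (x1 t))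
  obtain ⟨E', f', h', m, -⟩ := h.map g
  have hR : ∀ {x}, x ∈ R → x1 t * x * (x1 t)⁻¹ ∈ R := fun hx => nR.conj_mem _ hx _
  have := h'.not_A (fun e he => by
    obtain ⟨x, hx, rfl⟩ := g.surj e (h'.le he)
    exact (ρs_X8 (hR hx)).2 (nX8.conj_mem _ (h2 ((m x hx).1 he)) _)) ((ρs_A (hR (h.le ha))).2 ht) fun e he => by
    obtain ⟨x, hx, rfl⟩ := g.surj e (h'.le he)
    exact (g.cm1 (h.le ha) hx).2 (c x ((m x hx).1 he))
  exact a3 (by simpa using nZ3.mem_comm ((ρs_Z3 (hR (h.le ha))).1 this))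

/-- `comm` for `x1 1`, `y8 1`. -/
theorem ne_X8 (h : Eh ⊤ E f) : E ≠ X8 := by
  rintro rfl
  have n : ∀ v : V K, v ∈ 𝐍(X8) := fun v => (normalizer_eq_top X8).ge trivial
  have := h.comm (x1 1) trivial (n _) (y8 1) trivial (n _) (by vq) (by vq)
  vz at this
  grind

end Eh

end Cfsg.Lib.FR
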