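import Cfsg.Agent.Lib.FR.Inv

/-!
# S5262: essential subgroups, part 2: invariance of `A` and its consequences.  See `docs/FR.md`.
All coordinate facts are in `FR/Sub`, `FR/Inv` (tactics `vz`, `dz`, `vq`).
-/

set_option autoImplicit false

namespace Cfsg.Lib.FR

open Subgroup Cfsg.Lib.BG Cfsg.Lib.G2S Cfsg.Lib.RF4 Cfsg.Lib.RF4.V
open scoped commutatorElement Cfsg.Lib.Transfer

variable {K : Type*} [Field K] [Tw K] [Finite K] {N E : Subgroup (V K)} {f : V K → V K}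

/-- `B4 ⊓ E = C_E(A)` (`B4_of`, `b_A`; use `Au.iff_of_le` / `surj` to see that `f` maps `A` onto `A`). -/
theorem au_B4 (h : Au E f) (h1 : A ≤ E) (hA : ∀ a ∈ A, f a ∈ A) : ∀ x ∈ E, x ∈ B4 → f x ∈ B4 := fun x hx hB =>
  B4_of fun z hz => by
    obtain ⟨a, ha, rfl⟩ := (h.restrict h1 hA).surj z hz
    exact (h.cm1 hx (h1 ha)).2 (b_A ha hB)

/-- `Z` is the set of squares of `B4` (`ex_sq4`, `s_B4`). -/
theorem au_Z (h : Au E f) (h1 : B4 ≤ E) (hA : ∀ a ∈ A, f a ∈ A) : ∀ x ∈ Z, f x ∈ Z := fun x hx => by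
  obtain ⟨b, rfl⟩ := ex_sq4 hx
  have hb : y4 b ∈ B4 := by vz
  rw [h.mul _ (h1 hb) _ (h1 hb)]
  exact s_B4 (au_B4 h (A_B4.trans h1) hA _ (h1 hb) hb)

/-- `E ⊓ Q = {x ∈ E | ⁅x, A⁆ ≤ Z}` (`Q_of`, `q_A`). -/
theorem au_Q (h : Au E f) (h1 : B4 ≤ E) (hA : ∀ a ∈ A, f a ∈ A) : ∀ x ∈ E, x ∈ Q → f x ∈ Q := fun x hx hQ =>
  Q_of fun z hz => by
    obtain ⟨a, ha, rfl⟩ := (h.restrict (A_B4.trans h1) hA).surj z hz
    rw [← h.cm hx (h1 (A_B4 ha))]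
    exact au_Z h h1 hA _ (q_A ha hQ)

/-- The series `⊥ ≤ Z ≤ Z2 ≤ Z3 ≤ Z4 ≤ A ≤ B7 ≤ X2 ≤ Q1` (`c_Z`, ..., `c_Ph`).  Invariance: restrict to `Au Q1 f`;
`Z2 = C_A(Q1)` (`Z2_ofA`); `Z4`: for `z ∈ Z4` write `x7 1 = f y`, then `y` is an involution of `Q1`, so `y ∈ A ∪ D`
(`i_Q1`) commutes with `z`, and `Z4_of` applies to `f z ∈ A`; `X2 = {x | x * x ∈ Z4}` (`X2_of`, `s_X8`);
`Z3 = C_A(X2)` (`Z3_ofA`); `B7 = C(Z4)` (`B7_of`). -/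
theorem ch_Q1 (h : Au E f) (h1 : Q1 ≤ E) (hA : ∀ a ∈ A, f a ∈ A) (hQ : ∀ a ∈ Q1, f a ∈ Q1) : Ch f Q1 := by
  have g := h.restrict h1 hQ
  have hB : (B4 : Subgroup (V K)) ≤ Q1 := B4_B7.trans (B7_X2.trans X2_Q1)
  have AQ : (A : Subgroup (V K)) ≤ Q1 := A_B4.trans hB
  have i1 := au_Z g hB hA
  have i2 : ∀ x ∈ Z2, f x ∈ Z2 := fun x hx => Z2_ofA (hA x (Z3_A (Z2_Z3 hx))) fun y hy => by
    obtain ⟨y, hy', rfl⟩ := g.surj y hy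
    exact (g.cm1 (AQ (Z3_A (Z2_Z3 hx))) hy').2 (cm1_symm (r_Z2 hx (Q1_R hy')))
  have i4 : ∀ x ∈ Z4, f x ∈ Z4 := fun x hx => by
    obtain ⟨y, hy, e⟩ := g.surj (x7 1) (by vz)
    have y2 : y * y = 1 := (g.sq hy).1 (by rw [e]; vq)
    refine Z4_of (d := x7 1) (hA x (Z4_A hx)) (by vz) (by vz; grind) ?_
    rw [← e, g.cm1 (AQ (Z4_A hx)) hy]
    exact cm1_symm (b7_Z4 hx ((i_Q1 hy y2).elim (fun h => Z5_B7 (A_Z5 h)) fun h => Z5_B7 (D_Z5 h)))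
  have iX : ∀ x ∈ X2, f x ∈ X2 := fun x hx => X2_of (hQ x (X2_Q1 hx)) (by
    rw [← g.mul _ (X2_Q1 hx) _ (X2_Q1 hx)]; exact i4 _ (Z3_Z4 (s_X8 (X2_X8 hx))))
  have i3 : ∀ x ∈ Z3, f x ∈ Z3 := fun x hx => Z3_ofA (hA x (Z3_A hx)) fun y hy => by
    obtain ⟨y, hy', rfl⟩ := (g.restrict X2_Q1 iX).surj y hy
    exact (g.cm1 (AQ (Z3_A hx)) (X2_Q1 hy')).2 (cm1_symm (x_Z3 hx (X2_X8 hy')))
  have i7 : ∀ x ∈ B7, f x ∈ B7 := fun x hx => B7_of fun y hy => by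
    obtain ⟨y, hy', rfl⟩ := (g.restrict (Z4_A.trans AQ) i4).surj y hy
    exact (g.cm1 (X2_Q1 (B7_X2 hx)) (AQ (Z4_A hy'))).2 (b7_Z4 hy' hx)
  have s1 : Ch f Z := .step .bot bot_le (fun x hx v => mem_bot.2 (c_Z hx v)) i1
  have s2 : Ch f Z2 := .step s1 Z_Z2 (fun x hx v => c_Z2 hx v) i2
  have s3 : Ch f Z3 := .step s2 Z2_Z3 (fun x hx v => c_Z3 hx v) i3
  have s4 : Ch f Z4 := .step s3 Z3_Z4 (fun x hx v => c_Z4 hx v) i4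
  have s5 : Ch f A := .step s4 Z4_A (fun x hx v => c_Z5 (A_Z5 hx) v) hA
  have s6 : Ch f B7 := .step s5 (A_B4.trans B4_B7) (fun x hx v => c_B7 hx v) i7
  have s7 : Ch f X2 := .step s6 B7_X2 (fun x hx v => Z5_B7 (c_X2 hx v)) iX
  exact .step s7 X2_Q1 (fun x hx v => c_Ph (Q1_Ph hx) v) hQ

namespace Eh

/-- Let `A' = f(A) = h.pre A` (by `ff`: `f (f A) = A` as `A` is normal; so `x ∈ A' ↔ x ∈ E ∧ f x ∈ A`).  By `le_or_le`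
`A' ≤ A` or `A' ≤ D`; assume the second and `y ∈ A' - A`.  `Z4 ≤ A'`: for `x ∈ Z4`, `x` centralizes `A'`, so
`f x` centralizes `A`, is an involution in `B4`, so in `A` (`B4_of`, `i_B4`).  `b = y4 1` lies in `E` by `t1` with the
series `⊥ ≤ A ⊓ A' ≤ A ⊔ A' ≤ E` (`Tr.step`): `b` centralizes `A`; `⁅b, D⁆ ≤ Z2 ≤ A ⊓ A'` (`b_B7`), `A ⊓ A'` and
`A ⊔ A' = A A'` are `f`-invariant (`tr_step`), `⁅b, E⁆ ≤ A` (`c_B7`).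
Now `f b` centralizes `A' ≥ Z4` and `y`, so `f b ∈ D` (`B7_of`, `cD7`) has square `1`, but `b * b ≠ 1`. -/
theorem ad (h : Eh N E f) (h1 : A ≤ E) (h2 : ∀ a ∈ A, f a ∈ A ∨ f a ∈ D) (hy : y4 1 ∈ N) : ∀ a ∈ A, f a ∈ A := by
  obtain ⟨e, he, ff⟩ := h.ff
  have u := h.toAu
  have f2 : ∀ x ∈ E, f (f x) ∈ A ↔ x ∈ A := fun x hx => by
    rw [ff x hx]; exact nA.mem_comm_iff.trans (by simp)
  have P : u.pre A ≤ A ∨ u.pre A ≤ D := le_or_le fun x hx => by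
    obtain ⟨y, hy, rfl⟩ := u.surj x hx.1
    exact h2 y ((f2 y hy).1 hx.2)
  have fP : ∀ a ∈ A, f a ∈ u.pre A := fun a ha => ⟨u.mem a (h1 ha), (f2 a (h1 ha)).2 ha⟩
  by_contra H
  push Not at H
  obtain ⟨a, ha, fa⟩ := H
  have PD : u.pre A ≤ D := P.resolve_left fun l => fa (l (fP a ha))
  have Z4P : Z4 ≤ u.pre A := fun x hx => ⟨h1 (Z4_A hx), i_B4 (B4_of fun z hz => by
    obtain ⟨y, hy, rfl⟩ := u.surj z (h1 hz)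
    exact (u.cm1 (h1 (Z4_A hx)) hy).2 (d_D (PD ⟨hy, hz⟩) (Z4_D hx)))
    ((u.sq (h1 (Z4_A hx))).2 (s_A (Z4_A hx)))⟩
  have hb : (y4 1 : V K) ∈ B4 := by vz
  have S : A ⊔ u.pre A ≤ E := sup_le h1 fun _ hx => hx.1
  have S5 : A ⊔ u.pre A ≤ B7 := sup_le (A_B4.trans B4_B7) (PD.trans (D_Z5.trans Z5_B7))
  have i1 : ∀ x ∈ A ⊓ u.pre A, f x ∈ A ⊓ u.pre A := fun x hx => ⟨hx.2.2, fP x hx.1⟩
  have i2 : ∀ x ∈ A ⊔ u.pre A, f x ∈ A ⊔ u.pre A := fun x hx =>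
    (show A ⊔ u.pre A ≤ u.pre (A ⊔ u.pre A) from sup_le
      (fun y hy => ⟨h1 hy, mem_sup_right (fP y hy)⟩) (fun y hy => ⟨hy.1, mem_sup_left hy.2⟩) ) hx |>.2
  have t1 : Tr E f (y4 1) (A ⊓ u.pre A) := tr_step u .bot bot_le (inf_le_left.trans h1)
    (fun x hx => mem_bot.2 (b_A hx.1 hb)) (fun x hx => by rw [mem_bot.1 hx, u.one]; exact one_mem _) i1
  have t2 : Tr E f (y4 1) (A ⊔ u.pre A) := tr_step u t1 inf_le_sup S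
    (fun x hx => have := Z3_Z4 (Z2_Z3 (b_B7 (S5 hx) hb)); ⟨Z4_A this, Z4P this⟩) i1 i2
  have t3 : Tr E f (y4 1) E := tr_step u t2 S le_rfl
    (fun x _ => mem_sup_left (cm_symm (c_B7 (B4_B7 hb) x))) i2 u.mem
  have hE : y4 1 ∈ E := h.t1 _ hy (mem_norm_of_cm fun x _ => h1 (cm_symm (c_B7 (B4_B7 hb) x)))
    (h1 (Z_A (s_B4 hb))) t3
  have c : ∀ x ∈ u.pre A, ⁅f (y4 1), x⁆ = 1 := fun x hx => by
    obtain ⟨y, hy, rfl⟩ := u.surj x hx.1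
    exact (u.cm1 hE hy).2 (b_A ((f2 y hy).1 hx.2) hb)
  have := congrArg V.c4 ((u.sq hE).1 (s_D (cD7 (PD (fP a ha)) fa (B7_of fun z hz => c z (Z4P hz))
    (c _ (fP a ha)))))
  vz at this
  exact one_ne_zero this

/-- `mem_of_two` with `A`. -/
theorem B4_le (h : Eh N E f) (h1 : A ≤ E) (hA : ∀ a ∈ A, f a ∈ A) (hB : B4 ≤ N) : B4 ≤ E := fun b hb =>
  h.mem_of_two h1 hA (hB hb) (h1 (Z_A (s_B4 hb))) (fun e _ => cm_symm (c_B7 (B4_B7 hb) e))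
    fun _ ha => b_A ha hb

/-- `le_of_tr` for `P = N ⊓ Q` with the series `⊥ ≤ Z ≤ A ≤ E ⊓ Q ≤ E` (`q_A`, `q_Q`). -/
theorem Q_le (h : Eh N E f) (h1 : A ≤ E) (hA : ∀ a ∈ A, f a ∈ A) (hB : B4 ≤ N) : N ⊓ Q ≤ E := by
  have h4 := h.B4_le h1 hA hB
  have u := h.toAu
  have iZ := au_Z u h4 hA
  have iQ : ∀ x ∈ E ⊓ Q, f x ∈ E ⊓ Q := fun x hx => ⟨u.mem x hx.1, au_Q u h4 hA x hx.1 hx.2⟩
  refine h.le_of_tr pgV inf_le_left (fun e he => mem_normalizer_fintype fun x hx =>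
    ⟨N.mul_mem (N.mul_mem (h.le he) hx.1) (N.inv_mem (h.le he)), nQ.conj_mem x hx.2 e⟩) fun b hb n _ => ?_
  have t1 : Tr E f b Z := tr_step u .bot bot_le (Z_A.trans h1) (fun x hx => mem_bot.2 (c_Z hx b))
    (fun x hx => by rw [mem_bot.1 hx, u.one]; exact one_mem _) iZ
  have t2 : Tr E f b A := tr_step u t1 Z_A h1 (fun x hx => q_A hx hb.2) iZ hA
  have t3 : Tr E f b (E ⊓ Q) := tr_step u t2 (le_inf h1 A_Q) inf_le_left (fun x hx => q_Q hx.2 hb.2) hA iQ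
  refine tr_step u t3 inf_le_left le_rfl (fun x hx => ⟨?_, cm_symm (Q1_Q (c_Q8 (Q_Q8 hb.2) x))⟩) iQ u.mem
  exact E.mul_mem (conj_mem_of_norm n hx) (E.inv_mem hx)

end Eh

end Cfsg.Lib.FR
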