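import Cfsg.Agent.Lib.FR.A1
import Cfsg.Agent.Lib.FR.A2

/-!
# S5262: essential subgroups, part 3: subgroups of `R`.  See `docs/FR.md`.
All coordinate facts are in `FR/Sub`, `FR/Inv` (tactics `vz`, `dz`, `vq`).
-/

set_option autoImplicit false
set_option linter.unusedSectionVars false

namespace Cfsg.Lib.FR

open Subgroup Cfsg.Lib.BG Cfsg.Lib.G2S Cfsg.Lib.RF4 Cfsg.Lib.RF4.V
open scoped commutatorElement Cfsg.Lib.Transfer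

variable {K : Type*} [Field K] [Tw K] [Finite K] {E : Subgroup (V K)} {f : V K → V K} {e e' : V K}

theorem au_cP {X : Type*} [Group X] [Finite X] {E P W : Subgroup X} {f : X → X} {x : X} (h : Au E f) (hP : P ≤ E)
    (iP : ∀ z ∈ P, f z ∈ P) (iW : ∀ w ∈ W, f w ∈ W) (hx : x ∈ E) (c : ∀ z ∈ P, ⁅x, z⁆ ∈ W) : ∀ z ∈ P, ⁅f x, z⁆ ∈ W :=
  fun z hz => by
    obtain ⟨y, hy, rfl⟩ := (h.restrict hP iP).surj z hz
    exact h.cm hx (hP hy) ▸ iW _ (c y hy)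

theorem au_cP1 {X : Type*} [Group X] [Finite X] {E P : Subgroup X} {f : X → X} {x : X} (h : Au E f) (hP : P ≤ E)
    (iP : ∀ z ∈ P, f z ∈ P) (hx : x ∈ E) (c : ∀ z ∈ P, ⁅x, z⁆ = 1) : ∀ z ∈ P, ⁅f x, z⁆ = 1 :=
  fun z hz => by
    obtain ⟨y, hy, rfl⟩ := (h.restrict hP iP).surj z hz
    exact (h.cm1 hx (hP hy)).2 (c y hy)

theorem au_bot {X : Type*} [Group X] {E : Subgroup X} {f : X → X} (h : Au E f) : ∀ x ∈ (⊥ : Subgroup X), f x ∈ (⊥ : Subgroup X) :=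
  fun x hx => by rw [mem_bot.1 hx, h.one]; exact one_mem _

theorem cm_norm {X : Type*} [Group X] {E : Subgroup X} {b x : X} (n : b ∈ 𝐍(E)) (hx : x ∈ E) : ⁅b, x⁆ ∈ E :=
  mul_mem (conj_mem_of_norm n hx) (inv_mem hx)

theorem Z3_D : (Z3 : Subgroup (V K)) ≤ D := Z3_Z4.trans Z4_D
theorem D_X8 : (D : Subgroup (V K)) ≤ X8 := D_X2.trans X2_X8
theorem A_X8 : (A : Subgroup (V K)) ≤ X8 := A_X2.trans X2_X8
theorem B4_Q1 : (B4 : Subgroup (V K)) ≤ Q1 := B4_B7.trans (B7_X2.trans X2_Q1)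

/-- With two independent elements, `Z2, Z3, X8 ⊓ E, D ⊓ E` are invariant: `Z2 = Z(E)` (central `x` is in `X8` by
`X8_of`, then `D_of_ind`, `Z3_of_ind`, `Z2_of_ind`), `Z3 = {x | ⁅x, E⁆ ≤ Z2}` (`X8_of_ind`, ...),
`X8 ⊓ E = C_E(Z3)`, `D ⊓ E = {x ∈ X8 | ⁅x, E⁆ ≤ Z3}`. -/
theorem au_ind (h : Au E f) (h0 : E ≤ R) (h1 : Z3 ≤ E) (he : e ∈ E) (he' : e' ∈ E) (i : Ind e e') :
    (∀ x ∈ Z2, f x ∈ Z2) ∧ (∀ x ∈ Z3, f x ∈ Z3) ∧ (∀ x ∈ E, x ∈ D → f x ∈ D) ∧ ∀ x ∈ E, x ∈ X8 → f x ∈ X8 := by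
  have r := h0 he
  have r' := h0 he'
  have i2 : ∀ x ∈ Z2, f x ∈ Z2 := fun x hx => by
    have c := au_cP1 h le_rfl h.mem (h1 (Z2_Z3 hx)) fun z hz => cm1_symm (r_Z2 hx (h0 hz))
    have a := c e he
    have b := c e' he'
    exact Z2_of_ind r r' i (Z3_of_ind r r' i (D_of_ind r r' i (X8_of fun z hz => c z (h1 hz)) (a ▸ one_mem _)
      (b ▸ one_mem _)) (a ▸ one_mem _) (b ▸ one_mem _)) a b
  have i3 : ∀ x ∈ Z3, f x ∈ Z3 := fun x hx => by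
    have c := au_cP h le_rfl h.mem i2 (h1 hx) fun z _ => cm_symm (c_Z3 hx z)
    have a := c e he
    have b := c e' he'
    exact Z3_of_ind r r' i (D_of_ind r r' i (X8_of_ind r r' i (h0 (h.mem x (h1 hx))) (Z3_D (Z2_Z3 a)) (Z3_D (Z2_Z3 b)))
      (Z2_Z3 a) (Z2_Z3 b)) a b
  have i8 : ∀ x ∈ E, x ∈ X8 → f x ∈ X8 := fun x hx k => X8_of (au_cP1 h h1 i3 hx fun z hz => x_Z3 hz k)
  refine ⟨i2, i3, fun x hx k => ?_, i8⟩
  have c := au_cP h le_rfl h.mem i3 hx fun z hz => cm_symm (r_D k (h0 hz))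
  exact D_of_ind r r' i (i8 x hx (D_X8 k)) (c e he) (c e' he')

namespace Eh

/-- `le_of_tr` for `P = R` with the series `⊥ ≤ Z2 ≤ Z3 ≤ D ⊓ E ≤ X8 ⊓ E ≤ E` (`r_Z2`, `c_Z3`, `r_D`, `r_X8`, `r_R`). -/
theorem eq_R (h : Eh R E f) (he : e ∈ E) (he' : e' ∈ E) (i : Ind e e') : E = R := by
  have h1 := h.Z3_le
  obtain ⟨i2, i3, iD, i8⟩ := au_ind h.toAu h.le h1 he he' i
  have iD' : ∀ x ∈ D ⊓ E, f x ∈ D ⊓ E := fun x hx => ⟨iD x hx.2 hx.1, h.mem x hx.2⟩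
  have i8' : ∀ x ∈ X8 ⊓ E, f x ∈ X8 ⊓ E := fun x hx => ⟨i8 x hx.2 hx.1, h.mem x hx.2⟩
  refine le_antisymm h.le (le_of_tr pgV h le_rfl le_normalizer_of_normal fun b hb n _ => ?_)
  exact tr_step h.toAu (tr_step h.toAu (tr_step h.toAu (tr_step h.toAu (tr_step h.toAu .bot bot_le (Z2_Z3.trans h1)
    (fun x hx => mem_bot.2 (r_Z2 hx hb)) (au_bot h.toAu) i2) Z2_Z3 h1 (fun x hx => c_Z3 hx b) i2 i3) (le_inf Z3_D h1)
    inf_le_right (fun x hx => r_D hx.1 hb) i3 iD') (inf_le_inf_right _ D_X8) inf_le_right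
    (fun x hx => ⟨r_X8 hx.1 hb, cm_norm n hx.2⟩) iD' i8') inf_le_right le_rfl
    (fun x hx => ⟨r_R (h.le hx) hb, cm_norm n hx⟩) i8' h.mem

/-- `Z3 ≤ E`.  `A ≤ E`: else `t3` for `(A, Z3)` (`q8_A`) gives `a` with `f a ∈ Z3`, so `a * a = 1`,
`⁅⁅a, e⁆, e⁆ = 1` (`q8_Z3`, `c_Z`), `a ∈ A` by `A_ofP`, and then `⁅b, a⁆ = 1` for all `b ∈ A`.
`f(A) ⊆ A ∪ D` by `AD_ofP` (write `e = f e₀`; `q8_A`, `q8_Z3`, `c_Z`).  `ad`, `Q_le` give `Q1 = R ⊓ Q ≤ E`,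
`au_Q` gives invariance of `Q1`, `ch_Q1`, `Ch.tr` and the step `Q1 ≤ E` (`c_Q8`) give `R ≤ E` by `le_of_tr`. -/
theorem not_Ph (h : Eh R E f) (h2 : E ≤ Ph) : E ≤ X8 := fun e he => by_contra fun e2 => by
  have h3 := h.Z3_le
  have q {x} (hx : x ∈ E) : x ∈ Q8 := Ph_Q8 (h2 hx)
  have h1 : A ≤ E := by_contra fun n => by
    obtain ⟨a, ha, a1, a2⟩ := h.t3 (A_X8.trans X8_R) n (fun b hb => s_A hb ▸ one_mem _) h3 (fun e _ a ha => Z2_Z3 (c_Z3 ha e))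
      (fun b hb e he => cm_symm (q8_A hb (q he))) fun b hb a ha => x_Z3 ha (A_X8 hb)
    have aA := A_ofP (h2 he) e2 (h.le ha) ((h.sq ha).1 (s_A (Z3_A a1))) ((h.cm1 (Au.cm_mem ha he) he).1 (by
      rw [h.cm ha he]; exact cm1_symm (c_Z (cm_symm (q8_Z3 a1 (q (h.mem e he)))) _)))
    exact n fun b hb => a2 b hb (by rw [b_A aA (A_B4 hb), h.one]; exact one_mem _)
  have hA := h.ad h1 (fun a ha => by
    obtain ⟨x, hx, rfl⟩ := h.surj e he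
    have m := Au.cm_mem (h1 ha) hx
    refine AD_ofP (h2 he) e2 (h.le (h.mem a (h1 ha))) ((h.sq (h1 ha)).2 (s_A ha)) ?_
    rw [← h.cm (h1 ha) hx, ← h.cm m hx, h.cm1 (Au.cm_mem m hx) hx]
    exact cm1_symm (c_Z (cm_symm (q8_Z3 (cm_symm (q8_A ha (q hx))) (q hx))) _)) (by vz)
  have hQ : Q1 ≤ E := fun x hx => h.Q_le h1 hA (B4_Q1.trans Q1_R) (Q1_iff.1 hx)
  have iQ : ∀ x ∈ Q1, f x ∈ Q1 := fun x hx =>
    Q1_iff.2 ⟨h.le (h.mem x (hQ hx)), au_Q h.toAu (B4_Q1.trans hQ) hA x (hQ hx) (Q1_Q hx)⟩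
  have : R ≤ E := le_of_tr pgV h le_rfl le_normalizer_of_normal fun b _ _ _ =>
    tr_step h.toAu ((ch_Q1 h.toAu hQ hA iQ).tr h.toAu hQ b) hQ le_rfl (fun x hx => c_Q8 (q hx) b) iQ h.mem
  exact one_ne_zero (h2 (this (show y8 1 ∈ R by vz))).2

/-- If no two elements of `E` are independent: either `E ≤ Ph`, or some `e ∈ E` has `e.b8 ≠ 0`; conjugation by
`x1 t` (`b2 ↦ b2 + b8 t`, `t = e.b2 / e.b8`) maps `E` into `R3`, then `ρs` into `Ph` (`Eh.map`, `ρs_Ph`);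
`not_Ph` and `ρs_X8` give `e ∈ X8`, absurd. -/
theorem of_le_R (h : Eh R E f) : E = X8 ∨ E = R := by
  by_cases i : ∃ e ∈ E, ∃ e' ∈ E, Ind e e'
  · obtain ⟨e, he, e', he', i⟩ := i
    exact .inr (h.eq_R he he' i)
  refine .inl (h.eq_X8 (h.not_Ph fun e he => by_contra fun n => ?_))
  have n8 : e.b8 ≠ 0 := fun k => n ⟨h.le he, k⟩
  obtain ⟨t, ht⟩ := ex_mul n8 e.b2
  have a := au_comp au_ρs (au_cj R (x1 t))
  obtain ⟨E', f', h', m, -⟩ := h.map a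
  have l : E' ≤ Ph := fun y hy => by
    obtain ⟨x, hx, rfl⟩ := a.surj y (h'.le hy)
    have k : x.b2 * e.b8 = e.b2 * x.b8 := by_contra fun k => i ⟨x, (m x hx).1 hy, e, he, k⟩
    refine (ρs_Ph (nR.conj_mem _ hx _)).2 ?_
    have : x.b2 = x.b8 * t := mul_right_cancel₀ n8 (by rw [k, ← ht]; ring)
    clear * - hx this; dz x hx; vz at *; grind
  have := (ρs_X8 (nR.conj_mem _ (h.le he) _)).1 (h'.not_Ph l ((m e (h.le he)).2 he))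
  exact n8 (show e ∈ X8 by simpa [mul_assoc] using nX8.conj_mem _ this (x1 t)⁻¹).2.2

end Eh

end Cfsg.Lib.FR
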