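import Cfsg.Agent.Lib.FR.A3

/-!
# S5262: essential subgroups, part 4: subgroups not in `R`.  See `docs/FR.md`.
All coordinate facts are in `FR/Sub`, `FR/Inv` (tactics `vz`, `dz`, `vq`).
-/

set_option autoImplicit false

namespace Cfsg.Lib.FR

open Subgroup Cfsg.Lib.BG Cfsg.Lib.G2S Cfsg.Lib.RF4 Cfsg.Lib.RF4.V
open scoped commutatorElement Cfsg.Lib.Transfer

variable {K : Type*} [Field K] [Tw K] [Finite K] {E : Subgroup (V K)} {f : V K → V K} {e : V K}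

namespace Eh

/-- If `y = f a ∈ D - A` with `a ∈ A`, then every `f a'` commutes with `y`, so lies in `X2` (`cD`) and in `A ∪ D`
(`i_X2`); `ad` gives a contradiction. -/
theorem inv_A' (h : Eh Q E f) (h1 : A ≤ E) {a : V K} (ha : a ∈ A) (hy : f a ∈ D) : f a ∈ A := by_contra fun n =>
  n (h.ad h1 (fun b hb => i_X2 (cD hy n (h.le (h.mem b (h1 hb))) ((h.cm1 (h1 hb) (h1 ha)).2 (b_A ha (A_B4 hb))))
    ((h.sq (h1 hb)).2 (s_A hb))) (by vz) a ha)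

/-- `y = f a` is an involution of `Q`.  If `y ∈ R` use `i_Q1`, `inv_A'`.  Otherwise transport along
`ρr ∘ (conjugation by u)` (`i_D1`, `ρr_D`, `ρr_A`) and use `inv_A'` there. -/
theorem inv_A (h : Eh Q E f) (h1 : A ≤ E) : ∀ a ∈ A, f a ∈ A := fun a ha => by
  have yQ := h.le (h.mem a (h1 ha))
  have y2 := (h.sq (h1 ha)).2 (s_A ha)
  by_cases r : f a ∈ R
  · exact (i_Q1 (Q1_iff.2 ⟨r, yQ⟩) y2).elim id (h.inv_A' h1 ha)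
  obtain ⟨u, -, hu⟩ := i_D1 r y2
  have g := au_comp au_ρr (au_cj Q u)
  obtain ⟨E', f', h', m, ff⟩ := h.map g
  have k {x : V K} (hx : x ∈ Q) : ρr (u * x * u⁻¹) ∈ A ↔ x ∈ A :=
    (ρr_A (nQ.conj_mem _ hx u)).trans ⟨fun k => by simpa [mul_assoc] using nA.conj_mem _ k u⁻¹, fun k => nA.conj_mem _ k u⟩
  have := h'.inv_A' (fun z hz => by
    obtain ⟨x, hx, rfl⟩ := g.surj z (A_Q hz)
    exact (m x hx).2 (h1 ((k hx).1 hz))) ((k (A_Q ha)).2 ha) (by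
      rw [ff a (h1 ha)]; exact (ρr_D (nQ.conj_mem _ yQ u)).2 hu)
  rw [ff a (h1 ha)] at this
  exact (k yQ).1 this

/-- `Z ≤ E` by `cen`.  `A ≤ E`: else `t3` for `(A, Z)` gives a central involution `a`; `a ∈ R` (`cen_R`),
`a ∈ A ∪ D` (`i_Q1`), `a ∈ A` (`not_D`), so `⁅b, a⁆ = 1` for all `b ∈ A`.  Then `inv_A`, `Q_le`. -/
theorem eq_Q (h : Eh Q E f) : E = Q := by
  have hZ : Z ≤ E := fun x hx => h.cen x (A_Q (Z_A hx)) fun e _ => cm1_symm (c_Z hx e)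
  have h1 : A ≤ E := by_contra fun n => by
    obtain ⟨a, ha, a1, a2⟩ := h.t3 A_Q n (fun b hb => s_A hb ▸ one_mem _) hZ (fun e _ a ha => c_Z ha e ▸ one_mem _)
      (fun b hb e he => cm_symm (q_A hb (h.le he))) fun b _ a ha => c_Z ha b
    have c := h.cen_of ha fun e _ => cm1_symm (c_Z a1 e)
    have s := (h.sq ha).1 (s_A (Z_A a1))
    have aA := (i_Q1 (Q1_iff.2 ⟨h.cen_R ha s c, h.le ha⟩) s).elim id fun k => h.not_D k c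
    exact n fun b hb => a2 b hb (by rw [b_A aA (A_B4 hb), h.one]; exact one_mem _)
  exact le_antisymm h.le fun x hx => h.Q_le h1 (h.inv_A h1) (B4_Q1.trans Q1_Q) ⟨hx, hx⟩

/-- The end of both remaining cases: `ch_Q1`, then the steps `Q1 ≤ E ⊓ Q8 ≤ E` (`c_Q8`, `c_V`), `le_of_tr` for
`P = ⊤`. -/
theorem top_of (h : Eh ⊤ E f) (h1 : Q1 ≤ E) (hA : ∀ a ∈ A, f a ∈ A) (hQ : ∀ a ∈ Q1, f a ∈ Q1)
    (h8 : ∀ x ∈ E, x ∈ Q8 → f x ∈ Q8) : E = ⊤ := by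
  have i8 : ∀ x ∈ E ⊓ Q8, f x ∈ E ⊓ Q8 := fun x hx => ⟨h.mem x hx.1, h8 x hx.1 hx.2⟩
  exact eq_top_iff.2 (le_of_tr pgV h le_rfl le_normalizer_of_normal fun b _ n _ =>
    tr_step h.toAu (tr_step h.toAu ((ch_Q1 h.toAu h1 hA hQ).tr h.toAu h1 b) (le_inf h1 (Q1_Q.trans Q_Q8)) inf_le_left
      (fun x hx => c_Q8 hx.2 b) hQ i8) inf_le_left le_rfl (fun x hx => ⟨cm_norm n hx, Ph_Q8 (c_V x b)⟩) i8 h.mem)

/-- Successively `Z, Z2, Z3, Z4 ≤ E` are invariant (`cen`, then `mem_of_two` with the previous term; `Z_of'`,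
`Z2_of'`, `Z3_of'`, `Z4_of'` applied to `f x` and `e = f e₀`), `Z5 ≤ E` (`mem_of_two` with `Z4`: `c_Z5`, `b7_Z4`,
`s_Z5`), `f(A) ⊆ A ∪ D` (`AD_of`), `ad`, `Q_le`, `au_Q`; `Q1 = C_Q(Z2)` (`R_of'`, `r_Z2`),
`E ⊓ Q8 = {x | ⁅x, Z3⁆ ≤ Z}` (`Q8_of'`, `q8_Z3`); `top_of`. -/
theorem top_of_8 (h : Eh ⊤ E f) (he : e ∈ E) (e1 : e ∉ R) (e8 : e ∉ Q8) : E = ⊤ := by
  have s {x} (hx : x ∈ E) (k : x ∈ A) := (h.sq hx).2 (s_A k)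
  have s1 {x : V K} (k : x ∈ A) : x * x ∈ E := s_A k ▸ one_mem _
  have h0 : Z ≤ E := fun x hx => h.cen x trivial fun e _ => cm1_symm (c_Z hx e)
  have i0 : ∀ x ∈ Z, f x ∈ Z := fun x hx =>
    Z_of' e1 e8 (s (h0 hx) (Z_A hx)) (h.cen_im (h0 hx) (fun e _ => cm1_symm (c_Z hx e)) e he)
  have h2 : Z2 ≤ E := fun x hx => h.mem_of_two h0 i0 trivial (s1 (Z3_A (Z2_Z3 hx))) (fun e _ => cm_symm (c_Z2 hx e))
    fun a ha => c_Z ha x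
  have i2 : ∀ x ∈ Z2, f x ∈ Z2 := fun x hx => Z2_of' e1 e8 (s (h2 hx) (Z3_A (Z2_Z3 hx)))
    (au_cP h.toAu le_rfl h.mem i0 (h2 hx) (fun e _ => cm_symm (c_Z2 hx e)) e he)
  have h3 : Z3 ≤ E := fun x hx => h.mem_of_two h2 i2 trivial (s1 (Z3_A hx)) (fun e _ => cm_symm (c_Z3 hx e))
    fun a ha => r_Z2 ha (X8_R (A_X8 (Z3_A hx)))
  have i3 : ∀ x ∈ Z3, f x ∈ Z3 := fun x hx => Z3_of' e1 e8 (s (h3 hx) (Z3_A hx))
    (au_cP h.toAu le_rfl h.mem i2 (h3 hx) (fun e _ => cm_symm (c_Z3 hx e)) e he)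
  have h4 : Z4 ≤ E := fun x hx => h.mem_of_two h3 i3 trivial (s1 (Z4_A hx)) (fun e _ => cm_symm (c_Z4 hx e))
    fun a ha => x_Z3 ha (A_X8 (Z4_A hx))
  have i4 : ∀ x ∈ Z4, f x ∈ Z4 := fun x hx => Z4_of' e1 e8 (s (h4 hx) (Z4_A hx))
    (au_cP h.toAu le_rfl h.mem i3 (h4 hx) (fun e _ => cm_symm (c_Z4 hx e)) e he)
  have h1 : A ≤ E := fun x hx => h.mem_of_two h4 i4 trivial (s1 hx) (fun e _ => cm_symm (c_Z5 (A_Z5 hx) e))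
    fun a ha => b_A (Z4_A ha) (A_B4 hx)
  have hA := h.ad h1 (fun x hx => AD_of e1 e8 (s (h1 hx) hx)
    (au_cP h.toAu le_rfl h.mem i4 (h1 hx) (fun e _ => cm_symm (c_Z5 (A_Z5 hx) e)) e he)) trivial
  have hQ : Q1 ≤ E := fun x hx => h.Q_le h1 hA le_top ⟨trivial, Q1_Q hx⟩
  exact h.top_of hQ hA (fun x hx => Q1_iff.2 ⟨R_of' (au_cP1 h.toAu h2 i2 (hQ hx) fun z hz => r_Z2 hz (Q1_R hx)),
    au_Q h.toAu (B4_Q1.trans hQ) hA x (hQ hx) (Q1_Q hx)⟩) fun x hx k =>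
      Q8_of' (au_cP h.toAu h3 i3 i0 hx fun z hz => q8_Z3 hz k)

/-- (a) A central involution `a` of `E` is in `Z3` (`A_of8`, `Z3_of8`); in particular `f(Z) ⊆ Z3` and
`f⁻¹(Z) ⊆ Z3`.  (b) `Z3 ≤ E`: else `t3` for `(Z3, Z)` (`q8_Z3`).  (c) `A ≤ E`: else `t3` for `(A, Z3)` (`q8_A`) gives
`a` with `f a ∈ Z3`, so `f ⁅a, e⁆ ∈ Z`, `⁅a, e⁆ ∈ Z3` by (a), `a ∈ A` by `A_of8`.  (d) `f(Z3) ⊆ A` (`A_of8`, (a)),
`f(A) ⊆ A ∪ D` (`AD_of8`), `ad`, `Q_le`, `au_Z`, `au_Q`.  (e) `Z3` is invariant (`Z3_of8`), so is `X2 = C_Q(Z3)`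
(`X8_of`, `X2_iff`).  (f) `Q1` is invariant: let `x ∈ Q1` with `f x ∉ R`; `ex_inv` gives `w = f w₀ ∈ X2` with
`(f x * w) ^ 2 = 1`, so `x * w₀ ∈ Q1` is an involution, lies in `X2` (`i_Q1`), so `x ∈ X2`, `f x ∈ X2 ≤ R`.
`top_of`. -/
theorem top_of_Q8 (h : Eh ⊤ E f) (h8 : E ≤ Q8) (he : e ∈ E) (e1 : e ∉ R) (eq : e ∉ Q) : E = ⊤ := by
  have e8 := h8 he
  have s {x} (hx : x ∈ E) (k : x ∈ A) := (h.sq hx).2 (s_A k)
  have ca {a : V K} (a2 : a * a = 1) (c : ⁅a, e⁆ = 1) : a ∈ Z3 :=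
    Z3_of8 e8 eq (A_of8 e1 e8 eq a2 (c ▸ one_mem _)) (c ▸ one_mem _)
  have h0 : Z ≤ E := fun x hx => h.cen x trivial fun e _ => cm1_symm (c_Z hx e)
  have f0 {x} (hx : x ∈ Z) : f x ∈ Z3 := ca (s (h0 hx) (Z_A hx)) (h.cen_im (h0 hx) (fun e _ => cm1_symm (c_Z hx e)) e he)
  have f1 {x} (hx : x ∈ E) (k : f x ∈ Z) : x ∈ Z3 :=
    ca ((h.sq hx).1 (s_A (Z_A k))) (h.cen_of hx (fun e _ => cm1_symm (c_Z k e)) e he)
  have h3 : Z3 ≤ E := by_contra fun n => by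
    obtain ⟨a, ha, a1, a2⟩ := h.t3 le_top n (fun b hb => s_A (Z3_A hb) ▸ one_mem _) h0 (fun e _ a ha => c_Z ha e ▸ one_mem _)
      (fun b hb e he => cm_symm (q8_Z3 hb (h8 he))) fun b _ a ha => c_Z ha b
    exact n fun b hb => a2 b hb (by rw [x_Z3 (f1 ha a1) (A_X8 (Z3_A hb)), h.one]; exact one_mem _)
  have h1 : A ≤ E := by_contra fun n => by
    obtain ⟨a, ha, a1, a2⟩ := h.t3 le_top n (fun b hb => s_A hb ▸ one_mem _) h3 (fun e _ a ha => Z2_Z3 (c_Z3 ha e))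
      (fun b hb e he => cm_symm (q8_A hb (h8 he))) fun b hb a ha => x_Z3 ha (A_X8 hb)
    have aA := A_of8 e1 e8 eq ((h.sq ha).1 (s_A (Z3_A a1))) (f1 (Au.cm_mem ha he) (by
      rw [h.cm ha he]; exact cm_symm (q8_Z3 a1 (h8 (h.mem e he)))))
    exact n fun b hb => a2 b hb (by rw [b_A aA (A_B4 hb), h.one]; exact one_mem _)
  obtain ⟨e₀, h₀, rfl⟩ := h.surj e he
  have f3 {x} (hx : x ∈ Z3) : f x ∈ A := A_of8 e1 e8 eq (s (h3 hx) (Z3_A hx)) (by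
    rw [← h.cm (h3 hx) h₀]; exact f0 (cm_symm (q8_Z3 hx (h8 h₀))))
  have hA := h.ad h1 (fun x hx => AD_of8 e1 e8 eq (s (h1 hx) hx) (by
    rw [← h.cm (h1 hx) h₀]; exact f3 (cm_symm (q8_A hx (h8 h₀))))) trivial
  have hQ : Q ≤ E := fun x hx => h.Q_le h1 hA le_top ⟨trivial, hx⟩
  have hB := (B4_Q1.trans Q1_Q).trans hQ
  have i0 := au_Z h.toAu hB hA
  have iQ := au_Q h.toAu hB hA
  have i3 : ∀ x ∈ Z3, f x ∈ Z3 := fun x hx => Z3_of8 e8 eq (f3 hx) (by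
    rw [← h.cm (h3 hx) h₀]; exact i0 _ (cm_symm (q8_Z3 hx (h8 h₀))))
  have iX : ∀ x ∈ X2, f x ∈ X2 := fun x hx => X2_iff.2 ⟨X8_of (au_cP1 h.toAu h3 i3 (hQ (X2_Q hx)) fun z hz =>
    x_Z3 hz (X2_X8 hx)), iQ x (hQ (X2_Q hx)) (X2_Q hx)⟩
  refine h.top_of (Q1_Q.trans hQ) hA (fun x hx => ?_) fun x hx _ => h8 (h.mem x hx)
  have xE := hQ (Q1_Q hx)
  refine Q1_iff.2 ⟨by_contra fun n => ?_, iQ x xE (Q1_Q hx)⟩
  obtain ⟨w, hw, k⟩ := ex_inv (iQ x xE (Q1_Q hx)) n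
  obtain ⟨w, hw', rfl⟩ := (h.restrict (X2_Q.trans hQ) iX).surj w hw
  rw [← h.mul x xE w (hQ (X2_Q hw')), h.sq (mul_mem xE (hQ (X2_Q hw')))] at k
  have := (i_Q1 (mul_mem hx (X2_Q1 hw')) k).elim (fun k => A_X2 k) fun k => D_X2 k
  exact n (X8_R (X2_X8 (iX x ((mul_mem_cancel_right hw').1 this))))

/-- `E ≤ R`: `of_le_R`, `ne_X8`.  `E ≤ Q`: `eq_Q`.  Otherwise `le_or_le`. -/
theorem ess (h : Eh ⊤ E f) (ne : E ≠ ⊤) : E = Q ∨ E = R := by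
  by_cases hR : E ≤ R
  · exact .inr ((h.mono hR le_top).of_le_R.resolve_left h.ne_X8)
  by_cases hQ : E ≤ Q
  · exact .inl (h.mono hQ le_top).eq_Q
  refine (ne ?_).elim
  have k {P : Subgroup (V K)} (n : ¬ E ≤ P) : ∃ e ∈ E, e ∉ R ∧ e ∉ P := by
    by_contra! c
    exact (le_or_le fun x hx => (em _).imp_right (c x hx)).elim hR n
  by_cases h8 : E ≤ Q8
  · obtain ⟨e, he, e1, e2⟩ := k hQ
    exact h.top_of_Q8 h8 he e1 e2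
  · obtain ⟨e, he, e1, e2⟩ := k h8
    exact h.top_of_8 he e1 e2

end Eh

end Cfsg.Lib.FR
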