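import Cfsg.Agent.Lib.FR.Eh
import Cfsg.Agent.Lib.Inv.StronglyEmbedded
import Cfsg.Agent.Lib.BG.Hall

/-!
# S5262: local data `Lc` (a model of the normalizer system) and generic group lemmas.  See `docs/FR.md`.
-/

set_option autoImplicit false

namespace Cfsg.Lib.FR

open Subgroup Cfsg.Lib.BG Cfsg.Lib.G2S
open scoped commutatorElement Cfsg.Lib.Transfer

variable {X G : Type*} [Group X] [Group G] {P A : Subgroup X} {e : X →* G} {g : G} {v : X}

/-- `e` embeds `X` as a Sylow `2`-subgroup, `e(P)` is normal and self-centralizing. -/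
structure Lc (P : Subgroup X) (e : X →* G) : Prop where
  inj : Function.Injective e
  odd : Odd e.range.index
  nrm : ∀ g : G, ∀ v ∈ P, ∃ w ∈ P, g * e v * g⁻¹ = e w
  cen : ∀ g : G, (∀ v ∈ P, g * e v * g⁻¹ = e v) → g ∈ P.map e

/-- `g` acts on `X` as `α`. -/
def Act (e : X →* G) (g : G) (α : X → X) : Prop := ∀ x, g * e x * g⁻¹ = e (α x)

theorem Act.mul {g' : G} {α β : X → X} (h : Act e g α) (h' : Act e g' β) : Act e (g * g') fun x => α (β x) :=
  fun x => by rw [← h, ← h']; group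

theorem act_e (v : X) : Act e (e v) fun x => v * x * v⁻¹ := fun x => by simp

theorem Act.inv {α : MulAut X} (h : Act e g α) : Act e g⁻¹ ⇑α⁻¹ := fun x => by
  have := h (α⁻¹ x)
  rw [MulAut.apply_inv_self] at this
  rw [← this]; group

theorem Act.norm [Finite G] {α : X → X} (h : Act e g α) : g ∈ 𝐍(e.range) :=
  mem_normalizer_fintype (by rintro _ ⟨x, rfl⟩; exact ⟨_, (h x).symm⟩)

/-- Schur-Zassenhaus: a section of a surjection with kernel of coprime order. -/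
theorem exists_sec {L T : Type*} [Group L] [Finite L] [Group T] {f : L →* T} (hf : Function.Surjective f)
    (hc : (Nat.card f.ker).Coprime (Nat.card T)) : ∃ s : T →* L, ∀ t, f (s t) = t := by
  obtain ⟨H, hH⟩ := exists_right_complement'_of_coprime (N := f.ker)
    (by rwa [index_ker, MonoidHom.range_eq_top.2 hf, card_top])
  have b : Function.Bijective (f.comp H.subtype) := ⟨(injective_iff_map_eq_one _).2 fun x hx =>
    Subtype.ext (disjoint_def.1 hH.disjoint hx x.2), fun t => by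
      obtain ⟨x, rfl⟩ := hf t
      obtain ⟨⟨n, y⟩, rfl⟩ := hH.2 x
      exact ⟨y, by simp [MonoidHom.mem_ker.1 n.2]⟩⟩
  exact ⟨H.subtype.comp (MulEquiv.ofBijective _ b).symm.toMonoidHom, (MulEquiv.ofBijective _ b).apply_symm_apply⟩

namespace Lc

variable (h : Lc P e)
include h

theorem e_ac (g : G) (hv : v ∈ P) : e (ac e g v) = g * e v * g⁻¹ :=
  let ⟨w, _, e⟩ := h.nrm g v hv
  j_ac ⟨w, e.symm⟩

theorem ac_eq {w : X} (e' : g * e v * g⁻¹ = e w) : ac e g v = w := h.inj (by rw [j_ac ⟨w, e'.symm⟩, e'])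

theorem ac_mem (g : G) (hv : v ∈ P) : ac e g v ∈ P :=
  let ⟨_, hw, e⟩ := h.nrm g v hv
  h.ac_eq e ▸ hw

theorem au (g : G) : Au P (ac e g) :=
  ⟨fun _ => h.ac_mem g, fun x hx y hy => h.ac_eq (by rw [map_mul, map_mul, h.e_ac g hx, h.e_ac g hy]; group),
    fun x hx e' => h.inj (by
      have := h.e_ac g hx
      rwa [e', map_one, eq_comm, conj_eq_one_iff, ← map_one e] at this),
    fun y hy => ⟨_, h.ac_mem g⁻¹ hy, h.ac_eq (by rw [h.e_ac g⁻¹ hy]; group)⟩⟩

theorem normal : (P.map e).Normal := ⟨by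
  rintro _ ⟨v, hv, rfl⟩ g
  obtain ⟨w, hw, e⟩ := h.nrm g v hv
  exact ⟨w, hw, e.symm⟩⟩

/-- Change of coordinates. -/
theorem comp (α : MulAut X) (hα : ∀ v, α v ∈ P ↔ v ∈ P) : Lc P (e.comp α.toMonoidHom) := by
  refine ⟨h.inj.comp α.injective, ?_, fun g v hv => ?_, fun g H => ?_⟩
  · rw [MonoidHom.range_comp, MonoidHom.range_eq_top.2 α.surjective, ← MonoidHom.range_eq_map]
    exact h.odd
  · obtain ⟨w, hw, e⟩ := h.nrm g _ ((hα v).2 hv)
    exact ⟨α.symm w, (hα _).1 (by simpa), by simpa⟩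
  · obtain ⟨w, hw, rfl⟩ := h.cen g fun v hv => by simpa using H (α.symm v) ((hα _).1 (by simpa))
    exact ⟨α.symm w, (hα _).1 (by simpa), by simp⟩

/-- An element of `𝐍(e.range)` acts by an automorphism. -/
theorem act (hg : g ∈ 𝐍(e.range)) : ∃ α : MulAut X, Act e g α := by
  have k : ∀ {g}, g ∈ 𝐍(e.range) → ∀ x, e (ac e g x) = g * e x * g⁻¹ := fun hg x =>
    j_ac (conj_mem_of_norm hg ⟨x, rfl⟩)
  exact ⟨⟨⟨ac e g, ac e g⁻¹, fun x => h.ac_eq (by rw [k hg]; group), fun x => h.ac_eq (by rw [k (inv_mem hg)]; group)⟩,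
    fun x y => h.ac_eq (by rw [map_mul, map_mul, k hg, k hg]; group)⟩, fun x => (k hg x).symm⟩

variable [Finite G] (hX : IsPGroup 2 X)
include hX

theorem syl : Syl 2 e.range ⊤ := by
  exact Syl.mk' le_top (hX.of_surjective _ e.rangeRestrict_surjective)
    (by rw [relIndex_top_right]; exact h.odd.not_two_dvd_nat)

/-- By induction on the series (for `A ≤ P`) find `K₀ ≥ e.range` normalized by `g`, normalizing `A.map e`, whose
elements of odd order centralize `A.map e` (step: `K₀ ⊓ {k ∈ 𝐍(eA) | ⁅k, eB⁆ ≤ eA}`, cf. `G2S.Kc`, `St.step`).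
At the end elements of odd order lie in the `2`-group `P.map e` (`cen`), so `K₀` is a `2`-group containing the
Sylow subgroup `e.range`, hence equal to it. -/
theorem norm_of_ch (c : Ch (ac e g) P) : g ∈ 𝐍(e.range) := by
  have p2 : ∀ A : Subgroup X, IsPGroup 2 (A.map e) := fun A => (hX.to_subgroup A).map e
  have nm : ∀ {A : Subgroup X}, A ≤ P → (∀ x ∈ A, ac e g x ∈ A) → g ∈ 𝐍(A.map e) := fun l i =>
    mem_normalizer_fintype (by rintro _ ⟨x, hx, rfl⟩; exact ⟨_, i x hx, h.e_ac g (l hx)⟩)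
  have key : ∀ {A}, Ch (ac e g) A → A ≤ P → ∃ K : Subgroup G, e.range ≤ K ∧ g ∈ 𝐍(K) ∧ K ≤ 𝐍(A.map e) ∧
      ∀ u ∈ K, Odd (orderOf u) → u ∈ 𝐂(A.map e) := fun c l => by
    induction c with
    | bot => exact ⟨⊤, le_top, (normalizer_eq_top _).ge trivial, by rw [Subgroup.map_bot, normalizer_eq_top], by simp⟩
    | @step A B c l1 c1 c2 ih =>
      obtain ⟨K, k1, k2, k3, k4⟩ := ih (l1.trans l)
      have n1 := nm (l1.trans l) (c.mem (h.au g).one)
      have n2 := nm l c2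
      refine ⟨K ⊓ PGroup.commStab (A.map e) (B.map e), le_inf k1 fun u hu => ⟨k3 (k1 hu), ?_⟩,
        mem_normalizer_fintype fun u hu => ⟨conj_mem_of_norm k2 hu.1, mul_mem (mul_mem n1 hu.2.1) (inv_mem n1),
          fun b hb => ?_⟩, fun u hu => mem_norm_of_cm fun b hb => map_mono l1 (hu.2.2 b hb), fun u hu o =>
        zpowers_le.1 (stable_factor_cent (N := A.map e) ((commutator_comm_le _ _).trans (commutator_le.2
          fun v hv => (zpowers_le.2 hu.2 hv).2)) (zpowers_le.2 (k4 u hu.1 o)) (PiGrp.coprime_pgroup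
            (GW.pi_odd_iff.2 (by rwa [Nat.card_zpowers])) (p2 A)))⟩
      · obtain ⟨v, rfl⟩ := hu
        rintro _ ⟨x, hx, rfl⟩
        exact ⟨_, c1 x hx v, map_commutatorElement _ _ _⟩
      · simpa [commutatorElement_def, mul_assoc] using conj_mem_of_norm n1 (hu.2.2 _ (conj_mem_of_norm' n2 hb))
  obtain ⟨K, k1, k2, -, k4⟩ := key c le_rfl
  rwa [(h.syl hX).eq_of_le_pgroup k1 le_top (PiGrp.p_iff.1 fun q hq d => by_contra fun q2 => ?_)]
  have := Fact.mk hq
  obtain ⟨u, hu⟩ := exists_prime_orderOf_dvd_card' q d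
  rw [← orderOf_coe] at hu
  exact q2 (pgroup_eq_of_dvd (p2 P) hq (hu ▸ orderOf_dvd_natCard _ (h.cen u fun v hv => by
    rw [← mem_cent.1 (k4 u u.2 (hu ▸ hq.odd_of_ne_two q2)) _ (mem_map_of_mem e hv), mul_inv_cancel_right])))

/-- Frattini argument. -/
theorem not_le {C : Subgroup G} [C.Normal] (hC : e.range ≤ C) (ne : 𝐍(e.range) ≠ ⊤) : ¬ C ≤ 𝐍(e.range) := by
  exact fun H => ne (top_le_iff.1 ((Syl.frattini ((h.syl hX).of_le hC le_top) (Nml.top_iff.2 ‹_›)).ge.trans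
    (sup_le H inf_le_right)))

/-- If `e.range / P.map e` is TI, then the image of `𝐍(e.range)` in `G ⧸ P.map e` is strongly embedded (an element of
`𝐍(e.range)` of order `2` modulo `P.map e` is a `2`-element, so it lies in the normal Sylow subgroup `e.range`);
use `Inv.se_exists_conj_of_not_le` and `Inv.se_mem` (or `ti` again). -/
theorem ti_trans (ti : ∀ (g : G) (s t : X), s ∉ P → g * e s * g⁻¹ = e t → g ∈ 𝐍(e.range)) {C : Subgroup G}
    (hC : e.range ≤ C) (ne : ¬ C ≤ 𝐍(e.range)) {a b : X} (ha : a ∉ P) (hb : b ∉ P) (a2 : a * a ∈ P)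
    (b2 : b * b ∈ P) : ∃ k ∈ C, k ∈ 𝐍(e.range) ∧ ∃ w ∈ P, k * e a * k⁻¹ = e (w * b) := by
  have := h.normal
  have s := h.syl hX
  let π := QuotientGroup.mk' (P.map e)
  have m : ∀ {x}, π x ∈ 𝐍(e.range).map π ↔ x ∈ 𝐍(e.range) := by
    intro x
    rw [← mem_comap, Core.comap_map_mk', sup_eq_left.2 ((map_le_range _ _).trans (le_norm _))]
  have o : ∀ {x}, π (e x) = 1 ↔ x ∈ P := (QuotientGroup.eq_one_iff _).trans (mem_map_iff_mem h.inj)
  have o2 : ∀ {x}, x ∉ P → x * x ∈ P → orderOf (π (e x)) = 2 := fun h1 h2 =>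
    orderOf_eq_prime (by rw [sq, ← map_mul, ← map_mul, o.2 h2]) (mt o.1 h1)
  have k : ∀ x ∈ 𝐍(e.range), orderOf (π x) = 2 → ∃ t, e t = x := fun x hx ox => zpowers_le.1
    (s.ge_of_norm_p' le_top (((IsPGroup.of_card (n := 1) (G := zpowers (π x)) (by rw [Nat.card_zpowers, ox, pow_one])).comap_of_ker_isPGroup
      π (by rw [QuotientGroup.ker_mk']; exact (hX.to_subgroup P).map e)).to_le (zpowers_le.2 (mem_zpowers _)))
      (zpowers_le.2 hx))
  have n : ¬ C.map π ≤ 𝐍(e.range).map π := fun H => ne fun x hx => m.1 (H (mem_map_of_mem π hx))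
  have aH : π (e a) ∈ 𝐍(e.range).map π := m.2 (le_norm _ ⟨a, rfl⟩)
  have se : IsStronglyEmbedded (𝐍(e.range).map π) := Inv.se_iff.2 ⟨fun H => n (H ▸ le_top),
    Inv.even_card_of_involution_mem (o2 ha a2) aH, fun t g ht tH H => by
      obtain ⟨x, hx, rfl⟩ := tH
      obtain ⟨g, rfl⟩ := QuotientGroup.mk'_surjective _ g
      obtain ⟨x, rfl⟩ := k x hx ht
      rw [← map_inv, ← map_mul, ← map_mul] at H
      obtain ⟨y, e'⟩ := k _ (m.1 H) (by rw [map_mul, map_mul, map_inv, Inv.orderOf_conj', ht])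
      exact m.2 (ti g x y (fun H => by simp [o.2 H] at ht) e'.symm)⟩
  obtain ⟨_, ⟨c, hc, rfl⟩, e'⟩ := Inv.se_exists_conj_of_not_le se n (o2 ha a2) aH (mem_map_of_mem π (hC ⟨a, rfl⟩))
    (o2 ha a2) (o2 hb b2) (mem_map_of_mem π (hC ⟨a, rfl⟩)) (mem_map_of_mem π (hC ⟨b, rfl⟩))
  rw [← mul_inv_eq_one, ← map_inv, ← map_inv, ← map_mul, ← map_mul, ← map_mul] at e'
  obtain ⟨w, hw, e'⟩ := (QuotientGroup.eq_one_iff _).1 e'
  rw [eq_mul_inv_iff_mul_eq, ← map_mul] at e'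
  exact ⟨c, hc, ti c a _ ha e'.symm, w, hw, e'.symm⟩

/-- Lifting a group of odd order: `L = {g | ∃ l, Act e g (τ l)}` maps onto `T` (well defined as `τ` is injective) with
kernel in the `2`-group `P.map e`; a complement (Schur-Zassenhaus) is mapped bijectively. -/
theorem exists_lift {T : Type*} [Group T] [Finite T] (hT : Odd (Nat.card T)) {τ : T →* MulAut X}
    (hτ : Function.Injective τ) (ht : ∀ l, ∃ g, Act e g (τ l)) : ∃ H : T →* G, ∀ l, Act e (H l) (τ l) := by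
  let L : Subgroup (G × T) :=
    { carrier := {x | Act e x.1 (τ x.2)}
      one_mem' := fun x => by simp
      mul_mem' := fun ha hb x => by simpa using ha.mul hb x
      inv_mem' := fun ha x => by simpa using ha.inv x }
  have p : IsPGroup 2 ((MonoidHom.snd G T).comp L.subtype).ker := fun x => by
    have x1 : x.1.1.2 = 1 := x.2
    obtain ⟨k, hk⟩ := (hX.to_subgroup P).map e ⟨x.1.1.1, h.cen _ fun v _ => by simpa [x1] using x.1.2 v⟩
    exact ⟨k, Subtype.ext (Subtype.ext (Prod.ext (congrArg Subtype.val hk) (by simp [x1])))⟩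
  obtain ⟨k, hk⟩ := IsPGroup.iff_card.1 p
  obtain ⟨s, hs⟩ := exists_sec (f := (MonoidHom.snd G T).comp L.subtype)
    (fun l => let ⟨g, hg⟩ := ht l; ⟨⟨(g, l), hg⟩, rfl⟩) (hk ▸ (Nat.coprime_two_left.2 hT).pow_left k)
  exact ⟨(MonoidHom.fst G T).comp (L.subtype.comp s), fun l => by
    have : Act e (s l).1.1 (τ (s l).1.2) := (s l).2
    rwa [show (s l).1.2 = l from hs l] at this⟩

/-- `w` normalizes `L = P.map e ⊔ H.range`, in which `H.range` is a Hall `2'`-subgroup; `L` is solvable.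
`Hall.of_sd`, `Hall.exists_le_conj` (cf. `RF4.CD.stdz`); the conjugating element of `L` may be taken in `P.map e`. -/
theorem adjust {T : Type*} [CommGroup T] [Finite T] (hT : Odd (Nat.card T)) (H : T →* G) {w : G}
    (hw : ∀ l, ∃ v ∈ P, ∃ l', w * H l * w⁻¹ = e v * H l') :
    ∃ v ∈ P, ∀ l, ∃ l', e v * w * H l * (e v * w)⁻¹ = H l' := by
  have := h.normal
  have p2 : PiGrp {2} (P.map e) := PiGrp.p_iff.2 ((hX.to_subgroup P).map e)
  have o : PiGrp {2}ᶜ H.range := GW.pi_odd_iff.2 (hT.of_dvd_nat (card_range_dvd _))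
  have n : H.range ≤ 𝐍(P.map e) := le_normalizer_of_normal
  have sd := SD.of_norm n (p2.inf_eq_bot o)
  obtain ⟨g, hg, hle⟩ := (Hall.of_sd sd p2 o).2.exists_conj_le (GW.sol_sup (pgroup_sol p2.pgroup)
    (abelian_sol inferInstance) n) (U := w ⋆ H.range) (by
      rintro _ ⟨_, ⟨l, rfl⟩, rfl⟩
      obtain ⟨v, hv, l', e'⟩ := hw l
      exact (congrArg (· ∈ _) e').mpr (mul_mem_sup (mem_map_of_mem e hv) ⟨l', rfl⟩)) (o.conj w)
  obtain ⟨y, hy, _, ⟨v, hv, rfl⟩, rfl⟩ := sd.mem' hg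
  refine ⟨v, hv, fun l => ?_⟩
  obtain ⟨l', e'⟩ := conj_mem_of_norm' (le_norm _ hy) (hle ⟨_, ⟨_, ⟨l, rfl⟩, rfl⟩, rfl⟩)
  exact ⟨l', by simp [e', mul_assoc]⟩

end Lc

end Cfsg.Lib.FR
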