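import Cfsg.Agent.Lib.FR.Inv
import Cfsg.Agent.Lib.FR.Gen
import Cfsg.Agent.Lib.RF4.Tor

/-!
# S5262: automorphisms of `V K`.  See `docs/FR.md`.
-/

set_option autoImplicit false

namespace Cfsg.Lib.FR

open Subgroup Cfsg.Lib.BG Cfsg.Lib.G2S Cfsg.Lib.RF4 Cfsg.Lib.RF4.V
open scoped commutatorElement Cfsg.Lib.Transfer

variable {K : Type*} [Field K] [Tw K]

theorem tor_inj : Function.Injective (tor : Kˣ × Kˣ → MulAut (V K)) := fun l l' h => by
  have a := congrArg V.a1 (DFunLike.congr_fun h (x1 1))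
  have b := congrArg V.b8 (DFunLike.congr_fun h (y8 1))
  vs at a b
  exact Prod.ext (Units.ext a) (Units.ext b)

theorem tor_w6 (l : Kˣ × Kˣ) (a : K) : tor l (x6 a) = x6 (w6 l * a) := by vs; simp [w6]

theorem w4_eq (l : Kˣ × Kˣ) : w4 l = l.1 * w6 l := by simp only [w4, w6, sq, mul_assoc]

theorem w46_inj {l l' : Kˣ × Kˣ} (h4 : w4 l = w4 l') (h6 : w6 l = w6 l') : l = l' := by
  have h1 : l.1 = l'.1 := mul_right_cancel (by rw [← w4_eq, h4, w4_eq, h6])
  refine Prod.ext h1 (Units.ext (nm_inj (nm_inj ?_)))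
  simp only [w6, h1, mul_assoc, mul_right_inj] at h6
  have := congrArg Units.val h6
  simp only [Units.val_mul, Units.val_pow_eq_pow_val, coe_σu, map_mul, σσ] at this ⊢
  linear_combination this

theorem w4_ws (l : Kˣ × Kˣ) : w4 (ws l) = w6 l := Units.ext (by
  have h1 := l.1.ne_zero
  have h2 := mt σ_eq_zero.1 h1
  simp [w4, w6, ws]; field_simp)

theorem w6_ws (l : Kˣ × Kˣ) : w6 (ws l) = w4 l := Units.ext (by
  have h1 := l.1.ne_zero
  have h2 := mt σ_eq_zero.1 h1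
  simp [w4, w6, ws]; field_simp)

theorem wr_wr (l : Kˣ × Kˣ) : wr (wr l) = l := Prod.ext (by simp [wr, mul_assoc, mul_left_comm (σu l.2)]) (inv_inv _)

theorem ρr_tor (l : Kˣ × Kˣ) (v : V K) : ρr (tor l v) = tor (wr l) (ρr v) := by
  obtain ⟨a, b⟩ := l
  have h1 := b.mul_inv
  have h2 := congrArg σ h1
  simp only [wr]
  vs
  simp only [Units.val_mul, Units.val_pow_eq_pow_val, coe_σu, map_mul, map_one, map_add, map_pow, σσ] at *
  generalize (b⁻¹ : Kˣ).1 = b' at *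
  constructorm* _ ∧ _ <;> grind

variable [Finite K]

theorem w46_surj (a b : Kˣ) : ∃ l, w4 l = a ∧ w6 l = b := by
  obtain ⟨l, h⟩ := Finite.surjective_of_injective (f := fun l : Kˣ × Kˣ => (w4 l, w6 l))
    (fun _ _ h => w46_inj (congrArg Prod.fst h) (congrArg Prod.snd h)) (a, b)
  exact ⟨l, congrArg Prod.fst h, congrArg Prod.snd h⟩

theorem σ_comm (φ : RingAut K) (t : K) : σ (φ t) = φ (σ t) := by
  obtain ⟨m, hm⟩ := (σu (K := K)).map_cyclic
  have k : ∀ t : K, t ≠ 0 → σ t = t ^ m := fun t h => by simpa using congrArg Units.val (hm (.mk0 t h))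
  by_cases h : t = 0
  · simp [h]
  rw [k _ h, k _ ((map_ne_zero φ).2 h), map_zpow₀]

/-- Apply a map to all coordinates. -/
def mp (φ : K → K) (v : V K) : V K :=
  ⟨φ v.a1, φ v.b2, φ v.c2, φ v.a3, φ v.b4, φ v.c4, φ v.a5, φ v.b6, φ v.c6, φ v.a7, φ v.b8, φ v.c8⟩

/-- Field automorphisms. -/
def fld : RingAut K →* MulAut (V K) where
  toFun φ :=
    { toFun := mp φ
      invFun := mp φ.symm
      left_inv := fun v => by simp [mp]
      right_inv := fun v => by simp [mp]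
      map_mul' := fun v w => by
        ext <;> simp only [mp, mul_def, V.mul, map_add, map_mul, map_pow, σ_comm] }
  map_one' := rfl
  map_mul' _ _ := rfl

theorem fld_apply (φ : RingAut K) (v : V K) : fld φ v =
    ⟨φ v.a1, φ v.b2, φ v.c2, φ v.a3, φ v.b4, φ v.c4, φ v.a5, φ v.b6, φ v.c6, φ v.a7, φ v.b8, φ v.c8⟩ := rfl

/-- The action of field automorphisms on the torus. -/
def ft (φ : RingAut K) (l : Kˣ × Kˣ) : Kˣ × Kˣ := (Units.map (φ : K →* K) l.1, Units.map (φ : K →* K) l.2)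

theorem fld_tor (φ : RingAut K) (l : Kˣ × Kˣ) : fld φ * tor l = tor (ft φ l) * fld φ := MulEquiv.ext fun v => by
  simp only [MulAut.mul_apply, fld_apply, ft]; vs; simp [σ_comm]

/-- A field automorphism which is a scalar multiplication is trivial. -/
theorem eq_one_of_mul {φ : RingAut K} {a b : K} (ha : a ≠ 0) (h : ∀ t, a * φ t = b * t) : a = b ∧ φ = 1 := by
  have h1 : a = b := by simpa using h 1
  exact ⟨h1, RingEquiv.ext fun t => mul_left_cancel₀ ha (h1 ▸ h t)⟩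

/-- Every automorphism of `K` (also `σ`) is a power of the Frobenius map `F = σ ∘ σ`
(`FiniteField.exists_forall_apply_eq_pow` with `ZMod.algebra K 2`, or `bijective_frobeniusAlgEquivOfAlgebraic_pow`).
From `σ = F ^ i` we get `F ^ (2 * i) = F`, so `F` has odd order. -/
theorem odd_ringAut : Odd (Nat.card (RingAut K)) := by
  letI := ZMod.algebra K 2
  let s : RingAut K := RingEquiv.ofBijective σ ⟨(σ : K →+* K).injective, σ_surj⟩
  have p : ∀ (n : ℕ) (x : K), ((s * s) ^ n) x = x ^ 2 ^ n := fun n => by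
    induction n with
    | zero => simp
    | succ n ih =>
      intro x
      rw [pow_succ', pow_succ, pow_mul, ← ih]
      exact σσ _
  have k : ∀ φ : RingAut K, φ ∈ zpowers (s * s) := fun φ => by
    obtain ⟨i, hi⟩ := FiniteField.exists_forall_apply_eq_pow (ZMod 2) 2 K
      (AlgEquiv.ofRingEquiv (f := φ) fun x =>
        DFunLike.congr_fun (Subsingleton.elim ((φ : K →+* K).comp (algebraMap (ZMod 2) K)) (algebraMap (ZMod 2) K)) x)
    rw [Nat.card_zmod] at hi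
    exact ⟨i, RingEquiv.ext fun x => by simp only [zpow_natCast, p, ← hi]; rfl⟩
  obtain ⟨i, hi⟩ := mem_zpowers_iff.1 (k s)
  have d : (orderOf (s * s) : ℤ) ∣ 2 * i - 1 := orderOf_dvd_iff_zpow_eq_one.2 (by
    rw [zpow_sub, two_mul, zpow_add, hi, zpow_one, mul_inv_cancel])
  rw [← orderOf_eq_card_of_forall_mem_zpowers k]
  exact (Int.natAbs_odd.2 ⟨i - 1, by ring⟩).of_dvd_nat (Int.natCast_dvd.1 d)

/-- `α` preserves `R`, `Q8`, `Ph`, `X8` (`aut_R`, `aut_Q8`, `aut_Ph`; `X8 = C(Z3)`: `X8_of`, `x_Z3`, `aut_Z3`).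
So `(α v).a1 = f v.a1`, `(α v).b8 = g v.b8` (cf. `aut_lin`), `(α v).b2 = k v.b2` for `v ∈ Ph`, with additive
injective `f s = (α (x1 s)).a1`, `g t = (α (y8 t)).b8`, `k u = (α (y2 u)).b2`.  From
`⁅v, w⁆.b2 = v.a1 * w.b8 + v.b8 * w.a1` we get `f s * g t = k (s * t)`, so `φ s = k s / k 1` is a ring automorphism
(`RingEquiv.ofBijective`) with `f s = f 1 * φ s`, `g t = g 1 * φ t`; take `l = (f 1, g 1)`. -/
theorem aut_dec (α : MulAut (V K)) : ∃ l φ, ∀ v, (tor l (fld φ v))⁻¹ * α v ∈ Ph := by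
  obtain ⟨f, hf⟩ : ∃ f : K → K, ∀ v, (α v).a1 = f v.a1 :=
    ⟨fun s => (α (x1 s)).a1, fun v => R_iff.1 (by simpa using aut_R α (dec_R v))⟩
  obtain ⟨g, hg⟩ : ∃ g : K → K, ∀ v, (α v).b8 = g v.b8 := ⟨fun s => (α (y8 s)).b8, fun v =>
    Q8_iff.1 (by simpa using aut_Q8 α (Q8_iff.2 (show v.b8 = (y8 v.b8).b8 from rfl)))⟩
  have i8 : ∀ v ∈ Ph, ∀ w ∈ Ph, v * w⁻¹ ∈ (X8 : Subgroup (V K)) ↔ v.b2 = w.b2 := fun v hv w hw => by
    clear * - hv hw; dz v hv; dz w hw; vz; grind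
  have m2 : ∀ s : K, y2 s ∈ Ph := fun s => by vz
  obtain ⟨k, hk⟩ : ∃ k : K → K, ∀ v ∈ Ph, (α v).b2 = k v.b2 := ⟨fun s => (α (y2 s)).b2, fun v hv =>
    (i8 _ (aut_Ph α hv) _ (aut_Ph α (m2 _))).1 (by
      rw [← map_inv, ← map_mul]
      refine X8_of fun z hz => ?_
      have := congrArg α (x_Z3 (aut_Z3 α.symm hz) ((i8 _ hv _ (m2 v.b2)).2 rfl))
      rwa [map_commutatorElement, MulEquiv.apply_symm_apply, map_one] at this)⟩
  have a0 : f 1 ≠ 0 := fun e => by simpa [mem_R, x1] using aut_R α.symm ((hf (x1 1)).trans e)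
  have b0 : g 1 ≠ 0 := fun e => by simpa [mem_Q8, y8] using aut_Q8 α.symm ((hg (y8 1)).trans e)
  have km : ∀ s t, k (s * t) = f s * g t := fun s t => by
    have e1 := hk _ (c_V (y8 t) (x1 s))
    have e2 : (α (x1 s)).a1 = f s := hf _
    have e3 : (α (y8 t)).b8 = g t := hg _
    have e4 : (α (x1 s)).b8 = 0 := aut_Q8 α (by vz)
    rw [map_commutatorElement, show (⁅x1 s, y8 t⁆ : V K).b2 = s * t by vq] at e1
    rw [← e1, ← e2, ← e3]
    generalize α (x1 s) = a, α (y8 t) = b at e4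
    clear * - e4
    vz; grind
  have ka : ∀ s t, k (s + t) = k s + k t := fun s t => by
    have e1 := hk _ (mul_mem (m2 s) (m2 t))
    have e2 : (α (y2 s)).b2 = k s := hk _ (m2 s)
    have e3 : (α (y2 t)).b2 = k t := hk _ (m2 t)
    have e4 : (α (y2 s)).b8 = 0 := (aut_Ph α (m2 s)).2
    rw [map_mul, show (y2 s * y2 t : V K).b2 = s + t by vq] at e1
    rw [← e1, ← e2, ← e3]
    generalize α (y2 s) = a, α (y2 t) = b at e4
    clear * - e4
    vz; grind
  have k1 : ∀ s, k s = f s * g 1 := fun s => by rw [← km, mul_one]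
  have k2 : ∀ s, k s = f 1 * g s := fun s => by rw [← km, one_mul]
  let φ : K →+* K := .mk' ⟨⟨fun s => k s / (f 1 * g 1), by simp [k1, a0, b0]⟩, fun s t => by
    change k (s * t) / _ = k s / _ * (k t / _)
    rw [km, k1 s, k2 t]; field_simp⟩ fun s t => by
    change k (s + t) / _ = k s / _ + k t / _
    rw [ka, add_div]
  refine ⟨(.mk0 _ a0, .mk0 _ b0), RingEquiv.ofBijective φ (Finite.injective_iff_bijective.1 φ.injective), fun v => ?_⟩
  have e1 : (α v).a1 = f 1 * φ v.a1 := by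
    change _ = _ * (k _ / _)
    rw [hf, k1]; field_simp
  have e2 : (α v).b8 = g 1 * φ v.b8 := by
    change _ = _ * (k _ / _)
    rw [hg, k2]; field_simp
  simp only [fld_apply, RingEquiv.ofBijective_apply]
  generalize α v = w at e1 e2
  vs
  simp only [e1, e2, Units.val_mk0]
  clear * -
  constructor <;> grind

/-- Copy `RF4.CD.O`, `O_two`, `stdz` (`Lib/RF4/Stdz`) for the group `MulAut (V K)` itself:
`O = {α | ∀ v, v⁻¹ * α v ∈ Ph}` is a normal `2`-subgroup (`aut_eq_one`), `W = tor.range ⊔ fld.range` consists of the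
`tor l * fld φ` (`fld_tor`) and has odd order (`odd_T`, `odd_ringAut`), `O ⊔ W = ⊤` by `aut_dec`, so `W` is a Hall
`2'`-subgroup of a solvable group.  `Inn` is a normal `2`-subgroup of odd index in `H`; a complement `A`
(Schur-Zassenhaus, or a Hall `2'`-subgroup of `H`) is conjugate into `W` (`Hall.exists_le_conj`), and `Inn` is normal. -/
theorem exists_std {H : Subgroup (MulAut (V K))} (h1 : (MulAut.conj : V K →* MulAut (V K)).range ≤ H)
    (h2 : Odd ((MulAut.conj : V K →* MulAut (V K)).range.relIndex H)) :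
    ∃ β : MulAut (V K), ∀ α ∈ H, ∃ v l φ, β * α * β⁻¹ = MulAut.conj v * tor l * fld φ := by
  let O : Subgroup (MulAut (V K)) :=
    { carrier := {φ | ∀ v, v⁻¹ * φ v ∈ Ph}
      one_mem' := fun v => by simp
      mul_mem' := fun {φ ψ} h2 h4 v => by simpa [mul_assoc] using mul_mem (h2 v) (aut_Ph φ (h4 v))
      inv_mem' := fun {φ} h2 v => by simpa using inv_mem (h2 (φ⁻¹ v)) }
  have nO : O.Normal := ⟨fun φ h β v => by simpa using aut_Ph β (h (β⁻¹ v))⟩
  have o2 : PiGrp {2} O := fun p hp hd => by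
    have := Fact.mk hp
    obtain ⟨⟨β, hβ⟩, e⟩ := exists_prime_orderOf_dvd_card' p hd
    rw [orderOf_mk] at e
    by_contra h
    rw [aut_eq_one (e ▸ hp.odd_of_ne_two h) hβ, orderOf_one] at e
    exact hp.one_lt.ne e
  have n1 : (fld : RingAut K →* MulAut (V K)).range ≤ 𝐍((tor : Kˣ × Kˣ →* MulAut (V K)).range) := le_norm_iff.2 (by
    rintro _ ⟨φ, rfl⟩ _ ⟨l, rfl⟩
    exact ⟨ft φ l, by rw [fld_tor, mul_inv_cancel_right]⟩)
  have p1 : PiGrp {2}ᶜ (tor : Kˣ × Kˣ →* MulAut (V K)).range := GW.pi_odd_iff.2 (odd_T.of_dvd_nat (card_range_dvd _))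
  have p2 : PiGrp {2}ᶜ (fld : RingAut K →* MulAut (V K)).range :=
    GW.pi_odd_iff.2 (odd_ringAut.of_dvd_nat (card_range_dvd _))
  have pW := p1.sup p2 n1
  have mW := fun x => mem_sup_left_norm (x := x) n1
  have tW : ∀ l φ, tor l * fld φ ∈ _ := fun l φ => (mW _).2 ⟨_, ⟨l, rfl⟩, _, ⟨φ, rfl⟩, rfl⟩
  generalize (tor : Kˣ × Kˣ →* MulAut (V K)).range ⊔ (fld : RingAut K →* MulAut (V K)).range = W at pW mW tW
  have hn : W ≤ 𝐍(O) := le_normalizer_of_normal
  have nI : (MulAut.conj : V K →* MulAut (V K)).range.Normal := ⟨by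
    rintro _ ⟨v, rfl⟩ β
    exact ⟨β v, MulEquiv.ext fun x => by simp⟩⟩
  obtain ⟨A, sd, hA⟩ := (Hall.mk' (π := {2}) h1 (PiGrp.p_iff.2 (pgV.of_surjective _ (MonoidHom.rangeRestrict_surjective _)))
    (PiNat.p'_iff.2 h2.not_two_dvd_nat)).exists_compl le_normalizer_of_normal
  obtain ⟨g, -, hle⟩ := (Hall.of_sd ⟨hn, o2.inf_eq_bot pW, rfl⟩ o2 pW).2.exists_conj_le
    (GW.sol_sup (pgroup_sol o2.pgroup) (GW.odd_sol (GW.pi_odd_iff.1 pW)) hn) (U := A) (fun α _ => by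
      obtain ⟨l, φ, h⟩ := aut_dec α
      rw [← mul_inv_cancel_left (tor l * fld φ) α]
      refine mul_mem (mem_sup_right (tW l φ)) (mem_sup_left fun v => ?_)
      simpa using aut_Ph (tor l * fld φ)⁻¹ (h v)) hA.pi
  refine ⟨g, fun α hα => ?_⟩
  obtain ⟨_, ⟨v, rfl⟩, y, hy, rfl⟩ := (mem_sup_left_norm sd.norm).1 (sd.sup.ge hα)
  obtain ⟨_, ⟨l, rfl⟩, _, ⟨φ, rfl⟩, e⟩ := (mW _).1 (hle ⟨y, hy, rfl⟩)
  refine ⟨g v, l, φ, ?_⟩
  rw [mul_assoc (MulAut.conj _), e]
  exact MulEquiv.ext fun x => by simp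

variable {G : Type*} [Group G]

/-- The normalizer of the Sylow subgroup acts in the standard way. -/
def HH (e : V K →* G) : Prop :=
  ∀ g ∈ 𝐍(e.range), ∃ v l φ, Act e g fun x => v * tor l (fld φ x) * v⁻¹

/-- `T = T₄ T₅`. -/
theorem T45 (l : Kˣ × Kˣ) : ∃ m : Kˣ, l * (m ^ 2, m⁻¹) ∈ T4 K := by
  obtain ⟨m, h⟩ := Finite.surjective_of_injective (f := fun m : Kˣ => σu m * m⁻¹) (fun a b h => by
    have h0 : σu (a * b⁻¹) = a * b⁻¹ := by
      rw [map_mul, map_inv, mul_inv_eq_iff_eq_mul.1 h, mul_right_comm, mul_right_comm (σu b), mul_inv_cancel, one_mul,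
        mul_comm]
    have h2 : ∀ t : Kˣ, σu (σu t) = t ^ 2 := fun t => Units.ext (by simp)
    have h3 := h2 (a * b⁻¹)
    rw [h0, h0, sq, left_eq_mul] at h3
    exact mul_inv_eq_one.1 h3) (σu l.1 * l.2 * σu l.2)⁻¹
  refine ⟨m, ?_⟩
  change _ = _
  simp only [Prod.fst_mul, Prod.snd_mul, map_mul, map_pow, map_inv]
  rw [← mul_inv_cancel (σu l.1 * l.2 * σu l.2), ← h, sq]
  refine Units.ext ?_
  have := (σu m).ne_zero
  simp only [Units.val_mul, Units.val_inv_eq_inv_val]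
  field_simp

end Cfsg.Lib.FR
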