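import Cfsg.Agent.Lib.G2S.Au

/-!
# S5262: data of an essential subgroup relative to an ambient subgroup `N` (generic).  See `docs/FR.md`.
-/

set_option autoImplicit false

namespace Cfsg.Lib.FR

open Subgroup Cfsg.Lib.BG Cfsg.Lib.G2S
open scoped commutatorElement Cfsg.Lib.Transfer

variable {X Y : Type*} [Group X] [Group Y] {N N' E P A B : Subgroup X} {f g : X → X} {b : X}

/-- `G2S.Es` with all test elements restricted to the ambient subgroup `N`. -/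
structure Eh (N E : Subgroup X) (f : X → X) : Prop extends Au E f where
  le : E ≤ N
  cen : ∀ x ∈ N, (∀ e ∈ E, ⁅x, e⁆ = 1) → x ∈ E
  ff : ∃ e ∈ E, ∀ x ∈ E, f (f x) = e * x * e⁻¹
  t1 : ∀ b ∈ N, b ∈ 𝐍(E) → b * b ∈ E → Tr E f b E → b ∈ E
  t2 : ∀ B A W : Subgroup X, B ≤ N → ¬ B ≤ E → (∀ b ∈ B, b * b ∈ E) → W ≤ A → A ≤ E →
    (∀ e ∈ E, ∀ a ∈ A, ⁅e, a⁆ ∈ A) → (∀ y ∈ E, f y ∈ W ↔ y ∈ W) → (∀ b ∈ B, ∀ e ∈ E, ⁅b, e⁆ ∈ A) →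
    (∀ b ∈ B, ∀ a ∈ A, ⁅b, a⁆ ∈ W) → (∀ b ∈ B, ∀ w ∈ W, ⁅b, w⁆ = 1) →
    ∃ a ∈ E, f a ∈ A ∧ ∀ b ∈ B, f ⁅b, a⁆ ∈ A → b ∈ E
  comm : ∀ b ∈ N, b ∈ 𝐍(E) → ∀ b' ∈ N, b' ∈ 𝐍(E) → b * b ∈ E → b' * b' ∈ E → ⁅b, b'⁆ ∈ E

/-- `g` restricts to an isomorphism from `N` onto `M`. -/
structure Is (N : Subgroup X) (M : Subgroup Y) (g : X → Y) : Prop where
  mem : ∀ x ∈ N, g x ∈ M
  mul : ∀ x ∈ N, ∀ y ∈ N, g (x * y) = g x * g y
  ker : ∀ x ∈ N, g x = 1 → x = 1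
  surj : ∀ y ∈ M, ∃ x ∈ N, g x = y

theorem is_of_au (h : Au N g) : Is N N g := ⟨h.mem, h.mul, h.ker, h.surj⟩

namespace Is

variable {M : Subgroup Y} {g : X → Y} (h : Is N M g) {x y : X}
include h

theorem one : g 1 = 1 := by simpa using h.mul 1 N.one_mem 1 N.one_mem

theorem inv (hx : x ∈ N) : g x⁻¹ = (g x)⁻¹ :=
  eq_inv_of_mul_eq_one_left (by rw [← h.mul _ (inv_mem hx) _ hx, inv_mul_cancel, h.one])

theorem cm (hx : x ∈ N) (hy : y ∈ N) : g ⁅x, y⁆ = ⁅g x, g y⁆ := by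
  rw [commutatorElement_def, h.mul _ (mul_mem (mul_mem hx hy) (inv_mem hx)) _ (inv_mem hy),
    h.mul _ (mul_mem hx hy) _ (inv_mem hx), h.mul _ hx _ hy, h.inv hx, h.inv hy, commutatorElement_def]

theorem inj (hx : x ∈ N) (hy : y ∈ N) (e : g x = g y) : x = y :=
  mul_inv_eq_one.1 (h.ker _ (mul_mem hx (inv_mem hy)) (by rw [h.mul _ hx _ (inv_mem hy), h.inv hy, e, mul_inv_cancel]))

/-- The preimage of `A`. -/
def pre (A : Subgroup Y) : Subgroup X where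
  carrier := {y | y ∈ N ∧ g y ∈ A}
  one_mem' := ⟨N.one_mem, by rw [h.one]; exact A.one_mem⟩
  mul_mem' := fun ha hb => ⟨mul_mem ha.1 hb.1, by rw [h.mul _ ha.1 _ hb.1]; exact mul_mem ha.2 hb.2⟩
  inv_mem' := fun ha => ⟨inv_mem ha.1, by rw [h.inv ha.1]; exact inv_mem ha.2⟩

theorem mem_pre {A : Subgroup Y} : y ∈ h.pre A ↔ y ∈ N ∧ g y ∈ A := Iff.rfl

theorem symm : ∃ k, Is M N k ∧ (∀ x ∈ N, k (g x) = x) ∧ ∀ y ∈ M, g (k y) = y := by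
  choose! k h1 h2 using h.surj
  have h3 : ∀ x ∈ N, k (g x) = x := fun x hx => h.inj (h1 _ (h.mem x hx)) hx (h2 _ (h.mem x hx))
  exact ⟨k, ⟨h1, fun x hx y hy => h.inj (h1 _ (mul_mem hx hy)) (mul_mem (h1 x hx) (h1 y hy)) (by
    rw [h.mul _ (h1 x hx) _ (h1 y hy), h2 x hx, h2 y hy, h2 _ (mul_mem hx hy)]),
    fun x hx e => by rw [← h2 x hx, e, h.one], fun x hx => ⟨_, h.mem x hx, h3 x hx⟩⟩, h3, h2⟩

end Is

/-- An `f`-invariant series from `⊥` up to the subgroup on whose factors `X` acts trivially. -/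
inductive Ch (f : X → X) : Subgroup X → Prop
  | bot : Ch f ⊥
  | step {A B : Subgroup X} : Ch f A → A ≤ B → (∀ x ∈ B, ∀ v : X, ⁅v, x⁆ ∈ A) → (∀ x ∈ B, f x ∈ B) → Ch f B

theorem Ch.mem (h : Ch f A) (h1 : f 1 = 1) : ∀ x ∈ A, f x ∈ A := by
  cases h with
  | bot => intro x hx; rw [mem_bot.1 hx, h1]; exact one_mem _
  | step _ _ _ h => exact h

theorem tr_step [Finite X] (a : Au E f) (h : Tr E f b A) (h1 : A ≤ B) (h2 : B ≤ E) (h3 : ∀ x ∈ B, ⁅b, x⁆ ∈ A)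
    (hA : ∀ x ∈ A, f x ∈ A) (hB : ∀ x ∈ B, f x ∈ B) : Tr E f b B :=
  h.step' h1 h2 h3 hA fun _ hy e => (a.iff_of_le h2 hB hy).1 e

theorem Ch.tr [Finite X] (h : Ch f A) (a : Au E f) (hA : A ≤ E) (b : X) : Tr E f b A := by
  induction h with
  | bot => exact .bot
  | step h l c i ih => exact tr_step a (ih (l.trans hA)) l hA (fun x hx => c x hx b) (h.mem a.one) i

theorem au_conj {v : X} (hv : v ∈ 𝐍(N)) : Au N fun x => v * x * v⁻¹ :=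
  ⟨fun _ hx => conj_mem_of_norm hv hx, fun _ _ _ _ => by group, fun _ _ => conj_eq_one_iff.1,
    fun y hy => ⟨v⁻¹ * y * v, conj_mem_of_norm' hv hy, by group⟩⟩

theorem au_comp (h : Au N f) (h' : Au N g) : Au N fun x => f (g x) :=
  ⟨fun x hx => h.mem _ (h'.mem x hx), fun x hx y hy => by rw [h'.mul x hx y hy, h.mul _ (h'.mem x hx) _ (h'.mem y hy)],
    fun x hx e => h'.ker x hx (h.ker _ (h'.mem x hx) e), fun y hy => by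
      obtain ⟨x, hx, rfl⟩ := h.surj y hy
      obtain ⟨x, hx', rfl⟩ := h'.surj x hx
      exact ⟨x, hx', rfl⟩⟩

theorem au_aut (α : MulAut X) : Au ⊤ α :=
  ⟨fun _ _ => trivial, fun x _ y _ => map_mul α x y, fun _ _ => α.map_eq_one_iff.1, fun y _ => ⟨α.symm y, trivial, by simp⟩⟩

theorem eh_of_es (h : Es E f) : Eh ⊤ E f :=
  ⟨h.toAu, le_top, fun x _ => h.cen x, h.ff, fun b _ => h.t1 b, fun B A W _ => h.t2 B A W,
    fun b _ hb b' _ hb' => h.comm b hb b' hb'⟩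

namespace Eh

theorem mono (h : Eh N E f) (h1 : E ≤ N') (h2 : N' ≤ N) : Eh N' E f :=
  ⟨h.toAu, h1, fun x hx => h.cen x (h2 hx), h.ff, fun b hb => h.t1 b (h2 hb),
    fun B A W hB => h.t2 B A W (hB.trans h2), fun b hb n b' hb' => h.comm b (h2 hb) n b' (h2 hb')⟩

/-- All test elements normalize `E` anyway (`mem_norm_of_cm`). -/
theorem up [Finite X] (h : Eh 𝐍(E) E f) : Eh ⊤ E f := by
  exact ⟨h.toAu, le_top, fun x _ c => h.cen x (mem_norm_of_cm fun e he => (c e he).symm ▸ one_mem E) c, h.ff,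
    fun b _ n => h.t1 b n n, fun B A W _ h0 h1 h2 h3 h4 h5 h6 =>
      h.t2 B A W (fun b hb => mem_norm_of_cm fun e he => h3 (h6 b hb e he)) h0 h1 h2 h3 h4 h5 h6,
    fun b _ n b' _ n' => h.comm b n n b' n' n'⟩

/-- Transport along an isomorphism.  `E' = g(E)`, `f' = g f g⁻¹` (choose an inverse `k` of `g` on `M`).
For `t1`, `t2` pull the subgroups `A' ≤ M` back to `{x ∈ N | g x ∈ A'}`; `Tr` pulls back by induction. -/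
theorem push [Finite X] {M : Subgroup Y} {g : X → Y} (h : Eh N E f) (hg : Is N M g) :
    ∃ (E' : Subgroup Y) (f' : Y → Y), Eh M E' f' ∧ (∀ x ∈ N, g x ∈ E' ↔ x ∈ E) ∧ ∀ x ∈ E, f' (g x) = g (f x) := by
  obtain ⟨k, hk, kg, gk⟩ := hg.symm
  obtain ⟨E', m, ex⟩ : ∃ E' : Subgroup Y, (∀ x ∈ N, g x ∈ E' ↔ x ∈ E) ∧ ∀ y ∈ E', ∃ x ∈ E, g x = y :=
    ⟨hk.pre E, fun x hx => by rw [hk.mem_pre, kg x hx]; exact and_iff_right (hg.mem x hx),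
      fun y hy => ⟨_, hy.2, gk y hy.1⟩⟩
  obtain ⟨f', ff⟩ : ∃ f' : Y → Y, ∀ x ∈ E, f' (g x) = g (f x) :=
    ⟨fun y => g (f (k y)), fun x hx => by simp only [kg x (h.le hx)]⟩
  have m1 : ∀ {x}, x ∈ E → g x ∈ E' := fun hx => (m _ (h.le hx)).2 hx
  have fN : ∀ {x}, x ∈ E → f x ∈ N := fun hx => h.le (h.mem _ hx)
  have le : ∀ {A : Subgroup Y}, A ≤ E' → hg.pre A ≤ E := fun l x hx => (m x hx.1).1 (l hx.2)
  have nm : ∀ {b}, b ∈ N → g b ∈ 𝐍(E') → b ∈ 𝐍(E) := fun hb n => mem_norm_of_cm fun e he =>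
    (m _ (Au.cm_mem hb (h.le he))).1 (by
      rw [hg.cm hb (h.le he)]
      exact mul_mem (conj_mem_of_norm n (m1 he)) (inv_mem (m1 he)))
  have sq : ∀ {b}, b ∈ N → g b * g b ∈ E' → b * b ∈ E := fun hb n =>
    (m _ (mul_mem hb hb)).1 (hg.mul _ hb _ hb ▸ n)
  have cm : ∀ {a b} {A : Subgroup Y}, a ∈ N → b ∈ N → ⁅g a, g b⁆ ∈ A → ⁅a, b⁆ ∈ hg.pre A := fun ha hb H =>
    ⟨Au.cm_mem ha hb, hg.cm ha hb ▸ H⟩
  have cm1 : ∀ {a b}, a ∈ N → b ∈ N → ⁅g a, g b⁆ = 1 → ⁅a, b⁆ = 1 := fun ha hb H =>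
    hg.ker _ (Au.cm_mem ha hb) (hg.cm ha hb ▸ H)
  refine ⟨E', f', ⟨⟨fun y hy => ?_, fun y hy z hz => ?_, fun y hy e => ?_, fun y hy => ?_⟩, fun y hy => ?_,
    fun y hy c => ?_, ?_, fun y hy n y2 t => ?_, fun B A W hB h0 h1 h2 h3 h4 h5 h6 h7 h8 => ?_,
    fun y hy n z hz n' y2 z2 => ?_⟩, m, ff⟩
  · obtain ⟨x, hx, rfl⟩ := ex y hy
    exact ff x hx ▸ m1 (h.mem x hx)
  · obtain ⟨x, hx, rfl⟩ := ex y hy
    obtain ⟨w, hw, rfl⟩ := ex z hz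
    rw [← hg.mul _ (h.le hx) _ (h.le hw), ff _ (mul_mem hx hw), ff _ hx, ff _ hw, h.mul _ hx _ hw,
      hg.mul _ (fN hx) _ (fN hw)]
  · obtain ⟨x, hx, rfl⟩ := ex y hy
    rw [h.ker x hx (hg.ker _ (fN hx) (ff x hx ▸ e)), hg.one]
  · obtain ⟨x, hx, rfl⟩ := ex y hy
    obtain ⟨x, hx', rfl⟩ := h.surj x hx
    exact ⟨_, m1 hx', ff x hx'⟩
  · obtain ⟨x, hx, rfl⟩ := ex y hy
    exact hg.mem x (h.le hx)
  · obtain ⟨x, hx, rfl⟩ := hg.surj y hy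
    exact m1 (h.cen x hx fun e he => cm1 hx (h.le he) (c _ (m1 he)))
  · obtain ⟨e, he, H⟩ := h.ff
    refine ⟨_, m1 he, fun y hy => ?_⟩
    obtain ⟨x, hx, rfl⟩ := ex y hy
    rw [ff x hx, ff _ (h.mem x hx), H x hx, hg.mul _ (h.le (mul_mem he hx)) _ (h.le (inv_mem he)),
      hg.mul _ (h.le he) _ (h.le hx), hg.inv (h.le he)]
  · obtain ⟨b, hb, rfl⟩ := hg.surj y hy
    have n' := nm hb n
    have : ∀ {A}, Tr E' f' (g b) A → Tr E f b (hg.pre A) := fun t => by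
      induction t with
      | bot => exact (eq_bot_iff.2 fun x hx => hg.ker x hx.1 hx.2 : hg.pre ⊥ = ⊥) ▸ .bot
      | step _ l1 l2 c1 c2 ih =>
        refine ih.step (fun x hx => ⟨hx.1, l1 hx.2⟩) (le l2) (fun x hx => cm hb hx.1 (c1 _ hx.2)) fun y hy e => ?_
        have k : ⁅b, y⁆ ∈ E := mul_mem (conj_mem_of_norm n' hy) (inv_mem hy)
        refine ⟨fN k, ?_⟩
        rw [← ff _ k, hg.cm hb (h.le hy)]
        exact c2 _ (m1 hy) (ff y hy ▸ e.2)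
    exact m1 (h.t1 b hb n' (sq hb y2) (le_antisymm (le le_rfl) (fun x hx => ⟨h.le hx, m1 hx⟩) ▸ this t))
  · obtain ⟨a, ha, a1, a2⟩ := h.t2 (hg.pre B) (hg.pre A) (hg.pre W) (fun _ hx => hx.1) (fun H => h0 fun y hy => by
        obtain ⟨x, hx, rfl⟩ := hg.surj y (hB hy)
        exact m1 (H ⟨hx, hy⟩)) (fun b hb => sq hb.1 (h1 _ hb.2)) (fun x hx => ⟨hx.1, h2 hx.2⟩) (le h3)
      (fun e he a ha => cm (h.le he) ha.1 (h4 _ (m1 he) _ ha.2))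
      (fun y hy => by rw [hg.mem_pre, hg.mem_pre, ← ff y hy, h5 _ (m1 hy), and_iff_right (fN hy), and_iff_right (h.le hy)])
      (fun b hb e he => cm hb.1 (h.le he) (h6 _ hb.2 _ (m1 he))) (fun b hb a ha => cm hb.1 ha.1 (h7 _ hb.2 _ ha.2))
      fun b hb w hw => cm1 hb.1 hw.1 (h8 _ hb.2 _ hw.2)
    refine ⟨_, m1 ha, ff a ha ▸ a1.2, fun y hy e => ?_⟩
    obtain ⟨b, hb, rfl⟩ := hg.surj y (hB hy)
    have k := le h3 (cm hb (h.le ha) (h6 _ hy _ (m1 ha)))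
    exact m1 (a2 b ⟨hb, hy⟩ ⟨fN k, by rwa [← ff _ k, hg.cm hb (h.le ha)]⟩)
  · obtain ⟨b, hb, rfl⟩ := hg.surj y hy
    obtain ⟨c, hc, rfl⟩ := hg.surj z hz
    exact hg.cm hb hc ▸ m1 (h.comm b hb (nm hb n) c hc (nm hc n') (sq hb y2) (sq hc z2))

theorem map [Finite X] (h : Eh N E f) (hg : Au N g) :
    ∃ (E' : Subgroup X) (f' : X → X), Eh N E' f' ∧ (∀ x ∈ N, g x ∈ E' ↔ x ∈ E) ∧ ∀ x ∈ E, f' (g x) = g (f x) :=
  h.push (is_of_au hg)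

/-- Normalizer condition: if `P ≰ E`, then `E < P ⊔ E`, so some `p ∈ P ⊓ 𝐍(E)` is outside `E`
(`P ⊔ E = P E`); take the last power `b = p ^ 2 ^ k ∉ E`; `t1` gives `b ∈ E`. -/
theorem le_of_tr [Finite X] (hX : IsPGroup 2 X) (h : Eh N E f) (hP : P ≤ N) (hn : E ≤ 𝐍(P))
    (t : ∀ b ∈ P, b ∈ 𝐍(E) → b * b ∈ E → Tr E f b E) : P ≤ E := by
  by_contra H
  obtain ⟨b, hb, b1, b2, c⟩ := PGroup.exists_mem_not_mem_pow_mem (hX.to_subgroup (E ⊔ P)) le_sup_left le_sup_right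
    (sup_le_norm_right hn) H
  have n : b ∈ 𝐍(E) := mem_norm_of_cm fun e he => c e (mem_sup_left he)
  exact b1 (h.t1 b (hP hb) n (sq b ▸ b2) (t b hb n (sq b ▸ b2)))

/-- `t1` for the series `⊥ ≤ A ≤ E`. -/
theorem mem_of_two [Finite X] (h : Eh N E f) (hA : A ≤ E) (i : ∀ x ∈ A, f x ∈ A) (hb : b ∈ N) (b2 : b * b ∈ E)
    (h1 : ∀ e ∈ E, ⁅b, e⁆ ∈ A) (h2 : ∀ a ∈ A, ⁅b, a⁆ = 1) : b ∈ E :=
  h.t1 b hb (mem_norm_of_cm fun e he => hA (h1 e he)) b2 (tr_step h.toAu (tr_step h.toAu .bot bot_le hA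
    (fun x hx => mem_bot.2 (h2 x hx)) (fun x hx => by rw [mem_bot.1 hx, h.one]; exact one_mem _) i)
    hA le_rfl h1 i h.mem)

/-- `t2` with `W = ⊥`. -/
theorem t3 (h : Eh N E f) (hB : B ≤ N) (h0 : ¬ B ≤ E) (h1 : ∀ b ∈ B, b * b ∈ E) (hA : A ≤ E)
    (h2 : ∀ e ∈ E, ∀ a ∈ A, ⁅e, a⁆ ∈ A) (h3 : ∀ b ∈ B, ∀ e ∈ E, ⁅b, e⁆ ∈ A) (h4 : ∀ b ∈ B, ∀ a ∈ A, ⁅b, a⁆ = 1) :
    ∃ a ∈ E, f a ∈ A ∧ ∀ b ∈ B, f ⁅b, a⁆ ∈ A → b ∈ E :=
  h.t2 B A ⊥ hB h0 h1 bot_le hA h2 (fun y hy => by rw [mem_bot, mem_bot, h.eq_one hy]) h3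
    (fun b hb a ha => mem_bot.2 (h4 b hb a ha)) fun b _ w hw => by simp [mem_bot.1 hw]

/-- An element whose image is central is central. -/
theorem cen_of (h : Eh N E f) {a : X} (ha : a ∈ E) (c : ∀ e ∈ E, ⁅f a, e⁆ = 1) : ∀ e ∈ E, ⁅a, e⁆ = 1 :=
  fun e he => (h.cm1 ha he).1 (c _ (h.mem e he))

/-- The image of a central element is central. -/
theorem cen_im (h : Eh N E f) {a : X} (ha : a ∈ E) (c : ∀ e ∈ E, ⁅a, e⁆ = 1) : ∀ e ∈ E, ⁅f a, e⁆ = 1 := fun e he => by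
  obtain ⟨x, hx, rfl⟩ := h.surj e he
  exact (h.cm1 ha hx).2 (c x hx)

end Eh

end Cfsg.Lib.FR
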