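import Cfsg.Agent.Lib.FR.Aut

/-!
# S5262: endomorphisms of `Q` commuting with the torus.  See `docs/FR.md`.
-/

set_option autoImplicit false

namespace Cfsg.Lib.FR

open Subgroup Cfsg.Lib.BG Cfsg.Lib.G2S Cfsg.Lib.RF4 Cfsg.Lib.RF4.V
open scoped commutatorElement Cfsg.Lib.Transfer

variable {K : Type*} [Field K] [Tw K] [Finite K]

omit [Finite K] in
theorem iq_R {l : Kˣ × Kˣ} (h1 : l.1 ≠ 1) {v : V K} (h : tor l v = v) : v ∈ R :=
  (mul_left_eq_self₀.1 (congrArg V.a1 h)).resolve_left (mt Units.val_eq_one.1 h1)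

omit [Finite K] in
theorem iq_fix1 {a : Kˣ} (a1 : a ≠ 1) {v : V K} (h : tor (1, a) v = v) : v = x1 v.a1 :=
  mul_inv_eq_one.1 (fixR a1 (dec_R v) (by rw [map_mul, map_inv, h]; congr 2; vs; simp))

omit [Finite K] in
theorem iq_fix7 {a : Kˣ} (a1 : a ≠ 1) {v : V K} (hv : v ∈ Q) (h : tor (wr (1, a)) v = v) : v = x7 v.a7 := by
  have := iq_fix1 a1 (v := ρr v) (by rw [← wr_wr (1, a), ← ρr_tor, h])
  rw [← ρr_ρr hv, this]; vz

omit [Finite K] in
theorem iq_prod {v : V K} (h : v ∈ Q) : v = x1 v.a1 * y2 v.b2 * x2 v.c2 * x3 v.a3 * y4 v.b4 * x4 v.c4 * x5 v.a5 *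
    y6 v.b6 * x6 v.c6 * x7 v.a7 := by
  dst v h; vp

/-- `RF4.root` for an arbitrary subgroup. -/
theorem iq_root {P : Subgroup (V K)} {y x : K → V K} {β : V K → V K} {N : Subgroup (V K)} {wt : Kˣ × Kˣ → K} {a : K}
    (a0 : a ≠ 0) (a1 : a ≠ 1) (hm : ∀ v ∈ P, ∀ w ∈ P, β (v * w) = β v * β w)
    (ht : ∀ l, ∀ v ∈ P, β (tor l v) = tor l (β v))
    (hy : ∀ t, y t ∈ P) (hx : ∀ t, x t ∈ P) (h0 : β (y 1) ∈ N) (hN : ∀ v ∈ N, ∃ c d, v = y c * x d)
    (h1 : ∀ t ≠ 0, ∃ l, wt l = t) (h2 : ∀ l c d, tor l (y c * x d) = y (wt l * c) * x (wt l * σ (wt l) * d))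
    (h3 : ∀ c d c' d', y c * x d * (y c' * x d') = y (c + c') * x (d + d' + c * σ c'))
    (h4 : ∀ c d c' d', y c * x d = y c' * x d' → d = d') (h5 : x 0 = 1) (h6 : y 0 = 1) :
    ∃ c, (∀ t, β (y t) = y (t * c)) ∧ ∀ t, β (x t) = x (t * (c * σ c)) := by
  obtain ⟨c, d, e⟩ := hN _ h0
  have b1 : β 1 = 1 := by simpa using hm 1 (one_mem _) 1 (one_mem _)
  have k : ∀ t, β (y t) = y (t * c) * x (t * σ t * d) := fun t => by
    by_cases h : t = 0
    · simp [h, h5, h6, b1]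
    obtain ⟨l, rfl⟩ := h1 t h
    have := ht l _ (hy 1)
    rw [e, h2] at this
    rw [← this]
    simpa [h5] using congrArg β (h2 l 1 0).symm
  have k' : ∀ t, β (x t) = x (t * (c * σ c)) := fun t => by
    obtain ⟨t, rfl⟩ := nm_surj t
    have := h3 t 0 t 0
    rw [h5, mul_one, CharTwo.add_self_eq_zero, h6, one_mul, add_zero, zero_add] at this
    rw [← this, hm _ (hy t) _ (hy t), k, h3, CharTwo.add_self_eq_zero, CharTwo.add_self_eq_zero, h6, one_mul]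
    congr 1; pol
  have : d = 0 := by
    have e1 := congrArg β (h3 1 0 a 0)
    have e2 := h3 ((1 + a) * c) ((1 + a) * σ (1 + a) * d) 0 (1 * σ a * (c * σ c))
    rw [h5, mul_one, mul_one, hm _ (hy _) _ (hy _), hm _ (hy _) _ (hx _), k, k, k, k', h3, add_zero, zero_add,
      ← one_mul (x (1 * σ a * _)), ← h6, e2] at e1
    have := h4 _ _ _ _ e1
    have h7 := add_σ_ne a0 a1
    simp only [map_add, map_mul, map_one, map_zero] at this
    clear * - this h7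
    grind
  exact ⟨c, fun t => by rw [k, this, mul_zero, h5, mul_one], k'⟩

omit [Finite K] in
theorem iq_lin {x : K → V K} {β : V K → V K} {c : K} (b1 : β 1 = 1) (ht : ∀ l t, β (tor l (x t)) = tor l (β (x t)))
    (h0 : β (x 1) = x c) (h2 : ∀ (t : Kˣ) s, tor (t, 1) (x s) = x (t * s)) (h5 : x 0 = 1) (t : K) :
    β (x t) = x (t * c) := by
  by_cases h : t = 0
  · rw [h, zero_mul, h5, b1]
  have := ht (.mk0 t h, 1) 1
  rwa [h0, h2, h2, Units.val_mk0, mul_one] at this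

set_option maxHeartbeats 1600000 in
/-- Copy `RF4.root` and `RF4.ident` (`Lib/RF4/Ident`) with `Q` in place of `R`.  Fixed points in `Q`: of `tor (1, a)` only
`U1` (write `v = w * x1 v.a1`, `dec_R`, `fixR`); of `tor (wr (1, a))` only the `x7 t` (apply `ρr`, `ρr_tor`);
`fix2`, `fix6` apply as the weight on `a1` is not `1`; `fix4`.  So `β (y2 t) = y2 (t * c2)`, `β (y4 t) = y4 (t * c4)`,
`β (y6 t) = y6 (t * c6)`, `β (x1 t) = x1 (t * c1)`, `β (x7 t) = x7 (t * c7)`.  `c4 = 1`, `c6 = 1` from `h4`, `h6`;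
`c1 = 1` from `⁅x6 1, x1 1⁆ = x4 1`; `x5 t = ⁅y6 t, y4 1⁆`; `c2 = 1` from `⁅x5 1, y2 1⁆ = x4 1`; `x3 t = ⁅y4 t, y2 1⁆`;
`c7 = 1` from `⁅x7 1, x2 1⁆ = x4 1`; `v ∈ Q` is `x1 v.a1 * y2 v.b2 * ⋯ * x7 v.a7`. -/
theorem identQ {β : V K → V K} {a : K} (a0 : a ≠ 0) (a1 : a ≠ 1) (hQ : ∀ v ∈ Q, β v ∈ Q)
    (hm : ∀ v ∈ Q, ∀ w ∈ Q, β (v * w) = β v * β w) (ht : ∀ l, ∀ v ∈ Q, β (tor l v) = tor l (β v))
    (h4 : ∀ t, β (x4 t) = x4 t) (h6 : ∀ t, (β (x6 t)).c6 = t) {v : V K} (hv : v ∈ Q) : β v = v := by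
  have u1 : Units.mk0 a a0 ≠ 1 := fun e => a1 (congrArg Units.val e)
  obtain ⟨l, hl, e⟩ := T4_ex_fst (Units.mk0 a a0)
  have l1 : (⟨l, hl⟩ : T4 K) ≠ 1 := fun h => u1 (by rw [← e, show l = 1 from congrArg Subtype.val h]; rfl)
  have k1 := mem_T4.1 hl
  have f2 : tor (ws (Units.mk0 a a0, 1)) (β (y2 1)) = β (y2 1) := by
    rw [← ht _ _ (by vs)]; congr 1; vs; simp [ws, a0]
  have f6 : tor (ws l) (β (y6 1)) = β (y6 1) := by
    rw [← ht _ _ (by vs)]; congr 1; vs; simpa [ws, mul_right_comm _ (l.2 : K), mul_comm (l.2 : K)] using k1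
  obtain ⟨c2, k2, k2'⟩ := iq_root (y := y2) (x := x2) (wt := fun l : Kˣ × Kˣ => (l.1 : K) * (l.2 : K)) a0 a1 hm ht
    (fun _ => by vs) (fun _ => by vs) (fix2 u1 (iq_R (inv_ne_one.2 u1) f2) f2)
    (fun v h => ⟨v.b2, v.c2, by clear * - h; dst v h; vp⟩) (fun t h => ⟨(1, .mk0 t h), by simp⟩)
    (by clear * -; intros; vp) (by clear * -; intros; vp) (by clear * -; vs; tauto) rfl rfl
  obtain ⟨c4, k4, k4'⟩ := iq_root (y := y4) (x := x4) (wt := fun l : Kˣ × Kˣ => σ (l.1 : K) * (l.2 : K) * σ (l.2 : K))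
    a0 a1 hm ht (fun _ => by vs) (fun _ => by vs) (fix4 l1 (by rw [← ht _ _ (by vs)]; congr 1; vs; exact k1))
    (fun v h => ⟨v.b4, v.c4, by clear * - h; dst v h; vp⟩) (fun t h => by
      obtain ⟨s, rfl⟩ := σ_surj t
      exact ⟨(.mk0 s (mt σ_eq_zero.2 h), 1), by simp⟩)
    (by clear * -; intros; vp) (by clear * -; intros; vp) (by clear * -; vs; tauto) rfl rfl
  obtain ⟨c6, k6, k6'⟩ := iq_root (y := y6) (x := x6) (wt := fun l : Kˣ × Kˣ => (l.1 : K) * (l.2 : K) * σ (l.2 : K))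
    a0 a1 hm ht (fun _ => by vs) (fun _ => by vs) (fix6 l1 (iq_R (inv_ne_one.2 (e ▸ u1)) f6) f6)
    (fun v h => ⟨v.b6, v.c6, by clear * - h; dst v h; vp⟩) (fun t h => ⟨(.mk0 t h, 1), by simp⟩)
    (by clear * -; intros; vp) (by clear * -; intros; vp) (by clear * -; vs; tauto) rfl rfl
  obtain rfl : c4 = 1 := nm_one (by simpa [h4, x4_inj, eq_comm] using k4' 1)
  obtain rfl : c6 = 1 := nm_one (by have := congrArg V.c6 (k6' 1); rw [h6] at this; simpa [x6] using this.symm)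
  have b1 : β 1 = 1 := h4 0
  have r1 := iq_lin (x := x1) b1 (fun l t => ht l _ (by vs)) (iq_fix1 u1 (by rw [← ht _ _ (by vs)]; congr 1; vs; simp))
    (fun t s => by vs) rfl
  have r7 := iq_lin (x := x7) b1 (fun l t => ht l _ (by vs)) (iq_fix7 u1 (hQ _ (by vs)) (by
      rw [← ht _ _ (by vs), show x7 (1 : K) = ρr (x1 1) by vs, ← ρr_tor]; congr 2; vs; simp))
    (fun t s => by vs; simp) rfl
  generalize (β (x1 1)).a1 = c1 at r1
  generalize (β (x7 1)).a7 = c7 at r7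
  have hc : ∀ v ∈ Q, ∀ w ∈ Q, β (cm v w) = cm (β v) (β w) := fun v hv w hw => by
    have hi : ∀ v ∈ Q, β v⁻¹ = (β v)⁻¹ := fun v hv =>
      eq_inv_of_mul_eq_one_left (by rw [← hm _ (inv_mem hv) _ hv, inv_mul_cancel, b1])
    rw [cm, hm _ (mul_mem (mul_mem hv hw) (inv_mem hv)) _ (inv_mem hw), hm _ (mul_mem hv hw) _ (inv_mem hv),
      hm _ hv _ hw, hi _ hv, hi _ hw, cm]
  simp only [mul_one, map_one] at k4 k6 k6'
  have k5 : ∀ t, β (x5 t) = x5 t := fun t => by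
    rw [show x5 t = cm (y6 t) (y4 1) by clear * -; vp, hc _ (by vs) _ (by vs), k4, k6]
  obtain rfl : c2 = 1 := by
    have := hc (x5 1) (by vs) (y2 1) (by vs)
    rw [k5, k2, show cm (x5 1) (y2 1) = x4 (1 : K) by clear * -; vp, h4] at this
    clear * - this; simp only [cm] at this; vs at this; grind
  obtain rfl : c1 = 1 := by
    have := hc (x6 1) (by vs) (x1 1) (by vs)
    rw [k6', r1, show cm (x6 1) (x1 1) = x4 (1 : K) by clear * -; vp, h4] at this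
    clear * - this; simp only [cm] at this; vs at this; grind
  simp only [mul_one, map_one] at k2 k2' r1
  obtain rfl : c7 = 1 := by
    have := hc (x7 1) (by vs) (x2 1) (by vs)
    rw [k2', r7, show cm (x7 1) (x2 1) = x4 (1 : K) by clear * -; vp, h4] at this
    clear * - this; simp only [cm] at this; vs at this; grind
  simp only [mul_one] at r7
  have k3 : ∀ t, β (x3 t) = x3 t := fun t => by
    rw [show x3 t = cm (y4 t) (y2 1) by clear * -; vp, hc _ (by vs) _ (by vs), k4, k2]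
  rw [iq_prod hv]
  repeat rw [hm _ (by vs) _ (by vs)]
  rw [r1, k2, k2', k3, k4, h4, k5, k6, k6', r7]

end Cfsg.Lib.FR
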