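import Cfsg.Agent.Lib.FR.Sub

/-!
# S5262: centralizers and involutions in `V K`.  See `docs/FR.md`.
-/

set_option autoImplicit false

namespace Cfsg.Lib.FR

open Subgroup Cfsg.Lib.BG Cfsg.Lib.G2S Cfsg.Lib.RF4 Cfsg.Lib.RF4.V
open scoped commutatorElement Cfsg.Lib.Transfer

variable {K : Type*} [Field K] [Tw K] {v w x a d e : V K}

theorem R_of' (h : ∀ z ∈ (Z2 : Subgroup (V K)), ⁅v, z⁆ = 1) : v ∈ R := R_of (cm1.1 (h _ (by vz)))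

theorem Q8_of' (h : ∀ z ∈ (Z3 : Subgroup (V K)), ⁅v, z⁆ ∈ Z) : v ∈ Q8 := Q8_of (h _ (by vz))

theorem X8_of (h : ∀ z ∈ (Z3 : Subgroup (V K)), ⁅v, z⁆ = 1) : v ∈ X8 := by
  have h1 := cm1.1 (h (x5 1) (by vz))
  have h2 := cm1.1 (h (x6 1) (by vz))
  clear h; vz at *; grind

theorem B7_of (h : ∀ z ∈ (Z4 : Subgroup (V K)), ⁅v, z⁆ = 1) : v ∈ B7 := by
  have h1 := X8_of fun z hz => h z (Z3_Z4 hz)
  have h2 := cm1.1 (h (x3 1) (by vz))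
  clear h; dz v h1; vz at *; grind

theorem B4_of (h : ∀ z ∈ (A : Subgroup (V K)), ⁅v, z⁆ = 1) : v ∈ B4 := by
  have h1 := B7_of fun z hz => h z (Z4_A hz)
  have h2 := cm1.1 (h (x2 1) (by vz))
  clear h; dz v h1; vz at *; grind

theorem Q_of (h : ∀ z ∈ (A : Subgroup (V K)), ⁅v, z⁆ ∈ Z) : v ∈ Q := by
  have h1 := Q8_of' fun z hz => h z (Z3_A hz)
  obtain ⟨z, hz, h2⟩ := cme (h (x2 1) (by vz))
  clear h; dz v h1; dz z hz; vz at *; grind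

theorem Q1_of (hv : v ∈ Q) (h : ∀ z ∈ (B7 : Subgroup (V K)), ⁅v, z⁆ ∈ Z4) : v ∈ Q1 := by
  obtain ⟨z, hz, h2⟩ := cme (h (y4 1) (by vz))
  clear h; dz v hv; dz z hz; vz at *; grind

theorem Ph_of (hv : v ∈ R) (h : ∀ z ∈ (Z3 : Subgroup (V K)), ⁅v, z⁆ ∈ Z) : v ∈ Ph := ⟨hv, Q8_of' h⟩

/-- The second centre of `Q`. -/
theorem A_of (hv : v ∈ Q) (h : ∀ w ∈ (Q : Subgroup (V K)), ⁅v, w⁆ ∈ Z) : v ∈ A := by
  obtain ⟨z, hz, h1⟩ := cme (h (y4 1) (by vz))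
  obtain ⟨z', hz', h2⟩ := cme (h (x1 1) (by vz))
  clear h; dz v hv; dz z hz; dz z' hz'; vz at *; grind

theorem Z4_of (ha : a ∈ A) (hd : d ∈ D) (d1 : d ∉ A) (h : ⁅a, d⁆ = 1) : a ∈ Z4 := by
  rw [cm1] at h; dz a ha; dz d hd; vz at *; grind

theorem Y4_of (ha : a ∈ A) (hd : d ∈ D1) (d1 : d ∉ R) (h : ⁅a, d⁆ = 1) : a ∈ Y4 := by
  rw [cm1] at h; dz a ha; dz d hd; vz at *; grind

theorem Z3_ofA (ha : a ∈ A) (h : ∀ x ∈ (X2 : Subgroup (V K)), ⁅a, x⁆ = 1) : a ∈ Z3 := by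
  have h1 := cm1.1 (h (y6 1) (by vz))
  have h2 := cm1.1 (h (x7 1) (by vz))
  clear h; dz a ha; vz at *; grind

theorem Z2_ofA (ha : a ∈ A) (h : ∀ x ∈ (Q1 : Subgroup (V K)), ⁅a, x⁆ = 1) : a ∈ Z2 := by
  have h1 := Z3_ofA ha fun x hx => h x (X2_Q1 hx)
  have h2 := cm1.1 (h (y2 1) (by vz))
  clear h ha; dz a h1; vz at *; grind

theorem cenQ (h : ∀ w ∈ (Q : Subgroup (V K)), ⁅v, w⁆ = 1) : v ∈ Z := by
  have h0 := A_of (Q_of fun z hz => h z (A_Q hz) ▸ one_mem _) fun w hw => h w hw ▸ one_mem _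
  have h1 := Z2_ofA h0 fun x hx => h x (Q1_Q hx)
  have h2 := cm1.1 (h (x1 1) (by vz))
  clear h h0; dz v h1; vz at *; grind

/-- `e`, `e'` are independent modulo `X8`. -/
def Ind (e e' : V K) : Prop := e.b2 * e'.b8 ≠ e'.b2 * e.b8

theorem Ind.σ {e e' : V K} (i : Ind e e') : σ e.b2 * σ e'.b8 ≠ σ e'.b2 * σ e.b8 := by
  rw [← map_mul, ← map_mul]; exact mt σ_inj.1 i

section
variable {e' : V K} (he : e ∈ R) (he' : e' ∈ R) (i : Ind e e')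
include he he' i

theorem X8_of_ind (hx : x ∈ R) (h : ⁅x, e⁆ ∈ D) (h' : ⁅x, e'⁆ ∈ D) : x ∈ X8 := by
  obtain ⟨z, hz, h1⟩ := cme h
  obtain ⟨z', hz', h2⟩ := cme h'
  have k : ∀ {u v u' v' : K}, v * σ u' = v' * σ u → σ v * u' = σ v' * u → u * v' = u' * v := fun {u v u' v'} a b => by
    have := congrArg σ b
    simp only [map_mul, σσ] at this
    refine σ_inj.1 (σ_inj.1 ?_)
    have a' := congrArg σ a
    simp only [map_mul, σσ] at a' ⊢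
    by_cases h : u = 0
    · simp only [h, map_zero, mul_zero, mul_eq_zero, σ_eq_zero] at a
      rcases a with rfl | rfl <;> simp [h]
    by_cases h' : v' = 0
    · simp only [h', zero_mul, mul_eq_zero, σ_eq_zero] at a
      rcases a with rfl | rfl <;> simp [h']
    have h2 := mt σ_eq_zero.1 h
    obtain rfl : v = v' := mul_left_cancel₀ (mul_ne_zero h' h2) (by grind)
    rw [σ_inj.1 (mul_left_cancel₀ h' a)]
  have a1 := congrArg V.b4 h1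
  have a2 := congrArg V.b6 h1
  have a3 := congrArg V.b4 h2
  have a4 := congrArg V.b6 h2
  clear h h' h1 h2; unfold Ind at i
  dz x hx; dz e he; dz e' he'; dz z hz; dz z' hz'; vz at *
  simp only [add_assoc, add_left_comm, add_right_inj] at a1 a2 a3 a4
  have b1 := k a1 a2
  have b2 := k a3 a4
  grind

theorem D_of_ind (hx : x ∈ X8) (h : ⁅x, e⁆ ∈ Z3) (h' : ⁅x, e'⁆ ∈ Z3) : x ∈ D := by
  obtain ⟨z, hz, h1⟩ := cme h
  obtain ⟨z', hz', h2⟩ := cme h'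
  have a1 := congrArg V.a3 h1
  have a2 := congrArg V.a7 h1
  have a3 := congrArg V.a3 h2
  have a4 := congrArg V.a7 h2
  clear h h' h1 h2; unfold Ind at i
  dz x hx; dz e he; dz e' he'; dz z hz; dz z' hz'; vz at *
  grind

theorem Z3_of_ind (hx : x ∈ D) (h : ⁅x, e⁆ ∈ Z2) (h' : ⁅x, e'⁆ ∈ Z2) : x ∈ Z3 := by
  obtain ⟨z, hz, h1⟩ := cme h
  obtain ⟨z', hz', h2⟩ := cme h'
  have a1 := congrArg V.a5 h1
  have a3 := congrArg V.a5 h2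
  have i' := i.σ
  clear h h' h1 h2 i
  dz x hx; dz e he; dz e' he'; dz z hz; dz z' hz'; vz at *
  grind

theorem Z2_of_ind (hx : x ∈ Z3) (h : ⁅x, e⁆ = 1) (h' : ⁅x, e'⁆ = 1) : x ∈ Z2 := by
  rw [cm1] at h h'
  unfold Ind at i
  dz x hx; dz e he; dz e' he'; vz at *
  grind

end

theorem ind28 : Ind (y2 1 : V K) (y8 1) := by simp [Ind, y2, y8]

theorem cenR (h : ∀ w ∈ (R : Subgroup (V K)), ⁅v, w⁆ = 1) : v ∈ Z2 := by
  have a := h (y2 1) (by vz)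
  have b := h (y8 1) (by vz)
  exact Z2_of_ind (by vz) (by vz) ind28 (Z3_of_ind (by vz) (by vz) ind28 (D_of_ind (by vz) (by vz) ind28
    (X8_of fun z hz => h z (X8_R (X2_X8 (A_X2 (Z3_A hz))))) (a ▸ one_mem _) (b ▸ one_mem _)) (a ▸ one_mem _)
    (b ▸ one_mem _)) a b

theorem Z4_ofD (hd : d ∈ D) (h : ⁅d, y2 (1 : K)⁆ ∈ Z2) : d ∈ Z4 := by
  obtain ⟨z, hz, h1⟩ := cme h
  clear h; dz d hd; dz z hz; vz at *; grind

theorem X2_of8 (hx : x ∈ X8) (h : ⁅x, x2 (1 : K)⁆ ∈ Z2) : x ∈ X2 := by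
  obtain ⟨z, hz, h1⟩ := cme h
  clear h; dz x hx; dz z hz; vz at *; grind

theorem X2_of (hx : x ∈ Q1) (h : x * x ∈ Z4) : x ∈ X2 := by
  have : x.b2 * σ x.b2 = 0 := by dz x hx; vz at *; grind
  exact ⟨hx.1, nm_zero.1 this, hx.2⟩

/-! ### Involutions -/

theorem i_R (hv : v ∈ R) (h : v * v = 1) : v ∈ X8 := by
  have h8 := sq_8 h
  have : v.b2 * σ v.b2 = 0 := by have := congrArg V.c2 h; clear h; dz v hv; vz at *; grind
  exact ⟨hv, nm_zero.1 this, h8⟩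

theorem i_X2 (hv : v ∈ X2) (h : v * v = 1) : v ∈ A ∨ v ∈ D := by
  have k1 := nm_zero (a := v.b4)
  have k2 := nm_zero (a := v.b6)
  dz v hv; vz at *; grind

theorem i_Q1 (hv : v ∈ Q1) (h : v * v = 1) : v ∈ A ∨ v ∈ D := i_X2 (X2_iff.2 ⟨i_R hv.1 h, hv.2⟩) h

theorem i_B4 (hv : v ∈ B4) (h : v * v = 1) : v ∈ A := by
  have k1 := nm_zero (a := v.b4)
  dz v hv; vz at *; grind

theorem i_Q (hv : v ∉ R) (h : v * v = 1) : v ∈ Q := by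
  have h8 := sq_8 h
  have := congrArg V.b6 h
  clear h; dz v h8; vz at *; grind

theorem i_D1' (hv : v ∉ R) (h : v * v = 1) (h2 : v.b2 = 0) (h6 : v.b6 = 0) : v ∈ D1 := by
  have hq := i_Q hv h
  have k := σ_eq_zero (a := v.a1)
  dz v hq; vz at *; grind

theorem ex_U8 (hv : v ∉ R) (hq : v ∈ Q) : ∃ u ∈ U8, (u * v * u⁻¹).b2 = 0 ∧ (u * v * u⁻¹).b6 = 0 := by
  obtain ⟨s, hs⟩ := ex_mul hv v.b2
  obtain ⟨t, ht⟩ := ex_mul hv (y8 s * v * (y8 s)⁻¹).b6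
  refine ⟨x8 t * y8 s, by vz, ?_⟩
  dz v hq; vz at *; grind

theorem i_D1 (hv : v ∉ R) (h : v * v = 1) : ∃ u ∈ U8, u * v * u⁻¹ ∈ D1 :=
  let ⟨u, hu, h2, h6⟩ := ex_U8 hv (i_Q hv h)
  ⟨u, hu, i_D1' (mt (nR.mem_comm_iff.trans (by simp)).1 hv) (sq_conj h u) h2 h6⟩

theorem i_A6 [Finite K] (hv : v ∈ R) (h : v * v = 1) : v ∈ A ∨ ∃ t, x1 t * v * (x1 t)⁻¹ ∈ A6 := by
  have hx := i_R hv h
  by_cases h8 : v.c8 = 0
  · refine (i_X2 ⟨hx.1, hx.2.1, hx.2.2, h8⟩ h).elim .inl fun hd => (em _).imp_right fun ha => ?_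
    have : v.a7 ≠ 0 := by clear * - hd ha; dz v hd; vz at *; exact ha
    obtain ⟨t, ht⟩ := ex_σ this v.a3
    exact ⟨t, by clear * - hd ht; dz v hd; vz at *; grind⟩
  obtain ⟨t, ht⟩ := ex_mul h8 v.b6
  refine .inr ⟨t, ?_⟩
  have h' := sq_conj h (x1 t)
  have k : x1 t * v * (x1 t)⁻¹ ∈ X8 ∧ (x1 t * v * (x1 t)⁻¹).b6 = 0 ∧ (x1 t * v * (x1 t)⁻¹).c8 ≠ 0 := by
    refine ⟨nX8.conj_mem _ hx _, ?_⟩
    clear * - hx ht h8; dz v hx; vz at *; grind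
  generalize x1 t * v * (x1 t)⁻¹ = w at *
  obtain ⟨k1, k2, k3⟩ := k
  have k4 := nm_zero (a := w.b4)
  clear * - k1 k2 k3 k4 h'; dz w k1; vz at *; grind

theorem cQ_of (ha : a ∈ Q) (a1 : a ∉ R) (h : ⁅w, a⁆ = 1) : w ∈ Q := by
  rw [cm1] at h
  have h1 := congrArg V.b2 h
  have h2 := congrArg V.b6 h
  clear h; dz a ha; vz at *; grind

theorem cD (ha : a ∈ D) (a1 : a ∉ A) (hw : w ∈ Q) (h : ⁅w, a⁆ = 1) : w ∈ X2 := by
  rw [cm1] at h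
  have k1 := σ_eq_zero (a := w.a1)
  have k2 := σ_eq_zero (a := w.b2)
  dz a ha; dz w hw; vz at *; grind

theorem cD7 (ha : a ∈ D) (a1 : a ∉ A) (hw : w ∈ B7) (h : ⁅w, a⁆ = 1) : w ∈ D := by
  rw [cm1] at h
  dz a ha; dz w hw; vz at *; grind

theorem cA8 (ha : a ∈ A) (a1 : a ∉ Z3) (hw : w ∈ X8) (h : ⁅w, a⁆ = 1) : w ∈ X2 := by
  rw [cm1] at h
  dz a ha; dz w hw; vz at *; grind

theorem cZ2 (ha : a ∈ Z2) (hw : w ∉ R) (h : ⁅w, a⁆ = 1) : a ∈ Z := by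
  rw [cm1] at h
  have := congrArg V.c4 h
  clear h; dz a ha; vz at *; grind

/-- Cosets of `X2` in `Q` outside `Q1` contain involutions. -/
theorem ex_inv (hv : v ∈ Q) (h : v ∉ R) : ∃ w ∈ X2, v * w * (v * w) = 1 := by
  obtain ⟨s, hs⟩ := ex_mul h v.b2
  refine ⟨v⁻¹ * (y8 s * x1 v.a1 * (y8 s)⁻¹), ?_, by rw [mul_inv_cancel_left]; exact sq_conj (by vq) _⟩
  dz v hv; vz at *; grind

/-! ### An element `e` outside `R` and `Q8` -/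

section
variable (e1 : e ∉ R) (e8 : e ∉ Q8) (a2 : a * a = 1)
include e1 e8 a2

theorem AD_of (h : ⁅a, e⁆ ∈ Z4) : a ∈ A ∨ a ∈ D := by
  obtain ⟨z, hz, h1⟩ := cme h
  have h2 := congrArg V.b2 h1
  have h6 := congrArg V.b6 h1
  have h8 := sq_8 a2
  have aR : a ∈ R := by clear * - e8 h2 hz h8; dz a h8; dz z hz; vz at *; grind
  have aX := i_R aR a2
  refine i_X2 ⟨aX.1, aX.2.1, aX.2.2, ?_⟩ a2
  clear * - e1 h6 hz aX; dz a aX; dz z hz; vz at *; grind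

theorem Z4_of' (h : ⁅a, e⁆ ∈ Z3) : a ∈ Z4 := by
  have k := AD_of e1 e8 a2 (Z3_Z4 h)
  obtain ⟨z, hz, h1⟩ := cme h
  have h2 := congrArg V.a3 h1
  have k1 := σ_eq_zero (a := e.a1)
  clear * - e1 e8 k hz h2 k1
  rcases k with k | k <;> dz a k <;> dz z hz <;> vz at * <;> grind

theorem Z3_of' (h : ⁅a, e⁆ ∈ Z2) : a ∈ Z3 := by
  have k := Z4_of' e1 e8 a2 (Z2_Z3 h)
  obtain ⟨z, hz, h1⟩ := cme h
  have h2 := congrArg V.a5 h1
  have k1 := σ_eq_zero (a := e.b8)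
  clear * - e8 k hz h2 k1
  dz a k; dz z hz; vz at *; grind

theorem Z2_of' (h : ⁅a, e⁆ ∈ Z) : a ∈ Z2 := by
  have k := Z3_of' e1 e8 a2 (Z_Z2 h)
  obtain ⟨z, hz, h1⟩ := cme h
  have h2 := congrArg V.c6 h1
  clear * - e8 k hz h2
  dz a k; dz z hz; vz at *; grind

theorem Z_of' (h : ⁅a, e⁆ = 1) : a ∈ Z := cZ2 (Z2_of' e1 e8 a2 (h ▸ one_mem _)) e1 (cm1_symm h)

end

/-! ### An element `e ∈ Q8` outside `R` and `Q` -/

section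
variable (e1 : e ∉ R) (e8 : e ∈ Q8) (eq : e ∉ Q) (a2 : a * a = 1)
include e1 e8 eq a2

theorem AD_of8 (h : ⁅a, e⁆ ∈ A) : a ∈ A ∨ a ∈ D := by
  obtain ⟨z, hz, h1⟩ := cme h
  have h6 := congrArg V.b6 h1
  have aR : a ∈ R := by_contra fun n => by
    have k := i_Q n a2
    clear * - eq e8 h6 hz k n; dz a k; dz z hz; dz e e8; vz at *; grind
  have aX := i_R aR a2
  refine i_X2 ⟨aX.1, aX.2.1, aX.2.2, ?_⟩ a2
  clear * - e1 e8 h6 hz aX; dz a aX; dz z hz; dz e e8; vz at *; grind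

theorem A_of8 (h : ⁅a, e⁆ ∈ Z3) : a ∈ A := by
  refine (AD_of8 e1 e8 eq a2 (Z3_A h)).elim id fun k => ?_
  obtain ⟨z, hz, h1⟩ := cme h
  have h2 := congrArg V.a3 h1
  have k1 := σ_eq_zero (a := e.a1)
  clear * - e1 e8 k hz h2 k1
  dz a k; dz z hz; dz e e8; vz at *; grind

omit e1 a2 in
theorem Z3_of8 (ha : a ∈ A) (h : ⁅a, e⁆ ∈ Z) : a ∈ Z3 := by
  obtain ⟨z, hz, h1⟩ := cme h
  have h2 := congrArg V.a5 h1
  have h3 := congrArg V.c6 h1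
  clear h h1
  dz a ha; dz z hz; dz e e8; vz at *; grind

end

/-! ### An element `e ∈ Ph` outside `X8` -/

section
variable (e1 : e ∈ Ph) (e2 : e ∉ X8) (ha : a ∈ R) (a2 : a * a = 1)
include e1 e2 ha a2

theorem AD_ofP (h : ⁅⁅⁅a, e⁆, e⁆, e⁆ = 1) : a ∈ A ∨ a ∈ D := by
  have aX := i_R ha a2
  refine i_X2 ⟨aX.1, aX.2.1, aX.2.2, ?_⟩ a2
  have k0 : ∀ x ∈ X8, (⁅x, e⁆ : V K).a7 = x.c8 * e.b2 := fun x h => by clear * - e1 h; dz x h; dz e e1; vq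
  have k1 : ∀ x ∈ D, (⁅x, e⁆ : V K).a5 = x.a7 * σ e.b2 := fun x h => by clear * - e1 h; dz x h; dz e e1; vq
  have k2 : ∀ x ∈ Z3, (⁅x, e⁆ : V K).c4 = x.a5 * e.b2 := fun x h => by clear * - e1 h; dz x h; dz e e1; vq
  have p0 := cm_symm (r_X8 aX e1.1)
  have := k2 _ (cm_symm (r_D p0 e1.1))
  rw [h, k1 _ p0, k0 _ aX] at this
  have b : e.b2 ≠ 0 := fun b => e2 ⟨e1.1, b, e1.2⟩
  simpa [b, one_def] using this

theorem A_ofP (h : ⁅⁅a, e⁆, e⁆ = 1) : a ∈ A := by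
  refine (AD_ofP e1 e2 ha a2 (by rw [h]; simp)).elim id fun k => ?_
  have k1 : ∀ x ∈ D, (⁅x, e⁆ : V K).a5 = x.a7 * σ e.b2 := fun x h => by clear * - e1 h; dz x h; dz e e1; vq
  have k2 : ∀ x ∈ Z3, (⁅x, e⁆ : V K).c4 = x.a5 * e.b2 := fun x h => by clear * - e1 h; dz x h; dz e e1; vq
  have := k2 _ (cm_symm (r_D k e1.1))
  rw [h, k1 _ k] at this
  have b : e.b2 ≠ 0 := fun b => e2 ⟨e1.1, b, e1.2⟩
  have : a.a7 = 0 := by simpa [b, one_def] using this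
  exact Z4_A (by clear * - k this; revert k; vz; tauto)

end

/-! ### Characteristic subgroups -/

theorem aut_A (φ : MulAut (V K)) (h : v ∈ A) : φ v ∈ A :=
  A_of8 (e := x1 1 * x8 1) (by vz; simp) (by vz) (by vz; simp) (by rw [← map_mul, s_A h, map_one]) (by
    simpa [map_commutatorElement] using aut_Z3 φ (cm_symm (q8_A h (aut_Q8 φ.symm (v := x1 1 * x8 1) (by vz)))))

theorem aut_Q (φ : MulAut (V K)) (h : v ∈ Q) : φ v ∈ Q := Q_of fun z hz => by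
  simpa [map_commutatorElement] using aut_Z φ (q_A (aut_A φ.symm hz) h)

end Cfsg.Lib.FR
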