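import Cfsg.Agent.Lib.FR.A3
import Cfsg.Agent.Lib.FR.Aut

/-!
# S5262: common lemmas for `FR/LQ` and `FR/LR`.
-/

set_option autoImplicit false

namespace Cfsg.Lib.FR

open Subgroup Cfsg.Lib.BG Cfsg.Lib.G2S Cfsg.Lib.RF4 Cfsg.Lib.RF4.V
open scoped commutatorElement Cfsg.Lib.Transfer

namespace Lc

section
variable {X G : Type*} [Group X] [Group G] {P : Subgroup X} {e : X →* G} {g : G} {v : X} (h : Lc P e)
include h

theorem ac_mul (g g' : G) (hv : v ∈ P) : ac e (g * g') v = ac e g (ac e g' v) :=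
  h.ac_eq (by rw [h.e_ac g (h.ac_mem g' hv), h.e_ac g' hv]; group)

theorem ac_e (u v : X) : ac e (e u) v = u * v * u⁻¹ := h.ac_eq (by simp)

theorem ac_e' (u v : X) : ac e (e u)⁻¹ v = u⁻¹ * v * u := h.ac_eq (by simp)

theorem ac_inv (g : G) (hv : v ∈ P) : ac e g⁻¹ (ac e g v) = v := h.ac_eq (by rw [h.e_ac g hv]; group)

theorem ac_inv' (g : G) (hv : v ∈ P) : ac e g (ac e g⁻¹ v) = v := h.ac_eq (by rw [h.e_ac g⁻¹ hv]; group)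

theorem ac_act {α : X → X} (ha : Act e g α) (v : X) : ac e g v = α v := h.ac_eq (ha v)

theorem not_mem_of_conj {s t : X} (hs : s ∉ P) (e' : g * e s * g⁻¹ = e t) : t ∉ P := fun ht => by
  obtain ⟨w, hw, e2⟩ := h.nrm g⁻¹ t ht
  exact hs (h.inj (show e w = e s by rw [← e2, ← e']; group) ▸ hw)

theorem ac_tor {s k k' : G} {α α' : X → X} (a : Act e k α) (a' : Act e k' α') (hs : s * k * s⁻¹ = k')
    (hv : v ∈ P) : ac e s (α v) = α' (ac e s v) :=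
  h.ac_eq (by rw [← a v, ← a', h.e_ac s hv, ← hs]; group)

theorem dec {k k' : G} {α : X → X} (a' : Act e k' α) (a : Act e k fun x => v * α x * v⁻¹) (hv : v ∈ P) :
    ∃ u ∈ P, k = e u * k' := by
  obtain ⟨z, hz, e1⟩ := h.cen ((e v * k')⁻¹ * k) fun x _ => by
    calc _ = (e v * k')⁻¹ * (k * e x * k⁻¹) * (e v * k') := by group
      _ = _ := by rw [a, map_mul, map_mul, map_inv, ← a']; group
  obtain ⟨w, hw, e2⟩ := h.nrm k' z hz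
  exact ⟨v * w, mul_mem hv hw, by rw [map_mul, ← e2, e1]; group⟩

omit h in
theorem act_strip {k : G} {α : X → X} (a : Act e k fun x => v * α x * v⁻¹) : Act e ((e v)⁻¹ * k) α := fun x => by
  calc _ = (e v)⁻¹ * (k * e x * k⁻¹) * e v := by group
    _ = _ := by rw [a, map_mul, map_mul, map_inv]; group

variable [Finite X] {A B : Subgroup X} {ρ : X → X} (hρ : Au P ρ) (ρρ : ∀ v ∈ P, ρ (ρ v) = v) (hA : A ≤ P) (hB : B ≤ P)
  (i : ∀ v ∈ P, ρ v ∈ A ↔ v ∈ B)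
include hρ hA hB i

theorem swap_of (hw : ∀ z ∈ A, ac e g⁻¹ z ∈ B) : ∀ z ∈ B, ac e g z ∈ A := fun z hz => by
  refine ((au_comp hρ (h.au g⁻¹)).iff_of_le hA (fun x hx => (i _ (h.ac_mem _ (hA hx))).2 (hw x hx))
    (h.ac_mem g (hB hz))).1 ?_
  rw [h.ac_inv g (hB hz)]
  exact (i z (hB hz)).2 hz

include ρρ in
theorem swap_of' (hw : ∀ z ∈ B, ac e g z ∈ A) : ∀ z ∈ A, ac e g⁻¹ z ∈ B := fun z hz => by
  have m := h.ac_mem g⁻¹ (hA hz)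
  refine (i _ m).1 (((au_comp (h.au g) hρ).iff_of_le hA (fun x hx => hw _ ((i _ (hρ.mem x (hA hx))).1 ?_))
    (hρ.mem _ m)).1 ?_)
  · rwa [ρρ x (hA hx)]
  · rwa [ρρ _ m, h.ac_inv' g (hA hz)]

end

end Lc

variable {K : Type*} [Field K] [Tw K] {u v y z : V K}

theorem lc_cm3 (hu : u ∈ Z3) (hy : y ∈ R) : ⁅u, y⁆ = x4 (u.a5 * y.b2) * x6 (u.a5 * y.b8) := by
  dz u hu; dz y hy; vq

theorem lc_cm2 (hu : u ∈ Z2) (y : V K) : ⁅u, y⁆ = x4 (u.c6 * y.a1) := by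
  dz u hu; vq

theorem lc_a5 (hy : y ∈ Z2) (hz : z ∈ Z3) : (y * z).a5 = z.a5 := by dz y hy; dz z hz; vq

theorem lc_a5' (hz : z ∈ Z3) (v : V K) : (v * z * v⁻¹).a5 = z.a5 := by
  rw [← lc_a5 (c_Z3 hz v) hz, commutatorElement_def, inv_mul_cancel_right]

theorem V6_Z2 : (V6 : Subgroup (V K)) ≤ Z2 := fun v h => by revert h; vz; tauto
theorem Z2_R : (Z2 : Subgroup (V K)) ≤ R := fun _ h => h.1
theorem Z3_R : (Z3 : Subgroup (V K)) ≤ R := fun _ h => h.1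
theorem Z_R : (Z : Subgroup (V K)) ≤ R := fun _ h => h.1
theorem V6_R : (V6 : Subgroup (V K)) ≤ R := fun _ h => h.1
theorem Z_Y4 : (Z : Subgroup (V K)) ≤ Y4 := fun v h => by revert h; vz; tauto
theorem Z4_Q : (Z4 : Subgroup (V K)) ≤ Q := Z4_A.trans A_Q
theorem Y4_Q : (Y4 : Subgroup (V K)) ≤ Q := Y4_A.trans A_Q
theorem Z_Q : (Z : Subgroup (V K)) ≤ Q := Z_A.trans A_Q

theorem tor_V6 (l : Kˣ × Kˣ) (hz : z ∈ V6) : tor l z ∈ V6 := by dz z hz; vz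
theorem tor_Z4 (l : Kˣ × Kˣ) (hz : z ∈ Z4) : tor l z ∈ Z4 := by dz z hz; vz
theorem tor_Y4 (l : Kˣ × Kˣ) (hz : z ∈ Y4) : tor l z ∈ Y4 := by dz z hz; vz

theorem tor_c6 (l : Kˣ × Kˣ) (v : V K) : (tor l v).c6 = w6 l * v.c6 := by vs; simp [w6]

theorem R_of_V6 (hz : z ∈ V6) (n : z.c6 ≠ 0) (h : v * z * v⁻¹ ∈ V6) : v ∈ R := by_contra fun hv => by
  have a : ⁅v, z⁆ ∈ V6 := mul_mem h (inv_mem hz)
  have b := c_Z2 (V6_Z2 hz) v
  have c : ⁅v, z⁆ = 1 := by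
    generalize ⁅v, z⁆ = w at a b
    revert a b; vz; tauto
  exact n (cZ2 (V6_Z2 hz) hv c).2.2.2.2.2.2.2.1

theorem Q_of_Y4 (h : ∀ y ∈ (Y4 : Subgroup (V K)), v * y * v⁻¹ ∈ Y4) : v ∈ Q := by
  have k : ∀ y ∈ (Y4 : Subgroup (V K)), ∃ z ∈ (Y4 : Subgroup (V K)), v * y = z * v := fun y hy =>
    ⟨_, h y hy, by group⟩
  obtain ⟨z, hz, h1⟩ := k (x5 1) (by vz)
  obtain ⟨z', hz', h2⟩ := k (x3 1) (by vz)
  have a := congrArg V.c6 h1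
  have b := congrArg V.c6 h2
  clear h k h1 h2
  dz z hz; dz z' hz'; vz at *; grind

theorem conj_Y4 (hv : v ∈ Q) (hy : y ∈ Y4) : v * y * v⁻¹ ∈ Y4 := by
  have := mul_mem (Z_Y4 (q_A (Y4_A hy) hv)) hy
  rwa [commutatorElement_def, inv_mul_cancel_right] at this

theorem dec_Z3 {s : V K} (h8 : s ∈ Q8) (n : s ∉ Q) (hz : z ∈ Z3) :
    ∃ a ∈ (A : Subgroup (V K)), ∃ y ∈ (Z : Subgroup (V K)), z = ⁅a, s⁆ * y := by
  have c8 : s.c8 ≠ 0 := fun e => n ⟨h8, e⟩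
  obtain ⟨c, hc⟩ := ex_mul c8 z.a5
  obtain ⟨d, hd⟩ := ex_mul c8 (z.c6 + (⁅x2 c, s⁆ : V K).c6)
  have m : x2 c * x3 d ∈ (A : Subgroup (V K)) := by vz
  refine ⟨_, m, ⁅x2 c * x3 d, s⁆⁻¹ * z, ?_, by group⟩
  have k := cm_symm (q8_A m h8)
  have a : (⁅x2 c * x3 d, s⁆ : V K).a5 = z.a5 := by
    clear * - h8 hc; dz s h8; vz at *; grind
  have b : (⁅x2 c * x3 d, s⁆ : V K).c6 = z.c6 := by
    clear * - h8 hd; dz s h8; vz at *; grind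
  generalize ⁅x2 c * x3 d, s⁆ = w at k a b
  clear * - k a b hz
  dz w k; dz z hz; vz at *; grind

end Cfsg.Lib.FR
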