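import Cfsg.Agent.Lib.FR.LC
import Cfsg.Agent.Lib.FR.IdQ

/-!
# S5262: a model of the normalizer system of `Q`.  See `docs/FR.md`.
All coordinate facts are in `FR/Sub`, `FR/Inv` (tactics `vz`, `dz`, `vq`); `Lc`, `Act` in `FR/Gen`; `HH` in `FR/Aut`.
For `h : Lc Q e` and `g : G` the map `ac e g` satisfies `Au Q (ac e g)` (`h.au`, `h.e_ac`, `h.ac_eq`).
-/

set_option autoImplicit false

namespace Cfsg.Lib.FR

open Subgroup Cfsg.Lib.BG Cfsg.Lib.G2S Cfsg.Lib.RF4 Cfsg.Lib.RF4.V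
open scoped commutatorElement Cfsg.Lib.Transfer

variable {K : Type*} [Field K] [Tw K] [Finite K] {f : V K → V K} {G : Type*} [Group G] {e : V K →* G} {g : G}

/-- `Z = Z(Q)` (`cenQ`, `c_Z`), `A` is the second centre (`A_of`, `q_A`), `au_B4`. -/
theorem auQ (h : Au Q f) : (∀ x ∈ Z, f x ∈ Z) ∧ (∀ x ∈ A, f x ∈ A) ∧ ∀ x ∈ B4, f x ∈ B4 := by
  have i1 : ∀ x ∈ Z, f x ∈ Z := fun x hx =>
    cenQ (au_cP1 h le_rfl h.mem (Z_Q hx) fun w _ => cm1_symm (c_Z hx w))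
  have iA : ∀ x ∈ A, f x ∈ A := fun x hx =>
    A_of (h.mem x (A_Q hx)) (au_cP h le_rfl h.mem i1 (A_Q hx) fun w hw => cm_symm (q_A hx hw))
  exact ⟨i1, iA, fun x hx => au_B4 h A_Q iA x (Q1_Q (B4_Q1 hx)) hx⟩

/-- `B7 = C(Z4)` (`B7_of`, `b7_Z4`), `Q1 = {v | ⁅v, B7⁆ ≤ Z4}` (`Q1_of`, `q1_B7`), `X2 = {x ∈ Q1 | x * x ∈ Z4}`
(`X2_of`, `s_X8`), `Z3 = C_A(X2)` (`Z3_ofA`, `x_Z3`), `Z2 = C_A(Q1)` (`Z2_ofA`, `r_Z2`). -/
theorem auQ' (h : Au Q f) (hz : ∀ z ∈ Z4, f z ∈ Z4) :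
    (∀ x ∈ Q1, f x ∈ Q1) ∧ (∀ x ∈ Z3, f x ∈ Z3) ∧ ∀ x ∈ Z2, f x ∈ Z2 := by
  have iA := (auQ h).2.1
  have l7 : (B7 : Subgroup (V K)) ≤ Q := B7_X2.trans X2_Q
  have i7 : ∀ x ∈ B7, f x ∈ B7 := fun x hx => B7_of (au_cP1 h Z4_Q hz (l7 hx) fun z hz => b7_Z4 hz hx)
  have i1 : ∀ x ∈ Q1, f x ∈ Q1 := fun x hx =>
    Q1_of (h.mem x (Q1_Q hx)) (au_cP h l7 i7 hz (Q1_Q hx) fun z hz => q1_B7 hz hx)
  have iX : ∀ x ∈ X2, f x ∈ X2 := fun x hx => X2_of (i1 x (X2_Q1 hx)) (by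
    rw [← h.mul _ (X2_Q hx) _ (X2_Q hx)]; exact hz _ (Z3_Z4 (s_X8 (X2_X8 hx))))
  exact ⟨i1, fun x hx => Z3_ofA (iA x (Z3_A hx)) (au_cP1 h X2_Q iX (A_Q (Z3_A hx)) fun y hy =>
      cm1_symm (x_Z3 hx (X2_X8 hy))),
    fun x hx => Z2_ofA (iA x (Z3_A (Z2_Z3 hx))) (au_cP1 h Q1_Q i1 (A_Q (Z3_A (Z2_Z3 hx))) fun y hy =>
      cm1_symm (r_Z2 hx (Q1_R hy)))⟩

theorem chQ (h : Au Q f) (hz : ∀ z ∈ Z4, f z ∈ Z4) : Ch f Q :=
  .step (ch_Q1 h Q1_Q (auQ h).2.1 (auQ' h hz).1) Q1_Q (fun _ hx => c_Q8 (Q_Q8 hx)) h.mem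

/-- `d = f (x7 1)` is an involution in `Q - A` commuting with `f z ∈ A` for `z ∈ Z4` (`b7_Z4`).  If `d ∈ R` then `d ∈ D`
(`i_Q1`) and `Z4_of` applies; otherwise `i_D1` and `Y4_of`. -/
theorem ptsQ (h : Au Q f) : (∀ z ∈ Z4, f z ∈ Z4) ∨ ∃ u ∈ U8, ∀ z ∈ Z4, u * f z * u⁻¹ ∈ Y4 := by
  have iA := (auQ h).2.1
  have m : x7 (1 : K) ∈ Q := by vz
  have d2 : f (x7 1) * f (x7 1) = 1 := (h.sq m).2 (by vq)
  have dA : f (x7 1) ∉ A := fun H => by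
    have := (h.iff_of_le A_Q iA m).1 H
    vz at this
    exact one_ne_zero this
  have c : ∀ z ∈ Z4, ⁅f z, f (x7 1)⁆ = 1 := fun z hz => (h.cm1 (Z4_Q hz) m).2 (cm1_symm (b7_Z4 hz (by vz)))
  by_cases hR : f (x7 1) ∈ R
  · exact .inl fun z hz => Z4_of (iA z (Z4_A hz)) ((i_Q1 ⟨hR, h.mem _ m⟩ d2).resolve_left dA) dA (c z hz)
  · obtain ⟨u, hu, hd⟩ := i_D1 hR d2
    refine .inr ⟨u, hu, fun z hz => Y4_of (nA.conj_mem _ (iA z (Z4_A hz)) u) hd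
      (fun H => hR (by simpa [mul_assoc] using nR.conj_mem _ H u⁻¹)) ?_⟩
    rw [← conjugate_commutatorElement, c z hz, mul_one, mul_inv_cancel]

/-- In the second case of `ptsQ`, `f' = ρr ∘ conj u ∘ f` (`au_comp`, `au_ρr`, `au_cj`) maps `Z4` into `Z4` (`ρr_Z4`), so
`Z3` into `Z3` (`auQ'`).  But `x6 1 = u * f z * u⁻¹` for some `z ∈ Z3` (finiteness), and `ρr (x6 1) = x2 1 ∉ Z3`. -/
theorem Z4_of_Z3 (h : Au Q f) (hz : ∀ z ∈ Z3, f z ∈ Z3) : ∀ z ∈ Z4, f z ∈ Z4 := by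
  refine (ptsQ h).resolve_right fun ⟨u, _, hu⟩ => ?_
  have g := au_comp (au_cj Q u) h
  have k := (auQ' (au_comp au_ρr g) fun z hz => (ρr_Z4 (g.mem z (Z4_Q hz))).2 (hu z hz)).2.1
  obtain ⟨z, hz', e1⟩ := (g.restrict (Z3_A.trans A_Q) fun z h3 => nZ3.conj_mem _ (hz z h3) u).surj (x6 1) (by vz)
  have := k z hz'
  simp only [e1] at this
  vz at this
  exact one_ne_zero this

omit [Finite K] in
theorem lq_le : e.range ≤ 𝐂((Z : Subgroup (V K)).map e) := by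
  rintro _ ⟨v, rfl⟩ _ ⟨z, hz, rfl⟩
  rw [← map_mul, ← Z_comm hz, map_mul]

omit [Finite K] in
theorem lq_fix (hg : g ∈ 𝐂((Z : Subgroup (V K)).map e)) (a : K) : g * e (x4 a) * g⁻¹ = e (x4 a) := by
  rw [← hg _ ⟨_, x4_mem a, rfl⟩, mul_inv_cancel_right]

namespace Lc

variable (h : Lc Q e)
include h

theorem normal_Z : (Z.map e).Normal := ⟨by
  rintro _ ⟨z, hz, rfl⟩ g
  exact ⟨_, (auQ (h.au g)).1 z hz, h.e_ac g (A_Q (Z_A hz))⟩⟩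

variable [Finite G]

theorem stabQ (hz : ∀ z ∈ Z4, ac e g z ∈ Z4) : g ∈ 𝐍(e.range) := h.norm_of_ch pgV (chQ (h.au g) hz)

/-- Replacing `s`, `t` by their squares if `s ∉ Q8` we may assume `s ∈ Q8 - Q`.  Then `t ∉ Q`, `t * t ∈ Q`, so
`t ∈ Q8`.  Every `z ∈ Z3` is `⁅a, s⁆ * z₀` with `a ∈ A`, `z₀ ∈ Z` (`a = x2 c * x3 d`), so `ac e g z ∈ ⁅A, t⁆ Z ≤ Z3`
(`q8_A`).  `Z4_of_Z3`, `stabQ`. -/
theorem tiQ (g : G) (s t : V K) (hs : s ∉ Q) (e' : g * e s * g⁻¹ = e t) : g ∈ 𝐍(e.range) := by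
  have key : ∀ s t : V K, s ∈ Q8 → s ∉ Q → g * e s * g⁻¹ = e t → g ∈ 𝐍(e.range) := fun s t h8 hs e' => by
    have t8 : t ∈ Q8 := by
      obtain ⟨w, hw, e1⟩ := h.nrm g _ (X2_Q (s_Q8 h8))
      have := h.inj (show e (t * t) = e w by rw [← e1, map_mul, map_mul, ← e', conj_mul])
      have c : (t * t).c8 = 0 := this ▸ hw.2
      refine nm_zero.1 ?_
      clear * - c; vz at c; grind
    obtain ⟨i1, iA, -⟩ := auQ (h.au g)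
    refine h.stabQ (Z4_of_Z3 (h.au g) fun z hz => ?_)
    obtain ⟨a, ha, y, hy, rfl⟩ := dec_Z3 h8 hs hz
    rw [h.ac_eq (w := ⁅ac e g a, t⁆ * ac e g y) (by
      rw [map_mul, map_mul, map_commutatorElement, map_commutatorElement, h.e_ac g (A_Q ha), h.e_ac g (Z_Q hy), ← e',
        ← conjugate_commutatorElement, conj_mul])]
    exact mul_mem (cm_symm (q8_A (iA a ha) t8)) (Z_Z3 (i1 y hy))
  by_cases h8 : s ∈ Q8
  · exact key s t h8 hs e'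
  · refine key (s * s) (t * t) (Ph_Q8 (s_V s)) (fun H => h8 (nm_zero.1 ?_)) (by rw [map_mul, map_mul, ← e', conj_mul])
    have c := H.2
    clear * - c; vz at c; grind

/-- `not_le` and `ti_trans` for `C = 𝐂(Z.map e)` (normal by `normal_Z`), `a = x8 1`, `b = x8 (m * σ m)`, `m = l.2`, give
`k ∈ C ⊓ 𝐍(e.range)`, acting as `conj v ∘ tor l' ∘ fld φ` by `HH`.  On `x4 a`: `w4 l' * φ a = a`, so `φ = 1`,
`l' ∈ T4 K` (`eq_one_of_mul`, `T4_x4`); on `x8 1` (coordinate `c8`): `l'.2 = m` (`nm_inj`); so `l' = l` (`T4_snd`).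
Take `(e v)⁻¹ * k`. -/
theorem torQ (hH : HH e) (ne : 𝐍(e.range) ≠ ⊤) {l : Kˣ × Kˣ} (hl : l ∈ T4 K) : ∃ g, Act e g (tor l) := by
  have := h.normal_Z
  obtain ⟨k, hk, kN, w, hw, e1⟩ := h.ti_trans pgV h.tiQ lq_le (h.not_le pgV lq_le ne) (a := x8 1)
    (b := x8 ((l.2 : K) * σ (l.2 : K))) (fun H => one_ne_zero H.2) (fun H => l.2.ne_zero (nm_zero.1 H.2)) (by vq) (by vq)
  obtain ⟨v, l', φ, a⟩ := hH k kN
  have k4 : ∀ t, (w4 l' : K) * φ t = 1 * t := fun t => by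
    have : v * tor l' (fld φ (x4 t)) * v⁻¹ = x4 t := h.inj ((a _).symm.trans (lq_fix hk t))
    rw [show fld φ (x4 t) = x4 (φ t) by simp only [fld_apply]; vz, tor_w4, Z_comm (x4_mem _),
      mul_inv_cancel_right, x4_inj] at this
    rw [this, one_mul]
  obtain ⟨n1, rfl⟩ := eq_one_of_mul (w4 l').ne_zero k4
  have m : l' ∈ T4 K := (T4_x4 one_ne_zero).1 (by rw [tor_w4, n1, one_mul])
  have l2 : (l'.2 : K) = l.2 := nm_inj (by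
    have := congrArg V.c8 (h.inj ((a _).symm.trans e1))
    obtain ⟨w1, w2⟩ := hw
    simp only [map_one, MulAut.one_apply] at this
    vs at this
    clear * - this w1 w2
    grind)
  obtain rfl : l' = l := mul_inv_eq_one.1 (T4_snd (mul_mem m (inv_mem hl)) (mul_inv_eq_one.2 (Units.ext l2)))
  exact ⟨_, act_strip a⟩

/-- `not_le` gives `g ∈ C = 𝐂(Z.map e)` outside `N = 𝐍(e.range)`.  By `stabQ`, `ptsQ`: `g₁ = e u * g` maps `Z4` into `Y4`,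
and (for `g₁⁻¹ ∉ N`) `w⁻¹` maps `Z4` into `Y4` for `w = g₁ * (e u')⁻¹`.  As `Z4` is normal, also `w` maps `Z4` into `Y4`.
Finally `ρr ∘ ac e w⁻¹` maps `Z4` onto `Z4` (`Au.iff_of_le`, `ρr_Z4`), so `w` maps `Y4` into `Z4`. -/
theorem swapQ (ne : 𝐍(e.range) ≠ ⊤) : ∃ w, (∀ a, w * e (x4 a) * w⁻¹ = e (x4 a)) ∧
    (∀ z ∈ Z4, ac e w z ∈ Y4) ∧ ∀ z ∈ Y4, ac e w z ∈ Z4 := by
  have := h.normal_Z
  have k : ∀ g ∉ 𝐍(e.range), ∃ u, ∀ z ∈ Z4, ac e (e u * g) z ∈ Y4 := fun g hg => by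
    obtain ⟨u, -, ht⟩ := (ptsQ (h.au g)).resolve_left fun H => hg (h.stabQ H)
    exact ⟨u, fun z hz => by rw [h.ac_mul _ _ (Z4_Q hz), h.ac_e]; exact ht z hz⟩
  obtain ⟨g, hg, gN⟩ := SetLike.not_le_iff_exists.1 (h.not_le pgV lq_le ne)
  obtain ⟨t, ht⟩ := k g gN
  obtain ⟨t', ht'⟩ := k (e t * g)⁻¹ fun H =>
    gN ((mul_mem_cancel_left (le_norm e.range ⟨_, rfl⟩)).1 (inv_mem_iff.1 H))
  refine ⟨e t * g * (e t')⁻¹, lq_fix (mul_mem (mul_mem (lq_le ⟨_, rfl⟩) hg) (inv_mem (lq_le ⟨_, rfl⟩))),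
    fun z hz => ?_, h.swap_of au_ρr Z4_Q Y4_Q (fun _ => ρr_Z4) (by rwa [mul_inv_rev, inv_inv])⟩
  rw [h.ac_mul _ _ (Z4_Q hz), h.ac_e']
  exact ht _ (nZ4.conj_mem' z hz t')

/-- Take `w` from `swapQ` (also `w⁻¹` swaps `Z4`, `Y4`, by finiteness).  `w * H l * w⁻¹` preserves `Z4` and `Y4`, so it
lies in `𝐍(e.range)` (`stabQ`) and acts as `conj v ∘ tor l' ∘ fld φ`.  On `Z` it acts as `H l`, so `φ = 1`
(`eq_one_of_mul`); `v ∈ Q` as `Y4` is preserved (test `x5 1`, `x3 1`, coordinate `c6`); `(e v * H l')⁻¹ * (w * H l * w⁻¹)`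
centralizes `e.range`, so is `e z` with `z ∈ Q` (`cen`), i.e. `w * H l * w⁻¹ = e (v * tor l' z) * H l'`.
`adjust` gives `w' = e v₀ * w` with `v₀ ∈ Q` (normalizes `Z4` and `Y4`) and `w' * H l * w'⁻¹ = H l'`, `w4 l' = w4 l`.
`β = ρr ∘ ac e w'` preserves `Z4`, so `Z2` (`auQ'`), fixes `x4 a`, and `β (tor l v) = tor (wr l') (β v)` (`ρr_tor`), so
`w4 (wr l') = w4 l`.  From `⁅x6 d, v⁆ = x4 (d * v.a1)`: `(β (x6 d)).c6 * δ = d` with `δ = (β (x1 1)).a1`; so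
`w6 (wr l') = w6 l` and `wr l' = l` (`w46_inj`), `l' = wr l`.  Take `r = w' * H l₀` with `w4 l₀ = 1`, `w6 l₀ = δ`
(`w46_surj`). -/
theorem exists_r (hH : HH e) (ne : 𝐍(e.range) ≠ ⊤) {H : Kˣ × Kˣ →* G} (ht : ∀ l, Act e (H l) (tor l)) :
    ∃ r, (∀ l, r * H l * r⁻¹ = H (wr l)) ∧ (∀ a, r * e (x4 a) * r⁻¹ = e (x4 a)) ∧ ∀ a, (ρr (ac e r (x6 a))).c6 = a := by
  obtain ⟨w, w4', a1, a2⟩ := h.swapQ ne
  have b1 := h.swap_of' au_ρr (fun _ => ρr_ρr) Z4_Q Y4_Q (fun _ => ρr_Z4) a2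
  have b2 := h.swap_of (g := w⁻¹) au_ρr Z4_Q Y4_Q (fun _ => ρr_Z4) (by rwa [inv_inv])
  have m4 : ∀ a : K, x4 a ∈ Q := fun a => Z_Q (x4_mem a)
  obtain ⟨v₀, hv₀, hw⟩ := h.adjust pgV odd_T H (w := w) fun l => by
    have ak : ∀ z ∈ Q, ac e (w * H l * w⁻¹) z = ac e w (tor l (ac e w⁻¹ z)) := fun z hz => by
      rw [h.ac_mul _ _ hz, h.ac_mul _ _ (h.ac_mem _ hz), h.ac_act (ht l)]
    obtain ⟨v, l', φ, a⟩ := hH _ (h.stabQ (g := w * H l * w⁻¹) fun z hz =>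
      ak z (Z4_Q hz) ▸ a2 _ (tor_Y4 l (b1 z hz)))
    have k4 : ∀ t, (w4 l' : K) * φ t = w4 l * t := fun t => by
      have := ak _ (m4 t)
      rw [h.ac_act a, show fld φ (x4 t) = x4 (φ t) by simp only [fld_apply]; vz, tor_w4, Z_comm (x4_mem _),
        mul_inv_cancel_right, h.ac_eq (g := w⁻¹) (w := x4 t) (by rw [← w4' t, w4' t]; nth_rw 1 [← w4' t]; group),
        tor_w4, h.ac_eq (w4' _), x4_inj] at this
      exact this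
    obtain ⟨-, rfl⟩ := eq_one_of_mul (w4 l').ne_zero k4
    have hv : v ∈ Q := Q_of_Y4 fun y hy => by
      have m := tor_Y4 l'⁻¹ hy
      have := ak _ (Y4_Q m) ▸ a1 _ (tor_Z4 l (b2 _ m))
      rw [h.ac_act a] at this
      simpa using this
    obtain ⟨u, hu, e1⟩ := h.dec (ht l') a hv
    exact ⟨u, hu, l', e1⟩
  have a1' : ∀ z ∈ Z4, ac e (e v₀ * w) z ∈ Y4 := fun z hz => by
    rw [h.ac_mul _ _ (Z4_Q hz), h.ac_e]; exact conj_Y4 hv₀ (a1 z hz)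
  have s4 : ∀ a, ac e (e v₀ * w) (x4 a) = x4 a := fun a => by
    rw [h.ac_mul _ _ (m4 a), h.ac_e, h.ac_eq (w4' a), Z_comm (x4_mem a), mul_inv_cancel_right]
  generalize e v₀ * w = s at hw a1' s4
  have u := au_comp au_ρr (h.au s)
  have i2 := (auQ' u fun z hz => (ρr_Z4 (h.ac_mem s (Z4_Q hz))).2 (a1' z hz)).2.2
  have β4 : ∀ a, ρr (ac e s (x4 a)) = x4 a := fun a => by rw [s4]; vz
  obtain ⟨δ, k6⟩ : ∃ δ, ∀ d, (ρr (ac e s (x6 d))).c6 * δ = d := ⟨(ρr (ac e s (x1 1))).a1, fun d => by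
    have m : x6 d ∈ Z2 := by vz
    have := u.cm (x := x6 d) (y := x1 1) (by vz) (by vz)
    rw [lc_cm2 m, β4, lc_cm2 (i2 _ m), x4_inj] at this
    rw [← this]
    vz⟩
  have δ0 : δ ≠ 0 := fun e0 => by simpa [e0] using k6 1
  have sh : ∀ l, s * H l * s⁻¹ = H (wr l) := fun l => by
    obtain ⟨l', e1⟩ := hw l
    have t4 := congrArg ρr (h.ac_tor (ht l) (ht l') e1 (m4 1))
    have t6 := congrArg (fun v => (ρr v).c6 * δ) (h.ac_tor (ht l) (ht l') e1 (v := x6 1) (by vz))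
    rw [ρr_tor, tor_w4, β4, β4, tor_w4, x4_inj, mul_one, mul_one] at t4
    simp only [ρr_tor, tor_w6, k6, tor_c6, mul_assoc, mul_one] at t6
    rw [e1, w46_inj (Units.ext t4) (Units.ext t6), wr_wr]
  obtain ⟨l₀, e4, e6⟩ := w46_surj 1 (Units.mk0 δ δ0)
  refine ⟨s * H l₀, fun l => ?_, fun a => ?_, fun a => ?_⟩
  · calc _ = s * (H l₀ * H l * (H l₀)⁻¹) * s⁻¹ := by group
      _ = _ := by rw [← map_mul, mul_comm, map_mul, mul_inv_cancel_right, sh]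
  · rw [← h.e_ac _ (m4 a), h.ac_mul _ _ (m4 a), h.ac_act (ht _), tor_w4, e4, Units.val_one, one_mul, s4]
  · rw [h.ac_mul _ _ (by vz), h.ac_act (ht _), tor_w6, e6]
    exact mul_right_cancel₀ δ0 (by rw [k6, Units.val_mk0, mul_comm])

/-- `exists_lift` (`odd_T`, `tor_inj`), `exists_r`, and `identQ` for `β = ρr ∘ ac e r` (`ρr_tor`, `ρr_ρr`). -/
theorem rho_r (hH : HH e) (ne : 𝐍(e.range) ≠ ⊤) (ht : ∀ l, ∃ g, Act e g (tor l)) {a : K} (a0 : a ≠ 0) (a1 : a ≠ 1) :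
    ∃ r, ∀ v ∈ Q, r * e v * r⁻¹ = e (ρr v) := by
  obtain ⟨H, hH'⟩ := h.exists_lift pgV odd_T tor_inj ht
  obtain ⟨s, sh, s4, s6⟩ := h.exists_r hH ne hH'
  have u := au_comp au_ρr (h.au s)
  refine ⟨s, fun v hv => ?_⟩
  have := identQ (β := fun v => ρr (ac e s v)) a0 a1 u.mem u.mul (fun l v hv => by
      rw [h.ac_tor (hH' l) (hH' _) (sh l) hv, ρr_tor, wr_wr]) (fun t => by rw [h.ac_eq (s4 t)]; vz) s6 hv
  rw [← h.e_ac s hv, ← ρr_ρr (h.ac_mem s hv), this]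

end Lc

end Cfsg.Lib.FR
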