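import Cfsg.Agent.Lib.FR.LC

/-!
# S5262: a model of the normalizer system of `R`.  See `docs/FR.md`.
All coordinate facts are in `FR/Sub`, `FR/Inv` (tactics `vz`, `dz`, `vq`); `Lc`, `Act` in `FR/Gen`; `HH` in `FR/Aut`.
For `h : Lc R e` and `g : G` the map `ac e g` satisfies `Au R (ac e g)` (`h.au`, `h.e_ac`, `h.ac_eq`).
-/

set_option autoImplicit false

namespace Cfsg.Lib.FR

open Subgroup Cfsg.Lib.BG Cfsg.Lib.G2S Cfsg.Lib.RF4 Cfsg.Lib.RF4.V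
open scoped commutatorElement Cfsg.Lib.Transfer

variable {K : Type*} [Field K] [Tw K] [Finite K] {f : V K → V K} {G : Type*} [Group G] {e : V K →* G} {g : G}

theorem auR (h : Au R f) : (∀ x ∈ Z2, f x ∈ Z2) ∧ (∀ x ∈ Z3, f x ∈ Z3) ∧ (∀ x ∈ D, f x ∈ D) ∧ ∀ x ∈ X8, f x ∈ X8 :=
  let ⟨a, b, c, d⟩ := au_ind h le_rfl (Z3_A.trans (A_X2.trans (X2_X8.trans X8_R))) (e := y2 1) (e' := y8 1) (by vz)
    (by vz) ind28
  ⟨a, b, fun x hx => c x (X8_R (X2_X8 (D_X2 hx))) hx, fun x hx => d x (X8_R hx) hx⟩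

/-- The series `⊥ ≤ Z ≤ Z2 ≤ Z3 ≤ Z4 ≤ Z5 ≤ X2 ≤ Ph ≤ R` (`c_Z`, `c_Z2`, ..., `c_V`).  Invariance (`auR`, and `f` maps
each invariant subgroup onto itself, `Au.iff_of_le`): `Ph = {v | ⁅v, Z3⁆ ≤ Z}` (`Ph_of`, `q8_Z3`);
`Z4 = {d ∈ D | ⁅d, Ph⁆ ≤ Z2}` (`Z4_ofD`, `ph_Z4`); an element of `Z5` is `d * x2 c` with `d ∈ D` and `x2 c` is a square in
`Ph` (`ex_sq2`, `s_Ph`); `X2 = {x ∈ X8 | ⁅x, Z5⁆ ≤ Z2}` (`X2_of8`, `x2_Z5`). -/
theorem chR (h : Au R f) (hz : ∀ z ∈ Z, f z ∈ Z) : Ch f R := by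
  obtain ⟨i2, i3, iD, i8⟩ := auR h
  have iP : ∀ x ∈ Ph, f x ∈ Ph := fun x hx =>
    Ph_of (h.mem x hx.1) (au_cP h Z3_R i3 hz hx.1 fun z hz => q8_Z3 hz hx.2)
  have i4 : ∀ x ∈ Z4, f x ∈ Z4 := fun x hx => Z4_ofD (iD x (Z4_D hx))
    (au_cP h Ph_R iP i2 hx.1 (fun z hz => cm_symm (ph_Z4 hx hz)) (y2 1) (by vz))
  have i5 : ∀ x ∈ Z5, f x ∈ Z5 := fun x hx => by
    obtain ⟨b, hb⟩ := ex_sq2 x.c2
    have hd : x * (x2 x.c2)⁻¹ ∈ D := by clear * - hx; dz x hx; vq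
    have m : y2 b ∈ Ph := by vz
    rw [← inv_mul_cancel_right x (x2 x.c2), h.mul _ hd.1 _ (by vz)]
    refine mul_mem (D_Z5 (iD _ hd)) ?_
    rw [← hb, h.mul _ m.1 _ m.1]
    exact s_Ph (iP _ m)
  have iX : ∀ x ∈ X2, f x ∈ X2 := fun x hx => X2_of8 (i8 x (X2_X8 hx))
    (au_cP h (Z5_B7.trans (B7_X2.trans (X2_X8.trans X8_R))) i5 i2 hx.1 (fun z hz => x2_Z5 hz hx) (x2 1) (by vz))
  have s1 : Ch f Z := .step .bot bot_le (fun x hx v => mem_bot.2 (c_Z hx v)) hz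
  have s2 : Ch f Z2 := .step s1 Z_Z2 (fun x hx v => c_Z2 hx v) i2
  have s3 : Ch f Z3 := .step s2 Z2_Z3 (fun x hx v => c_Z3 hx v) i3
  have s4 : Ch f Z4 := .step s3 Z3_Z4 (fun x hx v => c_Z4 hx v) i4
  have s5 : Ch f Z5 := .step s4 (Z4_D.trans D_Z5) (fun x hx v => c_Z5 hx v) i5
  have s6 : Ch f X2 := .step s5 (Z5_B7.trans B7_X2) (fun x hx v => c_X2 hx v) iX
  have s7 : Ch f Ph := .step s6 (X2_X8.trans X8_Ph) (fun x hx v => c_Ph hx v) iP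
  exact .step s7 Ph_R (fun x _ v => c_V x v) h.mem

/-- `x4 a = ⁅x5 a, y2 1⁆`, and `⁅z, y⁆ = x4 (z.a5 * y.b2) * x6 (z.a5 * y.b8)` for `z ∈ Z3`, `y ∈ R`.  With
`y = f (y2 1)`: if `y.b8 = 0` the first case holds, otherwise take `t = y.b2 / y.b8`. -/
theorem ptsR (h : Au R f) : (∀ z ∈ Z, f z ∈ Z) ∨ ∃ t, ∀ z ∈ Z, x1 t * f z * (x1 t)⁻¹ ∈ V6 := by
  have hy := h.mem (y2 1) (by vz)
  have k : ∀ z ∈ Z, ∃ a, f z = x4 (a * (f (y2 1)).b2) * x6 (a * (f (y2 1)).b8) := fun z hz => by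
    have m : x5 z.c4 ∈ Z3 := by vz
    refine ⟨_, Eq.trans ?_ (lc_cm3 ((auR h).2.1 _ m) hy)⟩
    rw [← h.cm m.1 (by vz)]
    congr 1
    clear * - hz; dz z hz; vq
  by_cases h8 : (f (y2 1)).b8 = 0
  · refine .inl fun z hz => ?_
    obtain ⟨a, e⟩ := k z hz
    rw [e, h8]; vz
  · obtain ⟨t, ht⟩ := ex_mul h8 (f (y2 1)).b2
    refine .inr ⟨t, fun z hz => ?_⟩
    obtain ⟨a, e⟩ := k z hz
    rw [e, ← ht]; vq

/-- The elements acting trivially on `Z3 / Z2`. -/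
def CR (e : V K →* G) : Subgroup G where
  carrier := {g | ∀ z ∈ (Z3 : Subgroup (V K)), (∃ y ∈ (Z2 : Subgroup (V K)), g * e z * g⁻¹ = e (y * z)) ∧
    ∃ y ∈ (Z2 : Subgroup (V K)), g⁻¹ * e z * g = e (y * z)}
  one_mem' := fun z _ => ⟨⟨1, one_mem _, by simp⟩, 1, one_mem _, by simp⟩
  inv_mem' := fun h z hz => ⟨by simpa using (h z hz).2, by simpa using (h z hz).1⟩
  mul_mem' := fun {a b} ha hb z hz => by
    obtain ⟨⟨y, hy, e1⟩, y', hy', e2⟩ := hb z hz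
    obtain ⟨-, u', hu', e4⟩ := ha z hz
    obtain ⟨⟨u, hu, e3⟩, -⟩ := ha _ (mul_mem (Z2_Z3 hy) hz)
    obtain ⟨-, w, hw, e5⟩ := hb _ (mul_mem (Z2_Z3 hu') hz)
    exact ⟨⟨u * y, mul_mem hu hy, by rw [mul_assoc u, ← e3, ← e1]; group⟩,
      w * u', mul_mem hw hu', by rw [mul_assoc w, ← e5, ← e4]; group⟩

omit [Finite K] in
theorem e_le_CR : e.range ≤ CR e := by
  rintro _ ⟨v, rfl⟩ z hz
  exact ⟨⟨_, c_Z3 hz v, by simp [commutatorElement_def]⟩, _, c_Z3 hz v⁻¹, by simp [commutatorElement_def]⟩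

namespace Lc

variable (h : Lc R e)
include h

/-- `Z2`, `Z3` are invariant under all `ac e g` (`auR`). -/
theorem normal_CR : (CR e).Normal := by
  have key : ∀ g k : G, (∀ z ∈ (Z3 : Subgroup (V K)), ∃ y ∈ (Z2 : Subgroup (V K)), g * e z * g⁻¹ = e (y * z)) →
      ∀ z ∈ (Z3 : Subgroup (V K)), ∃ y ∈ (Z2 : Subgroup (V K)), k * g * k⁻¹ * e z * (k * g * k⁻¹)⁻¹ = e (y * z) :=
    fun g k H z hz => by
      obtain ⟨y, hy, e1⟩ := H _ ((auR (h.au k⁻¹)).2.1 z hz)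
      refine ⟨_, (auR (h.au k)).1 y hy, ?_⟩
      rw [h.e_ac _ hz.1, map_mul, h.e_ac _ hz.1] at e1
      rw [map_mul, h.e_ac _ hy.1]
      calc _ = k * (g * (k⁻¹ * e z * k⁻¹⁻¹) * g⁻¹) * k⁻¹ := by group
        _ = _ := by rw [e1]; group
  exact ⟨fun g hg k z hz => ⟨key g k (fun z hz => (hg z hz).1) z hz, by
    simpa [mul_assoc] using key g⁻¹ k (fun z hz => by simpa using (hg z hz).2) z hz⟩⟩

variable [Finite G]

theorem stabR (hz : ∀ z ∈ Z, ac e g z ∈ Z) : g ∈ 𝐍(e.range) := h.norm_of_ch pgV (chR (h.au g) hz)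

/-- `t ∉ R` (apply `g⁻¹`).  For `z ∈ Z`, `ac e g z ∈ Z2` commutes with `t`; `cZ2`, `stabR`. -/
theorem tiR (g : G) (s t : V K) (hs : s ∉ R) (e' : g * e s * g⁻¹ = e t) : g ∈ 𝐍(e.range) := by
  refine h.stabR fun z hz => cZ2 ((auR (h.au g)).1 z (Z_Z2 hz)) (h.not_mem_of_conj hs e') (cm1.2 (h.inj ?_))
  rw [map_mul, map_mul, h.e_ac g hz.1, ← e', conj_mul, conj_mul, ← map_mul, Z_comm hz, map_mul]

/-- `not_le` and `ti_trans` for `C = CR e`, `a = x1 1`, `b = x1 (m ^ 2)` give `k ∈ C ⊓ 𝐍(e.range)`, acting as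
`conj v ∘ tor l ∘ fld φ` by `HH`.  On `x5 a`: `n * σ n * φ a = a` for `n = l.1 * l.2 ^ 2`, so `φ = 1`, `n = 1`
(`eq_one_of_mul`, `nm_one`); on `x1 1`: `l.1 = m ^ 2`; so `l = (m ^ 2, m⁻¹)`.  Take `(e v)⁻¹ * k`. -/
theorem torR (hH : HH e) (ne : 𝐍(e.range) ≠ ⊤) (m : Kˣ) : ∃ g, Act e g (tor (m ^ 2, m⁻¹)) := by
  have := h.normal_CR
  obtain ⟨k, hk, kN, w, hw, e1⟩ := h.ti_trans pgV h.tiR e_le_CR (h.not_le pgV e_le_CR ne) (a := x1 1)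
    (b := x1 ((m : K) ^ 2)) one_ne_zero (pow_ne_zero 2 m.ne_zero) (by vq) (by vq)
  obtain ⟨v, l, φ, a⟩ := hH k kN
  have k5 : ∀ t, ((l.1 : K) * l.2 ^ 2 * σ ((l.1 : K) * l.2 ^ 2)) * φ t = 1 * t := fun t => by
    have m5 : x5 t ∈ Z3 := by vz
    obtain ⟨y, hy, e2⟩ := (hk _ m5).1
    have := congrArg V.a5 (h.inj ((a _).symm.trans e2))
    rw [lc_a5 hy m5, lc_a5' (aut_Z3 _ (aut_Z3 _ m5))] at this
    simp only [fld_apply] at this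
    vs at this
    simp only [map_mul, map_pow]
    linear_combination this
  obtain ⟨n1, rfl⟩ := eq_one_of_mul (mt nm_zero.1 (by simp)) k5
  have n2 := nm_one n1
  have l1 : (l.1 : K) = m ^ 2 := by
    have := congrArg V.a1 (h.inj ((a _).symm.trans e1))
    have w1 : w.a1 = 0 := hw
    simp only [map_one, MulAut.one_apply] at this
    vs at this
    clear * - this w1
    grind
  have l2 : (l.2 : K) * m = 1 := by
    rw [l1] at n2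
    clear * - n2
    grind
  obtain rfl : l = (m ^ 2, m⁻¹) := Prod.ext (Units.ext l1) (eq_inv_of_mul_eq_one_left (Units.ext l2))
  exact ⟨_, act_strip a⟩

/-- `not_le` gives `g ∈ CR e` outside `N = 𝐍(e.range)`.  By `stabR`, `ptsR`: `g₁ = e (x1 t) * g` maps `Z` into `V6`, and
(for `g₁⁻¹ ∉ N`) `w⁻¹` maps `Z` into `V6` for `w = g₁ * (e (x1 t'))⁻¹`.  As `x1 t'` centralizes `Z`, also `w` maps `Z`
into `V6`.  Finally `w` maps `V6` into `Z`: the map `a ↦ (ac e w⁻¹ (x4 a)).c6` is injective on `K`, so surjective. -/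
theorem swapR (ne : 𝐍(e.range) ≠ ⊤) :
    ∃ w ∈ CR e, (∀ z ∈ Z, ac e w z ∈ V6) ∧ ∀ z ∈ V6, ac e w z ∈ Z := by
  have := h.normal_CR
  have k : ∀ g ∉ 𝐍(e.range), ∃ t, ∀ z ∈ Z, ac e (e (x1 t) * g) z ∈ V6 := fun g hg => by
    obtain ⟨t, ht⟩ := (ptsR (h.au g)).resolve_left fun H => hg (h.stabR H)
    exact ⟨t, fun z hz => by rw [h.ac_mul _ _ hz.1, h.ac_e]; exact ht z hz⟩
  obtain ⟨g, hg, gN⟩ := SetLike.not_le_iff_exists.1 (h.not_le pgV e_le_CR ne)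
  obtain ⟨t, ht⟩ := k g gN
  obtain ⟨t', ht'⟩ := k (e (x1 t) * g)⁻¹ fun H =>
    gN ((mul_mem_cancel_left (le_norm e.range ⟨_, rfl⟩)).1 (inv_mem_iff.1 H))
  refine ⟨e (x1 t) * g * (e (x1 t'))⁻¹, mul_mem (mul_mem (e_le_CR ⟨_, rfl⟩) hg) (inv_mem (e_le_CR ⟨_, rfl⟩)),
    fun z hz => ?_, h.swap_of au_ρs Z_R V6_R (fun _ => ρs_Z) (by rwa [mul_inv_rev, inv_inv])⟩
  rw [h.ac_mul _ _ hz.1, h.ac_e', mul_assoc _ z, ← Z_comm hz, inv_mul_cancel_left]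
  exact ht z hz

/-- Take `w` from `swapR` (also `w⁻¹` swaps `Z`, `V6`, by finiteness).  `w * H l * w⁻¹` preserves `Z` and `V6`, so it lies
in `𝐍(e.range)` (`stabR`) and acts as `conj v ∘ tor l' ∘ fld φ`.  As `w ∈ CR e`, it acts on `Z3 / Z2` as `H l`, so
`φ = 1` (`eq_one_of_mul` on the coordinate `a5`); `v ∈ R` as `V6` is preserved (`R_of`); `(e v * H l')⁻¹ * (w * H l * w⁻¹)`
centralizes `e.range`, so is `e z` with `z ∈ R` (`cen`), i.e. `w * H l * w⁻¹ = e (v * tor l' z) * H l'`.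
`adjust` gives `w' = e v₀ * w` with `v₀ ∈ R` (centralizes `Z2`) and `w' * H l * w'⁻¹ = H l'`.
Linearity: from `x4 a = ⁅x5 a, y2 1⁆`, `x6 a = ⁅x5 a, y8 1⁆` and the formula in `ptsR`, `w'` maps `x4 a ↦ x6 (α * a)`,
`x6 a ↦ x4 (β * a)` with `α, β ≠ 0`.  So `w6 l' = w4 l`, `w4 l' = w6 l` and `l' = ws l` (`w46_inj`, `w4_ws`, `w6_ws`,
`tor_w4`, `tor_w6`).  Take `s = H l₀ * w'` with `w4 l₀ = β⁻¹`, `w6 l₀ = α⁻¹` (`w46_surj`). -/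
theorem exists_s (hH : HH e) (ne : 𝐍(e.range) ≠ ⊤) {H : Kˣ × Kˣ →* G} (ht : ∀ l, Act e (H l) (tor l)) :
    ∃ s, (∀ l, s * H l * s⁻¹ = H (ws l)) ∧ (∀ a, s * e (x4 a) * s⁻¹ = e (x6 a)) ∧ ∀ a, s * e (x6 a) * s⁻¹ = e (x4 a) := by
  have nC := h.normal_CR
  obtain ⟨w, wC, a1, a2⟩ := h.swapR ne
  have b1 := h.swap_of' au_ρs (fun _ => ρs_ρs) Z_R V6_R (fun _ => ρs_Z) a2
  have b2 := h.swap_of (g := w⁻¹) au_ρs Z_R V6_R (fun _ => ρs_Z) (by rwa [inv_inv])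
  obtain ⟨v₀, hv₀, hw⟩ := h.adjust pgV odd_T H (w := w) fun l => by
    have ak : ∀ z ∈ R, ac e (w * H l * w⁻¹) z = ac e w (tor l (ac e w⁻¹ z)) := fun z hz => by
      rw [h.ac_mul _ _ hz, h.ac_mul _ _ (h.ac_mem _ hz), h.ac_act (ht l)]
    obtain ⟨v, l', φ, a⟩ := hH _ (h.stabR (g := w * H l * w⁻¹) fun z hz =>
      ak z hz.1 ▸ a2 _ (tor_V6 l (b1 z hz)))
    have k5 : ∀ t, ((l'.1 : K) * σ (l'.1 : K) * l'.2 ^ 2 * σ (l'.2 : K) ^ 2) * φ t =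
        ((l.1 : K) * σ (l.1 : K) * l.2 ^ 2 * σ (l.2 : K) ^ 2) * t := fun t => by
      have m5 : x5 t ∈ Z3 := by vz
      obtain ⟨y, hy, e2⟩ := (mul_mem wC (nC.conj_mem _ (inv_mem wC) (H l)) _ (aut_Z3 (tor l) m5)).1
      have := congrArg V.a5 (h.inj ((a (x5 t)).symm.trans (Eq.trans (by rw [← ht]; group) e2)))
      rw [lc_a5 hy (aut_Z3 _ m5), lc_a5' (aut_Z3 _ (aut_Z3 _ m5))] at this
      exact this
    obtain ⟨-, rfl⟩ := eq_one_of_mul (by simp) k5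
    have hv : v ∈ R := by
      have m6 : x6 (1 : K) ∈ V6 := by vz
      refine R_of_V6 (tor_V6 l' m6) (by rw [tor_c6]; simp [x6]) ?_
      have := ak _ m6.1 ▸ a1 _ (tor_Z l (b2 _ m6))
      rwa [h.ac_act a] at this
    obtain ⟨u, hu, e1⟩ := h.dec (ht l') a hv
    exact ⟨u, hu, l', e1⟩
  have c2 : ∀ z ∈ R, ac e w z ∈ Z2 → ac e (e v₀ * w) z = ac e w z := fun z hz m => by
    rw [h.ac_mul _ _ hz, h.ac_e, R_comm hv₀ m, mul_inv_cancel_right]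
  have a1' : ∀ z ∈ Z, ac e (e v₀ * w) z ∈ V6 := fun z hz => c2 z hz.1 (V6_Z2 (a1 z hz)) ▸ a1 z hz
  have a2' : ∀ z ∈ V6, ac e (e v₀ * w) z ∈ Z := fun z hz => c2 z hz.1 (Z_Z2 (a2 z hz)) ▸ a2 z hz
  have wC' : e v₀ * w ∈ CR e := mul_mem (e_le_CR ⟨_, rfl⟩) wC
  generalize e v₀ * w = s at hw a1' a2' wC'
  have u := h.au s
  have k : ∀ a, ∀ y ∈ R, ac e s ⁅x5 a, y⁆ = x4 (a * (ac e s y).b2) * x6 (a * (ac e s y).b8) := fun a y hy => by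
    have m5 : x5 a ∈ Z3 := by vz
    obtain ⟨z, hz, e2⟩ := (wC' _ m5).1
    rw [u.cm m5.1 hy, lc_cm3 ((auR u).2.1 _ m5) (u.mem y hy), h.ac_eq e2, lc_a5 hz m5]
    rfl
  obtain ⟨α, k4⟩ : ∃ α, ∀ a, ac e s (x4 a) = x6 (α * a) := ⟨(ac e s (y2 1)).b8, fun a => by
    have e1 := k a (y2 1) (by vz)
    rw [show ⁅x5 a, y2 (1 : K)⁆ = x4 a by vq] at e1
    have := a1' _ (x4_mem a)
    rw [e1] at this ⊢
    revert this; vz; grind⟩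
  obtain ⟨β, k6⟩ : ∃ β, ∀ a, ac e s (x6 a) = x4 (β * a) := ⟨(ac e s (y8 1)).b2, fun a => by
    have e1 := k a (y8 1) (by vz)
    rw [show ⁅x5 a, y8 (1 : K)⁆ = x6 a by vq] at e1
    have := a2' (x6 a) (by vz)
    rw [e1] at this ⊢
    revert this; vz; grind⟩
  have α0 : α ≠ 0 := fun e0 => by
    have := u.ker (x4 1) (by vz) (by rw [k4, e0]; vz)
    vz at this
    exact one_ne_zero this
  have β0 : β ≠ 0 := fun e0 => by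
    have := u.ker (x6 1) (by vz) (by rw [k6, e0]; vz)
    vz at this
    exact one_ne_zero this
  have sh : ∀ l, s * H l * s⁻¹ = H (ws l) := fun l => by
    obtain ⟨l', e1⟩ := hw l
    have t4 := h.ac_tor (ht l) (ht l') e1 (v := x4 1) (by vz)
    have t6 := h.ac_tor (ht l) (ht l') e1 (v := x6 1) (by vz)
    rw [tor_w4, k4, k4, tor_w6] at t4
    rw [tor_w6, k6, k6, tor_w4] at t6
    vz at t4 t6
    rw [e1, w46_inj (l := l') (l' := ws l) (by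
      rw [w4_ws]; exact Units.ext (mul_left_cancel₀ β0 (by rw [t6, mul_comm]))) (by
      rw [w6_ws]; exact Units.ext (mul_left_cancel₀ α0 (by rw [t4, mul_comm])))]
  obtain ⟨l₀, e4, e6⟩ := w46_surj (Units.mk0 β β0)⁻¹ (Units.mk0 α α0)⁻¹
  refine ⟨H l₀ * s, fun l => ?_, fun a => ?_, fun a => ?_⟩
  · calc _ = H l₀ * (s * H l * s⁻¹) * (H l₀)⁻¹ := by group
      _ = _ := by rw [sh, ← map_mul, mul_comm, map_mul, mul_inv_cancel_right]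
  · rw [← h.e_ac _ (x4_mem a).1, h.ac_mul _ _ (x4_mem a).1, k4, h.ac_act (ht _), tor_w6, e6]
    simp [α0]
  · have m : x6 a ∈ R := by vz
    rw [← h.e_ac _ m, h.ac_mul _ _ m, k6, h.ac_act (ht _), tor_w4, e4]
    simp [β0]

/-- `exists_lift` (`odd_T`, `tor_inj`), `exists_s`, and `RF4.ident` for `β = ρs ∘ ac e s`: copy the end of
`RF4.GD.exists_HS` in `Lib/RF4/Tor`. -/
theorem rho_s (hH : HH e) (ne : 𝐍(e.range) ≠ ⊤) (ht : ∀ l, ∃ g, Act e g (tor l)) {a : K} (a0 : a ≠ 0) (a1 : a ≠ 1) :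
    ∃ s, ∀ v ∈ R, s * e v * s⁻¹ = e (ρs v) := by
  obtain ⟨H, hH'⟩ := h.exists_lift pgV odd_T tor_inj ht
  obtain ⟨s, sh, s4, s6⟩ := h.exists_s hH ne hH'
  have u := au_comp au_ρs (h.au s)
  refine ⟨s, fun v hv => ?_⟩
  have := ident (β := fun v => ρs (ac e s v)) a0 a1 u.mem u.mul (fun l v hv => by
      rw [h.ac_tor (hH' l) (hH' _) (sh l) hv, ρs_tor, show ws (ws l) = l by simp [ws]])
    (fun t => by rw [h.ac_eq (s4 t)]; vz) (fun t => by rw [h.ac_eq (s6 t)]; vz) hv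
  rw [← h.e_ac s hv, ← ρs_ρs (h.ac_mem s hv), this]

end Lc

end Cfsg.Lib.FR
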