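import Cfsg.Agent.Lib.FR.Aut
import Cfsg.Agent.Lib.RF4.Red
import Cfsg.Agent.Lib.Chev.AlgInst

/-!
# S5262: the Ree groups extended by field automorphisms.  See `docs/FR.md`.
-/

set_option autoImplicit false

namespace Cfsg.Lib.FR

open Subgroup Cfsg.Lib.BG Cfsg.Lib.G2S Cfsg.Lib.RF4 Cfsg.Lib.RF4.V Cfsg.Lie
open scoped commutatorElement Cfsg.Lib.Transfer

universe u

section
open Cfsg.Lib.Chev Cfsg.Lib.Twisted

variable {K : Type u} [Field K]

theorem x_map (φ : K →+* K) (r : ℕ) (t : K) : (chevF4.x K r t).map φ = chevF4.x K r (φ t) := by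
  by_cases hr : r < chevF4.nroots
  · rw [checkedF4.x_eq K ⟨r, hr⟩, checkedF4.x_eq K ⟨r, hr⟩, ChevTab.xA_map]
  · simp [ChevalleyDatum.x, hr]

theorem wordMat_map (φ : K →+* K) (w : List (ℕ × K)) :
    (chevF4.wordMat K w).map φ = chevF4.wordMat K (w.map fun p => (p.1, φ p.2)) := by
  induction w with
  | nil => exact Matrix.map_one _ (map_zero φ) (map_one φ)
  | cons p w ih => rw [List.map_cons, wordMat_cons, wordMat_cons, Matrix.map_mul, ih, x_map]

theorem map_mem (φ : K →+* K) {n : ℕ} {g : GL chevF4.Idx K} (hg : g ∈ twistedF4 K n) :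
    Matrix.GeneralLinearGroup.map φ g ∈ twistedF4 K n := by
  refine (closure_le (comap (Matrix.GeneralLinearGroup.map φ) (twistedF4 K n))).2 ?_ hg
  rintro g ⟨w, hw, e⟩
  refine subset_closure ⟨w.map fun p => (p.1, φ p.2), ?_, by rw [← wordMat_map, ← e]; rfl⟩
  rcases hw with ⟨t, h⟩ | ⟨t, u, h⟩
  · exact .inl ⟨φ t, h.imp (by rintro rfl; simp [f4PairWord]) (by rintro rfl; simp [f4PairWord])⟩
  · exact .inr ⟨φ t, φ u, h.imp (by rintro rfl; simp [b2ClassWord]) (by rintro rfl; simp [b2ClassWord])⟩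

/-- The field automorphisms of the Ree group. -/
def ψF (n : ℕ) : RingAut K →* MulAut (twistedF4 K n) where
  toFun φ :=
    { toFun := fun g => ⟨_, map_mem (φ : K →+* K) g.2⟩
      invFun := fun g => ⟨_, map_mem (φ.symm : K →+* K) g.2⟩
      left_inv := fun g => Subtype.ext (Units.ext (Matrix.ext fun _ _ => φ.symm_apply_apply _))
      right_inv := fun g => Subtype.ext (Units.ext (Matrix.ext fun _ _ => φ.apply_symm_apply _))
      map_mul' := fun _ _ => Subtype.ext (map_mul _ _ _) }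
  map_one' := MulEquiv.ext fun _ => Subtype.ext (Units.ext (Matrix.ext fun _ _ => rfl))
  map_mul' _ _ := MulEquiv.ext fun _ => Subtype.ext (Units.ext (Matrix.ext fun _ _ => rfl))

theorem EW_map (φ : K →+* K) : ∀ (o : List ℕ) (t : List K),
    Matrix.GeneralLinearGroup.map φ (EW o t : GL chevF4.Idx K) = EW o (t.map φ)
  | [], _ => map_one _
  | _ :: _, [] => map_one _
  | r :: o, a :: t => by
    have := EW_map φ o t
    simp only [EW, List.map_cons, List.zipWith_cons_cons, List.prod_cons, coe_mul, map_mul] at this ⊢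
    rw [this]
    congr 1
    exact Units.ext (by rw [coe_xN, ← x_map, ← coe_xN checkedF4]; rfl)

end

theorem pull' {K : Type*} [Field K] [Tw K] {G G' : Type*} [Group G] [Group G'] (F : Full K G) {ι : G' →* G}
    (hι : Function.Injective ι) (h : F.gen = ι.range) : ∃ F' : Full K G', F'.gen = ⊤ ∧ ∀ v, ι (F'.e v) = F.e v := by
  obtain ⟨r, hr⟩ := h.le F.r_mem
  obtain ⟨s, hs⟩ := h.le F.s_mem
  have he := Full.lift_apply hι F.e fun v => h.le (F.e_mem v)
  have hh := Full.lift_apply hι F.h fun v => h.le (F.h_mem v)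
  refine ⟨⟨Full.lift hι F.e fun v => h.le (F.e_mem v), Full.lift hι F.h fun v => h.le (F.h_mem v), r, s, F.f,
    fun _ _ e => F.inj (by rw [← he, e, he]), fun l v => hι (by simp [*, F.he]), hι (by simp [*, F.rr]),
    hι (by simp [*, F.ss]), fun v hv => hι (by simp [*, F.re]), fun v hv => hι (by simp [*, F.se]),
    fun v => hι (by simp [*, F.rh]), fun v => hι (by simp [*, F.sh]), hι (by simp [*, F.s3]),
    fun x h1 h2 => ⟨(F.sz x h1 h2).1, hι (by simp [*, (F.sz x h1 h2).2])⟩,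
    hι (by simp [*, F.braid])⟩, map_injective hι ?_, he⟩
  rw [← MonoidHom.range_eq_map]
  refine Eq.trans ?_ h
  refine le_antisymm (map_le_iff_le_comap.2 (Full.gen_le _ (fun v => ?_) (fun v => ?_) ?_ ?_))
    (F.gen_le (fun v => ⟨_, Full.e_mem _ v, he v⟩) (fun v => ⟨_, Full.h_mem _ v, hh v⟩) ⟨_, Full.r_mem _, hr⟩
      ⟨_, Full.s_mem _, hs⟩)
  exacts [mem_comap.2 ((he v).symm ▸ F.e_mem v), mem_comap.2 ((hh v).symm ▸ F.h_mem v),
    mem_comap.2 (hr.symm ▸ F.r_mem), mem_comap.2 (hs.symm ▸ F.s_mem)]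

open Cfsg.Lib.Twisted in
/-- `RF4.exists_full` together with the field automorphisms. -/
theorem exists_full' {K : Type u} [Field K] [Fintype K] {m : ℕ} (hK : Fintype.card K = 2 ^ (2 * m + 1)) :
    ∃ _ : Tw K, ∃ F : Full K (twistedF4 K (2 ^ m)), F.gen = ⊤ ∧ Odd F.e.range.index ∧
      ∃ ψ : RingAut K →* MulAut (twistedF4 K (2 ^ m)), ∀ φ v, ψ φ (F.e v) = F.e (fld φ v) := by
  obtain ⟨S, φ, ψ, h⟩ := exists_isF4 hK
  letI : Tw K := ⟨ψ, h.two, fun t => by rw [h.ψ_eq (ψ t), h.φψ]⟩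
  have hle : twistedF4 K (2 ^ m) ≤ chevF4.group K := map_KF4 (K := K) ▸ map_subtype_le _
  have hr : KF4 K (2 ^ m) = (inclusion hle).range := by
    rw [inclusion_range, ← map_KF4, subgroupOf, comap_map_eq_self_of_injective (subtype_injective _)]
  obtain ⟨F, hF, he⟩ := pull' (fullF h) (inclusion_injective hle) ((gen_fullF h).trans hr)
  have e := (MulEquiv.subgroupCongr hr).trans (MonoidHom.ofInjective (inclusion_injective hle)).symm
  have := h.finite
  refine ⟨inferInstance, F, hF, ?_, ψF _, fun φ v => Subtype.ext ?_⟩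
  · have h1 := F.e.range.card_mul_index
    rw [← Nat.card_congr (MonoidHom.ofInjective F.inj).toEquiv, card_V, h.card, ← Nat.card_congr e.toEquiv, h.cardK,
      mul_assoc, mul_assoc, mul_assoc, Nat.mul_right_inj (by positivity)] at h1
    have h2 : ∀ k, Even ((2 ^ (2 * m + 1)) ^ (k + 1)) := fun k => by simp [Nat.even_pow]
    rw [h1]
    refine (Nat.Even.sub_odd Nat.one_le_two_pow (by simpa using h2 0) odd_one).mul ((h2 2).add_one.mul
      ((Nat.Even.sub_odd (Nat.one_le_pow _ _ (by positivity)) (h2 3) odd_one).mul (h2 5).add_one))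
  have k : ∀ v, (F.e v : GL chevF4.Idx K) = EW ordF (wK v) := fun v => congrArg Subtype.val (he v)
  change Matrix.GeneralLinearGroup.map _ (F.e v : GL chevF4.Idx K) = _
  rw [k, k, EW_map]
  congr 2
  simp [wK, fld_apply, σ_comm]

variable {K : Type u} [Field K] [Tw K] [Finite K] {Γ : Type u} [Group Γ] [Finite Γ]

omit [Finite K] [Finite Γ] in
theorem norm_full (F : Full K Γ) (hF : F.gen = ⊤) {g : Γ} (hg : g ∈ 𝐍(F.e.range)) : ∃ v l, g = F.e v * F.h l := by
  obtain ⟨z, hz⟩ := conj_mem_of_norm hg ⟨x4 1, rfl⟩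
  have h1 : z ∈ Z := Z_of fun w => F.inj (by
    obtain ⟨y, hy⟩ := conj_mem_of_norm' hg ⟨w, rfl⟩
    rw [map_mul, map_mul, hz, show F.e w = g * F.e y * g⁻¹ by rw [hy]; group, conj_mul, conj_mul, ← map_mul,
      ← map_mul, Z_comm (x4_mem 1)])
  obtain ⟨v, l, h | ⟨u, -, rfl⟩⟩ := F.cent (hF ▸ mem_top g) one_ne_zero (hz.symm.trans (congrArg _ (eq_x4 h1)))
  · exact ⟨v, l, h⟩
  have k : ∀ v, F.e v ∈ 𝐍(F.e.range) := fun v => le_norm _ ⟨v, rfl⟩
  have k' : F.h l ∈ 𝐍(F.e.range) := (le_norm_iff (A := F.h.range)).2 (by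
    rintro _ ⟨l, rfl⟩ _ ⟨v, rfl⟩; exact ⟨_, (F.he l v).symm⟩) ⟨l, rfl⟩
  obtain ⟨w, e⟩ := conj_mem_of_norm (show F.r ∈ 𝐍(F.e.range) by
    simpa [mul_assoc] using mul_mem (mul_mem (inv_mem (mul_mem (k v) k')) hg) (inv_mem (k u))) ⟨x8 1, rfl⟩
  exact absurd (congrArg V.c8 (not_rB F.inj F.re (x := x8 1) (v := w) (l := 1) (b := 1) (by vs) (by simp)
    (e.symm.trans (mul_one _).symm))) one_ne_zero

theorem exists_real (F : Full K Γ) (hF : F.gen = ⊤) (ho : Odd F.e.range.index) {ψ : RingAut K →* MulAut Γ}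
    (hψ : ∀ φ v, ψ φ (F.e v) = F.e (fld φ v)) (Φ : Subgroup (RingAut K)) :
    ∃ (G : Type u) (_ : Group G) (_ : Finite G) (e : V K →* G), Function.Injective e ∧ Odd e.range.index ∧
      (∃ r : G, ∀ v ∈ Q, r * e v * r⁻¹ = e (ρr v)) ∧ (∃ s : G, ∀ v ∈ R, s * e v * s⁻¹ = e (ρs v)) ∧
      ∀ α : MulAut (V K), (∃ g, Act e g α) ↔ ∃ v l, ∃ φ ∈ Φ, α = MulAut.conj v * tor l * fld φ := by
  open SemidirectProduct in
  have : Finite (RingAut K) := Nat.finite_of_card_ne_zero odd_ringAut.pos.ne'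
  have : Finite (Γ ⋊[ψ.comp Φ.subtype] Φ) := .of_equiv _ equivProd.symm
  have a : ∀ φ : Φ, Act ((inl : _ →* Γ ⋊[ψ.comp Φ.subtype] Φ).comp F.e) (inr φ) (fld φ.1) := fun φ x => by
    rw [MonoidHom.comp_apply, ← map_inv, ← inl_aut]
    exact congrArg inl (hψ φ x)
  have b : ∀ l, Act ((inl : _ →* Γ ⋊[ψ.comp Φ.subtype] Φ).comp F.e) (inl (F.h l)) (tor l) := fun l x => by
    simpa using congrArg inl (F.he l x)
  refine ⟨Γ ⋊[ψ.comp Φ.subtype] Φ, inferInstance, this, inl.comp F.e, inl_injective.comp F.inj, ?_,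
    ⟨inl F.r, fun v hv => by simpa using congrArg inl (F.re v hv)⟩,
    ⟨inl F.s, fun v hv => by simpa using congrArg inl (F.se v hv)⟩, fun α => ⟨?_, ?_⟩⟩
  · rw [← MonoidHom.map_range, index_map_of_injective _ inl_injective, range_inl_eq_ker_rightHom, index_ker,
      MonoidHom.range_eq_top.2 rightHom_surjective, card_top]
    exact ho.mul (odd_ringAut.of_dvd_nat (card_subgroup_dvd_card Φ))
  · rintro ⟨⟨γ, φ⟩, hg⟩
    have c := hg.mul (a φ).inv
    rw [mk_eq_inl_mul_inr, mul_inv_cancel_right] at c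
    obtain ⟨v, l, rfl⟩ := norm_full F hF (Act.norm (e := F.e) (g := γ) fun x => inl_injective (by simpa using c x))
    refine ⟨v, l, φ, φ.2, MulEquiv.ext fun x => F.inj (inl_injective (φ := ψ.comp Φ.subtype) ?_)⟩
    refine (hg x).symm.trans ?_
    rw [mk_eq_inl_mul_inr, map_mul]
    exact ((act_e v).mul (b l)).mul (a φ) x
  · rintro ⟨v, l, φ, hφ, rfl⟩
    exact ⟨_, ((act_e v).mul (b l)).mul (a ⟨φ, hφ⟩)⟩

end Cfsg.Lib.FR
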