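import Cfsg.Agent.Lib.FR.Sub
import Cfsg.Agent.Lib.RF4.TwoS

/-!
# S5262: the field with two elements, computations for the reflection on `Q`.  See `docs/FR.md`.
-/

set_option autoImplicit false
set_option synthInstance.maxSize 100000
set_option synthInstance.maxHeartbeats 400000

namespace Cfsg.Lib.FR

open Subgroup Cfsg.Lib.BG Cfsg.Lib.G2S Cfsg.Lib.RF4 Cfsg.Lib.RF4.V
open scoped commutatorElement Cfsg.Lib.Transfer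

variable {K : Type*} [Field K] [Tw K] [Q2 K] {G : Type*} [Group G] {e : V K →* G}

theorem b4_conj : ∀ y : V K, (y.a1 = 0 ∧ y.b2 = 0 ∧ y.b6 = 0 ∧ y.a7 = 0 ∧ y.b8 = 0 ∧ y.c8 = 0) → y ∉ A →
    x1 y.c2 * y2 y.a3 * y6 y.a5 * x7 y.c6 * y * (x1 y.c2 * y2 y.a3 * y6 y.a5 * x7 y.c6)⁻¹ = y4 1 ∨
    x1 y.c2 * y2 y.a3 * y6 y.a5 * x7 y.c6 * y * (x1 y.c2 * y2 y.a3 * y6 y.a5 * x7 y.c6)⁻¹ = (y4 1)⁻¹ :=
  chk1 (by decide +kernel)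

/-- Elements of `B4 - A` are conjugate to `y4 1` or its inverse. -/
theorem ex_b4 {y : V K} (h : y ∈ B4) (h' : y ∉ A) : ∃ q ∈ Q, q * y * q⁻¹ = y4 1 ∨ q * y * q⁻¹ = (y4 1)⁻¹ :=
  ⟨_, by vz, b4_conj y h h'⟩

theorem t_form : ∀ t : V K, t * (y8 1)⁻¹ ∈ Q → t * y4 1 * t⁻¹ * (y4 1)⁻¹ ∈ Z → t * t * (t * t) ≠ x6 1 →
    x2 t.a3 * x3 (t.a3 + t.a5) * x5 (t.a3 + t.c6) * t * (x2 t.a3 * x3 (t.a3 + t.a5) * x5 (t.a3 + t.c6))⁻¹ *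
      (y4 t.b4 * x4 (t.a3 + t.b4 + t.c4 + t.a5)) = y8 1 :=
  chk1 (by decide +kernel)

theorem ex_t {t : V K} (h1 : t * (y8 1)⁻¹ ∈ Q) (h2 : t * y4 1 * t⁻¹ * (y4 1)⁻¹ ∈ Z) (h3 : t * t * (t * t) ≠ x6 1) :
    ∃ a ∈ A, ∃ y ∈ U4, a * t * a⁻¹ * y = y8 1 := ⟨_, by vz, _, by vz, t_form t h1 h2 h3⟩

theorem U4_cases : ∀ u : V K, u ∈ U4 → u = 1 ∨ u = y4 1 ∨ u = y4 1 * y4 1 ∨ u = (y4 1)⁻¹ := chk1 (by decide +kernel)

theorem U8_cases' : ∀ u : V K, u ∈ U8 → u = 1 ∨ u = y8 1 ∨ u = y8 1 * y8 1 ∨ u = (y8 1)⁻¹ := chk1 (by decide +kernel)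

/-- The relations between the conjugates of `x7 1`. -/
abbrev Wd (v1 v2 v3 v4 : V K) : Prop :=
  (x7 1 * v1 * v4 * x7 1 * y4 1 * v1 * v4 ∈ U4 →
    v1 * v2 * x7 1 * v1 * y4 1 * v2 * x7 1 = x7 1 * v1 * v4 * x7 1 * y4 1 * v1 * v4) ∧
  (x7 1 * y4 1 * v1 * v2 * v3 * v4 ∈ U4 → v1 * y4 1 * v2 * v3 * v4 * x7 1 = x7 1 * y4 1 * v1 * v2 * v3 * v4)

theorem wd2 : ∀ v : V K, (v.b2 = 0 ∧ v.b4 = 0 ∧ v.b6 = 0 ∧ v.c6 = 0 ∧ v.a7 = 0 ∧ v.b8 = 0 ∧ v.c8 = 0) → v ∉ R →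
    ¬ Wd v (y8 1 * v * (y8 1)⁻¹) ((y8 1)⁻¹ * v * y8 1) (x8 1 * v * x8 1) := chk1 (by decide +kernel)

theorem wd3 : ∀ v : V K, (v.b2 = 0 ∧ v.b4 = 0 ∧ v.b6 = 0 ∧ v.c6 = 0 ∧ v.a7 = 0 ∧ v.b8 = 0 ∧ v.c8 = 0) → v ∉ R →
    Wd v ((y8 1)⁻¹ * v * y8 1) (y8 1 * v * (y8 1)⁻¹) (x8 1 * v * x8 1) → v = x1 1 * x4 v.c4 * x5 v.a5 :=
  chk1 (by decide +kernel)

/-- Automorphisms fixing `y8 1`, `y4 1`, `x7 1`. -/
abbrev αq (i j : K) (v : V K) : V K :=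
  v * x5 (j * v.a1) * x6 (j * (v.b2 + v.a1 * v.b8)) * x4 (i * v.a1 + j * (v.b2 + v.a1 * v.b2))

/-- Automorphisms fixing `y8 1`, `y4 1`, `x7 1`. -/
def autq (i j : K) : MulAut (V K) := inv2 (αq i j) (fun v => chk3 (p := fun v i j _ => αq i j (αq i j v) = v)
  (by decide +kernel) v i j 0) (mul_of_gen fun v t => chk3 (p := fun v t i j => GenM (αq i j) v t)
    (by decide +kernel) v t i j)

theorem autq_spec (i j : K) : autq i j (y8 1) = y8 1 ∧ autq i j (y4 1) = y4 1 ∧ autq i j (x7 1) = x7 1 ∧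
    autq i j (x1 1) = x1 1 * x4 i * x5 j :=
  chk3 (p := fun _ i j _ => αq i j (y8 1) = y8 1 ∧ αq i j (y4 1) = y4 1 ∧ αq i j (x7 1) = x7 1 ∧
    αq i j (x1 1) = x1 1 * x4 i * x5 j) (by decide +kernel) 1 i j 0

/-- `π` permutes the five conjugates of `x7 1` cyclically and fixes `y4 1`. -/
structure Cy (e : V K →* G) (π : G) (v1 v2 v3 v4 : V K) : Prop where
  y : π * e (y4 1) * π⁻¹ = e (y4 1)
  c0 : π * e (x7 1) * π⁻¹ = e v1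
  c1 : π * e v1 * π⁻¹ = e v2
  c2 : π * e v2 * π⁻¹ = e v3
  c3 : π * e v3 * π⁻¹ = e v4
  c4 : π * e v4 * π⁻¹ = e (x7 1)

theorem fix_U4 {π : G} (h : π * e (y4 1) * π⁻¹ = e (y4 1)) {u : V K} (hu : u ∈ U4) : π * e u * π⁻¹ = e u := by
  obtain rfl | rfl | rfl | rfl := U4_cases u hu
  · simp
  · exact h
  · rw [map_mul, ← conj_mul, h]
  · rw [map_inv, ← conj_inv, h]

theorem Cy.wd {π : G} {v1 v2 v3 v4 : V K} (h : Cy e π v1 v2 v3 v4) (hi : Function.Injective e) : Wd v1 v2 v3 v4 :=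
  ⟨fun hu => hi (by rw [← fix_U4 h.y hu]; simp only [map_mul, ← conj_mul, h.y, h.c0, h.c1, h.c4]),
    fun hu => hi (by rw [← fix_U4 h.y hu]; simp only [map_mul, ← conj_mul, h.y, h.c0, h.c1, h.c2, h.c3, h.c4])⟩

section
variable {π : G} {k : ℕ} {v : V K} (h5 : π ^ 5 = 1) (h4 : π * e (y4 1) * π⁻¹ = e (y4 1))
  (h7 : π * e (x7 1) * π⁻¹ = e v)

omit [Q2 K] in
theorem cj_step (h8 : e (y8 1) * π * (e (y8 1))⁻¹ = π ^ k) {n : ℕ} {w : V K}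
    (h : π ^ n * e (x7 1) * (π ^ n)⁻¹ = e w) :
    π ^ (k * n) * e (x7 1) * (π ^ (k * n))⁻¹ = e (y8 1 * w * (y8 1)⁻¹) := by
  have h0 : e (y8 1) * e (x7 1) * (e (y8 1))⁻¹ = e (x7 1) := by
    rw [← map_inv, ← map_mul, ← map_mul]; congr 1; vq
  rw [map_mul, map_mul, map_inv, ← h, pow_mul, ← h8, conj_pow]
  conv_lhs => rw [← h0]
  group

include h5 h4 h7

omit [Q2 K] in
theorem cy_of {v2 v3 v4 : V K} (a2 : π ^ 2 * e (x7 1) * (π ^ 2)⁻¹ = e v2) (a3 : π ^ 3 * e (x7 1) * (π ^ 3)⁻¹ = e v3)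
    (a4 : π ^ 4 * e (x7 1) * (π ^ 4)⁻¹ = e v4) : Cy e π v v2 v3 v4 :=
  ⟨h4, h7, by rw [← h7, ← a2, sq]; group, by rw [← a2, ← a3]; group, by rw [← a3, ← a4]; group, by
    rw [← a4, show π * (π ^ 4 * e (x7 1) * (π ^ 4)⁻¹) * π⁻¹ = π ^ 5 * e (x7 1) * (π ^ 5)⁻¹ by group, h5]; simp⟩

theorem cy2 (h8 : e (y8 1) * π * (e (y8 1))⁻¹ = π ^ 2) :
    Cy e π v (y8 1 * v * (y8 1)⁻¹) ((y8 1)⁻¹ * v * y8 1) (x8 1 * v * x8 1) := by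
  have a2 := cj_step h8 (n := 1) (by simpa using h7)
  have a4 := cj_step h8 a2
  have a3 := cj_step h8 a4
  rw [show 2 * (2 * (2 * 1)) = 5 + 3 from rfl, pow_add, h5, one_mul] at a3
  exact cy_of h5 h4 h7 a2 (a3.trans (congrArg e (chk1 (p := fun v : V K => y8 1 * (y8 1 * (y8 1 * v * (y8 1)⁻¹) *
    (y8 1)⁻¹) * (y8 1)⁻¹ = (y8 1)⁻¹ * v * y8 1) (by decide +kernel) v))) (a4.trans (congrArg e (chk1 (p := fun v : V K =>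
      y8 1 * (y8 1 * v * (y8 1)⁻¹) * (y8 1)⁻¹ = x8 1 * v * x8 1) (by decide +kernel) v)))

theorem cy3 (h8 : e (y8 1) * π * (e (y8 1))⁻¹ = π ^ 3) :
    Cy e π v ((y8 1)⁻¹ * v * y8 1) (y8 1 * v * (y8 1)⁻¹) (x8 1 * v * x8 1) := by
  have a3 := cj_step h8 (n := 1) (by simpa using h7)
  have a4 := cj_step h8 a3
  rw [show 3 * (3 * 1) = 5 + 4 from rfl, pow_add, h5, one_mul] at a4
  have a2 := cj_step h8 a4
  rw [show 3 * 4 = 5 + (5 + 2) from rfl, pow_add, h5, one_mul, pow_add, h5, one_mul] at a2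
  exact cy_of h5 h4 h7 (a2.trans (congrArg e (chk1 (p := fun v : V K => y8 1 * (y8 1 * (y8 1 * v * (y8 1)⁻¹) *
    (y8 1)⁻¹) * (y8 1)⁻¹ = (y8 1)⁻¹ * v * y8 1) (by decide +kernel) v))) a3 (a4.trans (congrArg e (chk1 (p := fun v : V K =>
      y8 1 * (y8 1 * v * (y8 1)⁻¹) * (y8 1)⁻¹ = x8 1 * v * x8 1) (by decide +kernel) v)))

end

/-- The elements on which `r` acts in the standard way. -/
def Sq (e : V K →* G) (r : G) (v : V K) : Prop := v ∈ Q ∧ r * e v * r⁻¹ = e (ρr v)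

omit [Q2 K] in
theorem Sq.mul {r : G} {v w : V K} (a : Sq e r v) (b : Sq e r w) : Sq e r (v * w) :=
  ⟨mul_mem a.1 b.1, by rw [map_mul, ← conj_mul, a.2, b.2, ρr_mul a.1 b.1, map_mul]⟩

theorem Sq.pw {r : G} (x : K → V K) (h1 : Sq e r (x 1)) (h0 : x 0 = 1) (t : K) : Sq e r (x t) := by
  rcases Q2.h t with rfl | rfl
  · exact h0 ▸ ⟨one_mem _, by rw [show ρr (1 : V K) = 1 by vz]; simp⟩
  · exact h1

theorem Cy.rho {π : G} (h : Cy e π (x1 1) ((y8 1)⁻¹ * x1 1 * y8 1) (y8 1 * x1 1 * (y8 1)⁻¹) (x8 1 * x1 1 * x8 1))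
    {v : V K} (hv : v ∈ Q) : π * e (x8 1) * e v * (π * e (x8 1))⁻¹ = e (ρr v) := by
  have k0 : ∀ {v w w' : V K}, π * e w * π⁻¹ = e w' → (v ∈ Q ∧ x8 1 * v * (x8 1)⁻¹ = w ∧ w' = ρr v) →
      Sq e (π * e (x8 1)) v := fun h1 h2 => ⟨h2.1, by
    rw [← h2.2.2, ← h1, ← h2.2.1, map_mul, map_mul, map_inv]; group⟩
  have y := k0 h.y (v := y4 1) (chk0 (by decide +kernel))
  have v0 := k0 h.c0 (v := x7 1) (chk0 (by decide +kernel))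
  have v1 := k0 h.c4 (v := x1 1) (chk0 (by decide +kernel))
  have v2 := k0 h.c3 (v := (y8 1)⁻¹ * x1 1 * y8 1) (chk0 (by decide +kernel))
  have v3 := k0 h.c2 (v := y8 1 * x1 1 * (y8 1)⁻¹) (chk0 (by decide +kernel))
  have v4 := k0 h.c1 (v := x8 1 * x1 1 * x8 1) (chk0 (by decide +kernel))
  have k : ∀ {v w : V K}, Sq e (π * e (x8 1)) v → v = w → Sq e (π * e (x8 1)) w := fun h e => e ▸ h
  have b2 := k (((v0.mul v1).mul y).mul v2) (w := y2 1) (chk0 (by decide +kernel))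
  have a2 := k (b2.mul b2) (w := x2 1) (chk0 (by decide +kernel))
  have a3 := k ((((v0.mul v2).mul v3).mul v1).mul v4) (w := x3 1) (chk0 (by decide +kernel))
  have a4 := k (y.mul y) (w := x4 1) (chk0 (by decide +kernel))
  have a5 := k ((((v1.mul v2).mul v0).mul v3).mul v4) (w := x5 1) (chk0 (by decide +kernel))
  have b6 := k (((v1.mul v0).mul y).mul v4) (w := y6 1) (chk0 (by decide +kernel))
  have a6 := k (b6.mul b6) (w := x6 1) (chk0 (by decide +kernel))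
  exact (k ((((((((((v1.pw x1 rfl v.a1).mul (b2.pw y2 rfl v.b2)).mul (a2.pw x2 rfl v.c2)).mul (a3.pw x3 rfl v.a3)).mul
    (y.pw y4 rfl v.b4)).mul (a4.pw x4 rfl v.c4)).mul (a5.pw x5 rfl v.a5)).mul (b6.pw y6 rfl v.b6)).mul
    (a6.pw x6 rfl v.c6)).mul (v0.pw x7 rfl v.a7)) (by clear * - hv; dz v hv; vq)).2

/-- The conclusion from the normal form of an element of order `5`. -/
theorem rho_of (hi : Function.Injective e) {π : G} {v : V K} (h5 : π ^ 5 = 1) (h4 : π * e (y4 1) * π⁻¹ = e (y4 1))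
    (h7 : π * e (x7 1) * π⁻¹ = e v) (hv : v ∈ D1) (hv' : v ∉ R)
    (h8 : e (y8 1) * π * (e (y8 1))⁻¹ = π ^ 2 ∨ e (y8 1) * π * (e (y8 1))⁻¹ = π ^ 3) :
    ∃ (α : MulAut (V K)) (r : G), ∀ v ∈ Q, r * e (α v) * r⁻¹ = e (α (ρr v)) := by
  have h8 := h8.resolve_left fun h => wd2 v hv hv' ((cy2 h5 h4 h7 h).wd hi)
  obtain ⟨a8, a4, a7, a1⟩ := autq_spec v.c4 v.a5
  rw [← wd3 v hv hv' ((cy3 h5 h4 h7 h8).wd hi)] at a1
  generalize autq v.c4 v.a5 = α at *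
  exact ⟨α, _, fun w hw => (cy3 (e := e.comp α.toMonoidHom) h5 (by simpa [a4] using h4) (v := x1 1)
    (by simpa [a7, a1] using h7) (by simpa [a8] using h8)).rho hw⟩

end Cfsg.Lib.FR
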