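import Cfsg.Agent.Lib.FR.LQ
import Cfsg.Agent.Lib.FR.TwoC

/-!
# S5262: the field with two elements, the reflection on `Q`.  See `docs/FR.md`.
All computations are in `FR/TwoC`; small facts about `V K` follow with `chk0`/`chk1 (by decide +kernel)` (`RF4/Bit`).
Write `N = 𝐍(e.range) = e.range`.
-/

set_option autoImplicit false
set_option synthInstance.maxSize 100000
set_option synthInstance.maxHeartbeats 400000

namespace Cfsg.Lib.FR

open Subgroup Cfsg.Lib.BG Cfsg.Lib.G2S Cfsg.Lib.RF4 Cfsg.Lib.RF4.V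
open scoped commutatorElement Cfsg.Lib.Transfer

variable {K : Type*} [Field K] [Tw K] [Q2 K] {G : Type*} [Group G] {e : V K →* G}

theorem card_K2 : Nat.card K = 2 :=
  (Nat.card_eq_two_iff' (0 : K)).2 ⟨1, one_ne_zero, fun _ => Q2.one⟩

theorem idxQ : (Q : Subgroup (V K)).index ≤ 4 := by
  rw [show 4 = Nat.card (K × K) by rw [Nat.card_prod, card_K2]]
  exact Nat.card_le_card_of_surjective (fun p : K × K => ((y8 p.1 * x8 p.2 : V K) : V K ⧸ Q)) fun v => by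
    obtain ⟨v, rfl⟩ := QuotientGroup.mk_surjective v
    exact ⟨(v.b8, v.c8), QuotientGroup.eq.2 (nQ.mem_comm (dec_Q v))⟩

theorem card_A2 : Nat.card (A : Subgroup (V K)) = 32 := by
  rw [show 32 = Nat.card K ^ 5 by rw [card_K2]; rfl, ← Nat.card_fin 5, ← Nat.card_fun]
  refine Nat.card_congr ⟨fun v => ![v.1.c2, v.1.a3, v.1.c4, v.1.a5, v.1.c6],
    fun f => ⟨⟨0, 0, f 0, f 1, 0, f 2, f 3, 0, f 4, 0, 0, 0⟩, by vz⟩, fun ⟨v, h⟩ => Subtype.ext ?_, fun f => ?_⟩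
  · dz v h; rfl
  · funext i
    fin_cases i <;> rfl

namespace Lc

variable [Finite G] (h : Lc Q e) (hN : 𝐍(e.range) ≤ e.range)
include h hN

theorem idx5 (ne : 𝐍(e.range) ≠ ⊤) : e.range.index = 5 := by
  obtain ⟨w, -, h1, h2⟩ := h.swapQ ne
  have w0 : w ∉ e.range := by
    rintro ⟨v, rfl⟩
    have := h1 (x6 1) (by vz)
    rw [h.ac_e] at this
    exact absurd this.2.2.2.2.1 (chk1 (p := fun v : V K => (v * x6 1 * v⁻¹).c6 ≠ 0) (by decide +kernel) v)
  rw [show 5 = Nat.card (Option (K × K)) by rw [Finite.card_option, Nat.card_prod, card_K2]]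
  refine (Nat.card_congr (Equiv.ofBijective (fun p : Option (K × K) => ((p.elim 1 fun p =>
    (e (y8 p.1 * x8 p.2))⁻¹ * w⁻¹ : G) : G ⧸ e.range)) ⟨?_, fun g => ?_⟩)).symm
  · rintro (_ | p) (_ | p') k <;> replace k := QuotientGroup.eq.1 k <;> simp only [Option.elim] at k
    · rfl
    · exact absurd (by simpa [-map_mul] using mul_mem (inv_mem k) ⟨_, map_inv e (y8 p'.1 * x8 p'.2)⟩) w0
    · exact absurd (by simpa [-map_mul] using mul_mem k ⟨_, map_inv e (y8 p.1 * x8 p.2)⟩) w0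
    obtain ⟨t, k⟩ := k
    refine congrArg some (by_contra fun n => w0 (hN (h.tiQ w (y8 p.1 * x8 p.2 * (y8 p'.1 * x8 p'.2)⁻¹) t
      (fun hq => n ?_) (by rw [k, map_mul e _ _⁻¹, map_inv]; group))))
    clear * - hq
    ext <;> vz at hq <;> grind
  obtain ⟨g, rfl⟩ := QuotientGroup.mk_surjective g
  rcases ptsQ (h.au g) with k | ⟨u, hu, k⟩
  · exact ⟨none, QuotientGroup.eq.2 (by simpa using hN (h.stabQ k))⟩
  refine ⟨some (u.b8, u.c8), QuotientGroup.eq.2 ?_⟩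
  have := hN (h.stabQ (g := w * (e u * g)) fun z hz => by
    rw [h.ac_mul _ _ (Z4_Q hz), h.ac_mul _ _ (Z4_Q hz), h.ac_e]; exact h2 _ (k z hz))
  simpa [-map_mul, show y8 u.b8 * x8 u.c8 = u by clear * - hu; dz u hu; vq, mul_assoc] using this

theorem exists_pi (ne : 𝐍(e.range) ≠ ⊤) :
    ∃ (π : G) (t : V K), orderOf π = 5 ∧ t * (y8 1)⁻¹ ∈ Q ∧ e t * π * (e t)⁻¹ ∈ zpowers π := by
  have : Fact (Nat.Prime 5) := ⟨by norm_num⟩
  have hn := h.normal
  have c := e.range.card_mul_index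
  rw [h.idx5 hN ne, ← Nat.card_congr (MonoidHom.ofInjective h.inj).toEquiv, card_V, card_K2] at c
  obtain ⟨π, h5⟩ := exists_prime_orderOf_dvd_card' (G := G) 5 (c ▸ dvd_mul_left _ _)
  have hs : Syl 5 (zpowers π) ⊤ := Syl.mk' le_top (.of_card (n := 1) (by rw [Nat.card_zpowers, h5]; rfl)) (by
    have := (zpowers π).card_mul_index
    rw [Nat.card_zpowers, h5, ← c] at this
    rw [relIndex_top_right]; omega)
  obtain ⟨S, hS⟩ := Syl.top_iff_sylow.1 hs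
  let P := S.mapSurjective (QuotientGroup.mk'_surjective (Q.map e))
  have h1 : Nat.card (Sylow 5 (G ⧸ Q.map e)) = 1 := by
    have a := card_sylow_modEq_one 5 (G ⧸ Q.map e)
    have b : (P : Subgroup (G ⧸ Q.map e)).index ∣ (Q : Subgroup (V K)).index * 5 := by
      generalize (P : Subgroup (G ⧸ Q.map e)) = P'
      rw [← h.idx5 hN ne, ← relIndex_top_right Q, ← relIndex_map_map_of_injective _ _ h.inj, ← MonoidHom.range_eq_map,
        relIndex_mul_index (map_le_range e Q)]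
      exact index_dvd_card _
    have d := Nat.le_of_dvd (Nat.pos_of_ne_zero index_ne_zero_of_finite) (P.card_dvd_index.trans
      (((Nat.Prime.coprime_iff_not_dvd Fact.out).2 P.not_dvd_index).symm.dvd_of_dvd_mul_right b))
    have := idxQ (K := K)
    unfold Nat.ModEq at a
    omega
  have := (Nat.card_eq_one_iff_unique.1 h1).1
  have h2 : (Q.map e ⊔ zpowers π).Normal := by
    rw [← hS, sup_comm, ← QuotientGroup.ker_mk' (Q.map e), ← comap_map_eq]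
    exact P.normal_of_subsingleton.comap _
  have h3 := Syl.frattini (hs.of_le le_sup_right le_top) ⟨le_top, (normalizer_eq_top_iff.2 h2).ge⟩
  rw [sup_assoc, sup_eq_right.2 (le_inf le_top (le_norm _))] at h3
  obtain ⟨_, ⟨q, hq, rfl⟩, n, hn, k⟩ := mem_sup_of_normal_left.1 (h3.ge (mem_top (e (y8 1))))
  exact ⟨π, q⁻¹ * y8 1, h5, by simpa using hq, by
    rw [map_mul, map_inv, ← k, inv_mul_cancel_left]; exact conj_mem_of_norm hn.2 (mem_zpowers π)⟩

theorem pi_nmem {π : G} (h5 : orderOf π = 5) {i : ℤ} (hi : π ^ i ∈ 𝐍(e.range)) : π ^ i = 1 :=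
  mem_bot.1 ((disjoint_of_coprime (GW.cop_two (h.syl pgV).pgroup (GW.odd_zpowers (by rw [h5]; decide)))).le
    ⟨hN hi, zpow_mem (mem_zpowers π) i⟩)

theorem pi_nmem' {π : G} (h5 : orderOf π = 5) : π ∉ 𝐍(e.range) := fun hi => by
  have := h.pi_nmem hN h5 (i := 1) (by simpa using hi)
  rw [zpow_one] at this
  simp [this] at h5

theorem fixA {π : G} (h5 : orderOf π = 5) {a : V K} (ha : a ∈ A) (f : π * e a * π⁻¹ = e a) : a ∈ Z := by
  classical
  have : Fact (Nat.Prime 5) := ⟨by norm_num⟩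
  have := Fintype.ofFinite (A : Subgroup (V K))
  let g : Function.End (A : Subgroup (V K)) := fun v => ⟨_, (auQ (h.au π)).2.1 v v.2⟩
  have k : ∀ n v, e ((g ^ n) v) = π ^ n * e v * (π ^ n)⁻¹ := fun n => by
    induction n with
    | zero => exact fun v => by rw [pow_zero π]; exact (by simp : e v = 1 * e v * 1⁻¹)
    | succ n ih => exact fun v => (ih _).trans (by rw [h.e_ac π (A_Q v.2), pow_succ]; group)
  have h1 := Equiv.Perm.card_fixedPoints_modEq (f := g) (p := 5) (n := 1) (funext fun v => Subtype.ext (h.inj (by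
    rw [k, pow_one, ← h5, pow_orderOf_eq_one]; simp; rfl)))
  let C : Subgroup (V K) := A ⊓ (𝐂[π]).comap e
  have hC : ∀ {v}, v ∈ C ↔ v ∈ A ∧ π * e v * π⁻¹ = e v := by
    intro v
    rw [mem_inf, mem_comap, mem_cent1, mul_inv_eq_iff_eq_mul, eq_comm]
  have h2 : Fintype.card g.fixedPoints = Nat.card C := by
    rw [← Nat.card_eq_fintype_card]
    exact Nat.card_congr ⟨fun v => ⟨v.1, hC.2 ⟨v.1.2, by
      rw [← h.e_ac π (A_Q v.1.2)]; exact congrArg (fun x : (A : Subgroup (V K)) => e x) v.2⟩⟩,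
      fun v => ⟨⟨v, v.2.1⟩, Subtype.ext (h.ac_eq (hC.1 v.2).2)⟩, fun _ => rfl, fun _ => rfl⟩
  rw [← Nat.card_eq_fintype_card, card_A2, h2] at h1
  have h3 : Nat.card C ∣ 2 ^ 5 := (card_dvd inf_le_left).trans card_A2.dvd
  obtain ⟨n, hn, h4⟩ := (Nat.dvd_prime_pow Nat.prime_two).1 h3
  rw [h4] at h1
  obtain rfl | rfl : n = 1 ∨ n = 5 := by interval_cases n <;> revert h1 <;> decide
  · obtain ⟨y, -, hy⟩ := (Nat.card_eq_two_iff' (1 : C)).1 h4
    have x4C : x4 1 ∈ C := hC.2 ⟨by vz, by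
      rw [← h.e_ac π (by vz), (Z_cases _ ((auQ (h.au π)).1 _ (x4_mem 1))).resolve_left fun e =>
        absurd ((h.au π).ker _ (by vz) e) (chk0 (by decide +kernel))]⟩
    by_cases a1 : a = 1
    · exact a1 ▸ one_mem _
    rw [show a = x4 1 from congrArg Subtype.val ((hy ⟨a, hC.2 ⟨ha, f⟩⟩ fun e => a1 (congrArg Subtype.val e)).trans
      (hy ⟨_, x4C⟩ fun e => absurd (congrArg Subtype.val e) (chk0 (p := x4 (1 : K) ≠ 1) (by decide +kernel))).symm)]
    exact x4_mem 1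
  refine absurd (h.stabQ fun z hz => ?_) (h.pi_nmem' hN h5)
  rwa [h.ac_eq (hC.1 ((eq_of_le_of_card_le inf_le_left (card_A2.trans h4.symm).le).ge (Z4_A hz))).2]

omit hN in
theorem fixB {π : G} (h5 : orderOf π = 5) : ∃ y ∈ B4, y ∉ A ∧ π * e y * π⁻¹ = e y := by
  obtain ⟨-, a, b⟩ := auQ (h.au π)
  have k : ∀ {v}, v ∈ B4 ∧ v ∉ A → ac e π v ∈ B4 ∧ ac e π v ∉ A := fun hv =>
    ⟨b _ hv.1, mt ((h.au π).iff_of_le A_Q a (X2_Q (B7_X2 (B4_B7 hv.1)))).1 hv.2⟩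
  have k0 : y4 (1 : K) ∈ B4 ∧ y4 (1 : K) ∉ A := ⟨by vz, chk0 (by decide +kernel)⟩
  have k1 := k k0
  have k2 := k k1
  have k3 := k k2
  have k4 := k k3
  have q : ∀ {v}, v ∈ B4 ∧ v ∉ A → π * e v * π⁻¹ = e (ac e π v) := fun hv =>
    (h.e_ac π (X2_Q (B7_X2 (B4_B7 hv.1)))).symm
  have e4 : π * e (ac e π (ac e π (ac e π (ac e π (y4 1))))) * π⁻¹ = e (y4 1) := by
    rw [← q k3, ← q k2, ← q k1, ← q k0]
    calc _ = π ^ 5 * e (y4 1) * (π ^ 5)⁻¹ := by simp [pow_succ, mul_assoc]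
      _ = _ := by rw [← h5, pow_orderOf_eq_one]; simp
  have e0 := q k0
  have e1 := q k1
  have e2 := q k2
  have e3 := q k3
  generalize ac e π (y4 1) = v1 at *
  generalize ac e π v1 = v2 at *
  generalize ac e π v2 = v3 at *
  generalize ac e π v3 = v4 at *
  have m := mul_mem (mul_mem (mul_mem k1.1 k2.1) k3.1) k4.1
  refine ⟨y4 1 * (v1 * v2 * v3 * v4), mul_mem k0.1 m, ?_, ?_⟩
  · have t : ∀ {v w : V K}, v ∈ B4 ∧ v ∉ A → w ∈ B4 ∧ w ∉ A → v * w ∈ A := fun {v w} hv hw => by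
      have a : v.b4 = 1 := Q2.one fun e => hv.2 (by have := hv.1; revert this e; vz; tauto)
      have b : w.b4 = 1 := Q2.one fun e => hw.2 (by have := hw.1; revert this e; vz; tauto)
      have c := mul_mem hv.1 hw.1
      have d : (v * w).b4 = 0 := by
        replace hv := hv.1; replace hw := hw.1
        clear * - hv hw a b; vz at *; grind
      revert c d; generalize v * w = u; vz; tauto
    rw [mul_assoc (v1 * v2), mul_mem_cancel_right (mul_mem (t k1 k2) (t k3 k4))]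
    exact k0.2
  have c := chk1 (p := fun v : V K => (v.a1 = 0 ∧ v.b2 = 0 ∧ v.b6 = 0 ∧ v.a7 = 0 ∧ v.b8 = 0 ∧ v.c8 = 0) →
    y4 1 * v = v * y4 1) (by decide +kernel) _ m
  nth_rw 2 [c]
  simp only [map_mul, ← conj_mul, e0, e1, e2, e3, e4, mul_assoc (e v1), mul_assoc (e v2), mul_assoc (e v3)]

theorem exists_pi2 (ne : 𝐍(e.range) ≠ ⊤) : ∃ π : G, orderOf π = 5 ∧ π * e (y4 1) * π⁻¹ = e (y4 1) ∧
    e (y8 1) * π * (e (y8 1))⁻¹ ∈ zpowers π := by
  have cj : ∀ {π : G} {t : V K} (q : V K), e t * π * (e t)⁻¹ ∈ zpowers π →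
      e (q * t * q⁻¹) * (e q * π * (e q)⁻¹) * (e (q * t * q⁻¹))⁻¹ ∈ zpowers (e q * π * (e q)⁻¹) := by
    rintro π t q ⟨i, hi⟩
    exact ⟨i, by simp only [conj_zpow, hi, map_mul, map_inv]; group⟩
  have co : ∀ {π : G} (q : V K), orderOf π = 5 → orderOf (e q * π * (e q)⁻¹) = 5 := fun q h5 =>
    ((MulAut.conj (e q)).orderOf_eq _).trans h5
  have cf : ∀ {π : G} {y : V K} (q : V K), π * e y * π⁻¹ = e y →
      e q * π * (e q)⁻¹ * e (q * y * q⁻¹) * (e q * π * (e q)⁻¹)⁻¹ = e (q * y * q⁻¹) := fun q h => by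
    rw [map_mul, map_mul, map_inv, conj_conj_conj, h]
  obtain ⟨π, t, h5, ht, hn, h4⟩ : ∃ (π : G) (t : V K), orderOf π = 5 ∧ t * (y8 1)⁻¹ ∈ Q ∧
      e t * π * (e t)⁻¹ ∈ zpowers π ∧ π * e (y4 1) * π⁻¹ = e (y4 1) := by
    obtain ⟨π, t, h5, ht, hn⟩ := h.exists_pi hN ne
    obtain ⟨y, h1, h2, h3⟩ := h.fixB h5
    obtain ⟨q, hq, k⟩ := ex_b4 h1 h2
    refine ⟨_, _, co q h5, ?_, cj q hn, ?_⟩
    · simpa [mul_assoc] using mul_mem (mul_mem hq (nQ.conj_mem _ (inv_mem hq) t)) ht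
    · have := cf q h3
      rcases k with k | k <;> rw [k] at this
      · exact this
      · rwa [map_inv, ← conj_inv, inv_inj] at this
  have nm : e t ∈ 𝐍(zpowers π) := mem_normalizer_fintype (by
    rintro _ ⟨i, rfl⟩; rw [← conj_zpow]; exact zpow_mem hn i)
  obtain ⟨a, ha, y, hy, k⟩ := ex_t ht (h.fixA hN h5 (by clear * - ht; revert ht t; exact chk1 (by decide +kernel)) (by
    obtain ⟨i, hi⟩ := conj_mem_of_norm' nm (mem_zpowers π)
    have : π ^ i * e (y4 1) = e (y4 1) * π ^ i := (show Commute π _ from mul_inv_eq_iff_eq_mul.1 h4).zpow_left i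
    rw [map_mul, map_inv, ← conj_mul, ← conj_inv, h4, map_mul, map_mul, map_inv]
    congr 1
    calc _ = e t * (((e t)⁻¹ * π * e t) * e (y4 1) * ((e t)⁻¹ * π * e t)⁻¹) * (e t)⁻¹ := by group
      _ = _ := by simp only [← hi, this]; group)) fun k => by
    have n6 : e (x6 1) ∈ 𝐍(zpowers π) := by
      rw [← k, map_mul, map_mul]; exact mul_mem (mul_mem nm nm) (mul_mem nm nm)
    obtain ⟨i, hi⟩ := mul_mem (mem_zpowers π) (inv_mem (conj_mem_of_norm n6 (mem_zpowers π)))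
    have := h.pi_nmem hN h5 (i := i) (le_norm _ (by
      obtain ⟨w, -, hw⟩ := h.nrm π (x6 1) (by vz)
      exact ⟨w * (x6 1)⁻¹, by rw [map_mul, ← hw, map_inv]; simp only [hi]; group⟩))
    simp only [this] at hi
    exact absurd (h.fixA hN h5 (a := x6 1) (by vz) (by
      calc _ = π * (e (x6 1) * π * (e (x6 1))⁻¹)⁻¹ * e (x6 1) := by group
        _ = _ := by rw [← hi, one_mul])) (chk0 (by decide +kernel))
  have h4' := cf a h4
  rw [show a * y4 1 * a⁻¹ = y4 1 by clear * - ha; dz a ha; vq] at h4'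
  refine ⟨_, co a h5, h4', ?_⟩
  have := cj a hn
  have k' := fix_U4 h4' hy
  generalize e a * π * (e a)⁻¹ = π' at *
  rw [← k, map_mul e _ y, show ∀ a b : G, a * b * π' * (a * b)⁻¹ = a * (b * π' * b⁻¹) * a⁻¹ from fun _ _ => by group,
    ← mul_inv_eq_iff_eq_mul.1 k', mul_inv_cancel_right]
  exact this

theorem pi_pow {π : G} (h5 : orderOf π = 5) (h8 : e (y8 1) * π * (e (y8 1))⁻¹ ∈ zpowers π) :
    e (y8 1) * π * (e (y8 1))⁻¹ = π ^ 2 ∨ e (y8 1) * π * (e (y8 1))⁻¹ = π ^ 3 := by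
  classical
  obtain ⟨k, hk, e'⟩ := Finset.mem_image.1 (mem_zpowers_iff_mem_range_orderOf.1 h8)
  rw [h5, Finset.mem_range] at hk
  have p5 : π ^ 5 = 1 := h5 ▸ pow_orderOf_eq_one π
  have n : π ^ (k * k) ≠ π := fun e0 => h.pi_nmem' hN h5 (h.tiQ π (y8 1 * y8 1) (y8 1 * y8 1)
    (chk0 (by decide +kernel)) (by
      rw [pow_mul, e', conj_pow, e'] at e0
      rw [mul_inv_eq_iff_eq_mul, map_mul]
      nth_rw 1 [← e0]; group))
  interval_cases k
  · rw [pow_zero, eq_comm, conj_eq_one_iff] at e'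
    simp [e'] at h5
  · simp at n
  · exact .inl e'.symm
  · exact .inr e'.symm
  · exact absurd (by rw [show 4 * 4 = 5 * 3 + 1 from rfl, pow_succ, pow_mul, p5, one_pow, one_mul]) n

theorem two_r (ne : 𝐍(e.range) ≠ ⊤) :
    ∃ (α : MulAut (V K)) (r : G), ∀ v ∈ Q, r * e (α v) * r⁻¹ = e (α (ρr v)) := by
  obtain ⟨π, h5, h4, h8⟩ := h.exists_pi2 hN ne
  have a := h.au π
  have q7 : x7 (1 : K) ∈ Q := by vz
  have h7 := (h.e_ac π q7).symm
  have v2 : ac e π (x7 1) * ac e π (x7 1) = 1 := by rw [← a.mul _ q7 _ q7, s_D (by vz), a.one]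
  have vR : ac e π (x7 1) ∉ R := fun hR => h.pi_nmem' hN h5 (h.stabQ fun z hz => by
    have vA : ac e π (x7 1) ∉ A := mt (a.iff_of_le A_Q (auQ a).2.1 q7).1 (chk0 (by decide +kernel))
    exact Z4_of ((auQ a).2.1 z (Z4_A hz)) ((i_Q1 ⟨hR, a.mem _ q7⟩ v2).resolve_left vA) vA
      ((a.cm1 (Z4_Q hz) q7).2 (cm1_symm (b7_Z4 hz (by vz)))))
  generalize ac e π (x7 1) = v at *
  obtain ⟨u, hu, hv⟩ := i_D1 vR v2
  obtain ⟨c4, c7, c8⟩ : u * y4 1 * u⁻¹ = y4 1 ∧ u * x7 1 * u⁻¹ = x7 1 ∧ u * y8 1 * u⁻¹ = y8 1 :=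
    chk1 (p := fun u : V K => u ∈ U8 → u * y4 1 * u⁻¹ = y4 1 ∧ u * x7 1 * u⁻¹ = x7 1 ∧ u * y8 1 * u⁻¹ = y8 1)
      (by decide +kernel) u hu
  have k : ∀ {x y : V K}, π * e x * π⁻¹ = e y →
      e u * π * (e u)⁻¹ * e (u * x * u⁻¹) * (e u * π * (e u)⁻¹)⁻¹ = e (u * y * u⁻¹) := fun h => by
    simp only [map_mul, map_inv, conj_conj_conj, h]
  refine rho_of h.inj (π := e u * π * (e u)⁻¹) (by rw [conj_pow, ← h5, pow_orderOf_eq_one]; simp) (c4 ▸ k h4)
    (c7 ▸ k h7) hv (mt (nR.mem_comm_iff.trans (by simp)).1 vR) ?_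
  rw [← c8]
  simp only [map_mul, map_inv, conj_conj_conj, conj_pow]
  exact (h.pi_pow hN h5 h8).imp (fun h => by rw [h]) fun h => by rw [h]

end Lc

end Cfsg.Lib.FR
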