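import Cfsg.Agent.Lib.FR.LR
import Cfsg.Agent.Lib.RF4.TwoS

/-!
# S5262: the field with two elements, the reflection on `R`.  See `docs/FR.md`.
This is `Lib/RF4/TwoS` (namespace `RF4.G2`: `cube`, `exists_pre`, `Pre.*`, `step1`-`step3`) with `c : G2 K G` replaced by
`h : Lc R e`: `c.P` becomes `⊤`, `c.S` becomes `e.range`, `c.chg α` becomes `h.comp α` (with `aut_R`), `c.P_R`, `c.P_act`
become `h.nrm`, `(auR (h.au g))`, and `c.C_conj (x4_mem _) (c.e_mem v)` is `Z_comm`.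
-/

set_option autoImplicit false
set_option synthInstance.maxSize 100000
set_option synthInstance.maxHeartbeats 400000

namespace Cfsg.Lib.FR

open Subgroup Cfsg.Lib.BG Cfsg.Lib.G2S Cfsg.Lib.RF4 Cfsg.Lib.RF4.V
open scoped commutatorElement Cfsg.Lib.Transfer

variable {K : Type*} [Field K] [Tw K] [Q2 K] {G : Type*} [Group G] {e : V K →* G}

/-- A candidate for the second reflection. -/
structure Pre (e : V K →* G) (s : G) : Prop where
  ss : s * s = 1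
  s3 : s * e (x1 1) * s = e (x1 1) * s * e (x1 1)
  s4 : s * e (x4 1) * s⁻¹ = e (x6 1)

namespace Pre

variable {s : G} (h : Pre e s)
include h

omit [Q2 K] in
theorem s_inv : s⁻¹ = s := inv_eq_of_mul_eq_one_left h.ss

omit [Q2 K] in
theorem sw {v w : V K} (e' : s * e v * s⁻¹ = e w) : s * e w * s⁻¹ = e v := by
  rw [← e', h.s_inv, ← mul_assoc, ← mul_assoc, h.ss, one_mul, mul_assoc, h.ss, mul_one]

omit [Q2 K] in
theorem fix {a b : V K} (ha : a * x1 1 = x1 1 * a) (e' : s * e a * s⁻¹ = e b) :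
    s * e (x1 1 * b * (x1 1)⁻¹) * s⁻¹ = e (x1 1 * b * (x1 1)⁻¹) := by
  have h1 : e a * e (x1 1) = e (x1 1) * e a := by rw [← map_mul, ha, map_mul]
  rw [map_mul, map_mul, map_inv, ← e']
  calc _ = s * e (x1 1) * s * e a * (s * e (x1 1) * s)⁻¹ := by group
    _ = e (x1 1) * s * (e (x1 1) * e a * (e (x1 1))⁻¹) * s⁻¹ * (e (x1 1))⁻¹ := by rw [h.s3]; group
    _ = _ := by rw [← h1]; group

/-- The elements on which the candidate acts in the standard way. -/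
def Std (e : V K →* G) (s : G) (v : V K) : Prop := v ∈ R ∧ s * e v * s⁻¹ = e (ρs v)

omit h [Q2 K] in
theorem Std.mul {v w : V K} (a : Std e s v) (b : Std e s w) : Std e s (v * w) :=
  ⟨mul_mem a.1 b.1, by rw [map_mul, ← conj_mul, a.2, b.2, ρs_mul a.1 b.1, map_mul]⟩

omit h in
theorem Std.pw (x : K → V K) (h1 : Std e s (x 1)) (h0 : x 0 = 1) (t : K) : Std e s (x t) := by
  rcases Q2.h t with rfl | rfl
  · exact h0 ▸ ⟨one_mem _, by rw [show ρs (1 : V K) = 1 by vs]; simp⟩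
  · exact h1

theorem Z2_act {v : V K} (hv : v ∈ R) (h2 : ρs v ∈ Z2) : s * e v * s⁻¹ = e (ρs v) := by
  have a : Std e s (x4 1) := ⟨by vs, h.s4.trans (by congr 1; vs)⟩
  have b : Std e s (x6 1) := ⟨by vs, (h.sw h.s4).trans (by congr 1; vs)⟩
  have := ((a.pw x4 rfl v.c4).mul (b.pw x6 rfl v.c6)).2
  rwa [chk1 (p := fun v : V K => v ∈ R → ρs v ∈ Z2 → x4 v.c4 * x6 v.c6 = v) (by decide +kernel) v hv h2] at this

theorem step3 (e' : s * e (y2 1) * s⁻¹ = e (y8 1)) (v : V K) (hv : v ∈ R) : s * e v * s⁻¹ = e (ρs v) := by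
  have A : Std e s (y2 1) := ⟨by vs, e'.trans (by congr 1; vs)⟩
  have B : Std e s (y8 1) := ⟨by vs, (h.sw e').trans (by congr 1; vs)⟩
  have C : Std e s (x1 1 * y8 1 * (x1 1)⁻¹) := ⟨by exact chk0 (by decide +kernel),
    (h.fix (chk0 (by decide +kernel)) e').trans (by congr 1; exact chk0 (by decide +kernel))⟩
  have k : ∀ {v w : V K}, Std e s v → v = w → Std e s w := fun h e => e ▸ h
  have a2 := k (A.mul A) (w := x2 1) (chk0 (by decide +kernel))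
  have a8 := k (B.mul B) (w := x8 1) (chk0 (by decide +kernel))
  have b4 := k (((((C.mul A).mul B).mul A).mul a8).mul A) (w := y4 1) (chk0 (by decide +kernel))
  have a4 := k (b4.mul b4) (w := x4 1) (chk0 (by decide +kernel))
  have a5 := k (((((A.mul B).mul C).mul a2).mul a8).mul b4) (w := x5 1) (chk0 (by decide +kernel))
  have a6 := k ((((B.mul a8).mul a5).mul B).mul a5) (w := x6 1) (chk0 (by decide +kernel))
  have a3 := k (((((A.mul C).mul B).mul C).mul b4).mul C) (w := x3 1) (chk0 (by decide +kernel))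
  have a7 := k (((((A.mul C).mul A).mul C).mul a3).mul a8) (w := x7 1) (chk0 (by decide +kernel))
  have b6 := k (((((A.mul C).mul C).mul B).mul a5).mul C) (w := y6 1) (chk0 (by decide +kernel))
  exact (k (((((((((((A.pw y2 rfl _).mul (a2.pw x2 rfl _)).mul (a3.pw x3 rfl _)).mul (b4.pw y4 rfl _)).mul
    (a4.pw x4 rfl _)).mul (a5.pw x5 rfl _)).mul (b6.pw y6 rfl _)).mul (a6.pw x6 rfl _)).mul (a7.pw x7 rfl _)).mul
    (B.pw y8 rfl _)).mul (a8.pw x8 rfl _)) (eq_prod hv).symm).2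

theorem chg {α : MulAut (V K)} (h1 : α (x1 1) = x1 1) (h6 : α (x6 1) = x6 1) : Pre (e.comp α.toMonoidHom) s := by
  refine ⟨h.ss, ?_, ?_⟩
  · change s * e (α _) * s = e (α _) * s * e (α _)
    rw [h1, h.s3]
  · change s * e (α _) * s⁻¹ = e (α _)
    rw [aut_x4, h6, h.s4]

omit [Q2 K] in
theorem conj {v : V K} (hv : v ∈ R) (h1 : v * x1 1 = x1 1 * v) : Pre e ((e v)⁻¹ * s * e v) := by
  have h2 : e v * e (x1 1) * (e v)⁻¹ = e (x1 1) := by rw [← map_mul, h1, map_mul, mul_inv_cancel_right]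
  refine ⟨by simpa using sq_conj h.ss (e v)⁻¹, ?_, ?_⟩
  · calc _ = (e v)⁻¹ * (s * (e v * e (x1 1) * (e v)⁻¹) * s) * e v := by group
      _ = (e v)⁻¹ * (e v * e (x1 1) * (e v)⁻¹ * s * (e v * e (x1 1) * (e v)⁻¹)) * e v := by
        rw [h2, h.s3]
      _ = _ := by group
  · calc _ = (e v)⁻¹ * (s * (e v * e (x4 1) * (e v)⁻¹) * s⁻¹) * e v := by group
      _ = _ := by
        rw [← map_mul, Z_comm (x4_mem _), map_mul, mul_inv_cancel_right, h.s4, mul_assoc, ← map_mul,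
          ← R_comm hv (by vs), map_mul, inv_mul_cancel_left]

theorem step2 (hi : Function.Injective e) {b : V K} (hb : b ∈ R) (e0 : s * e (y2 1) * s⁻¹ = e b) (h2 : b.b2 = 0)
    (h8 : b.b8 = 1) (hp : b.b4 = b.b6) : ∃ (α : MulAut (V K)) (s : G), (∀ v ∈ Q, α (ρr v) = ρr (α v)) ∧
      ∀ v ∈ R, s * e (α v) * s⁻¹ = e (α (ρs v)) := by
  have C := h.fix (chk0 (by decide +kernel)) e0
  have e' := h.sw e0
  obtain ⟨⟨p1, p2, q1, q2⟩, k⟩ := b_form b hb h2 h8 hp (hi (by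
    simp only [map_mul, ← e0, conj_mul]
    simp only [← map_mul, show (y2 1 * y2 1 * (y2 1 * y2 1) : V K) = 1 from chk0 (by decide +kernel)]
    simp))
  obtain ⟨k1, k2, k3, k4⟩ := k (hi (by
    rw [← h.Z2_act p1 p2]
    generalize x1 1 * b * (x1 1)⁻¹ = d at *
    simp only [map_mul, ← conj_mul, e0, C])) (hi (by
    rw [← h.Z2_act q1 q2]
    generalize x1 1 * b * (x1 1)⁻¹ = d at *
    simp only [cm, map_mul, map_inv, ← conj_mul, ← conj_inv, e0, e', C]))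
  generalize y2 b.b4 * x2 b.a3 * x3 (b.a3 + b.b4 + b.a5) * x5 (b.a3 + b.b4 + b.c6) = v at *
  generalize b.a3 + b.c4 + b.a5 + b.b4 * b.a5 = a, b.a3 + b.b4 + b.c6 = j at *
  refine ⟨autκ a j, _, fun v => chk3 (p := fun v a j _ => v ∈ Q → κ a j (ρr v) = ρr (κ a j v)) (by decide +kernel) v a j 0,
    ((h.conj k3 k4).chg (α := autκ a j) (chk3 (p := fun _ a j _ => κ a j (x1 1) = x1 1) (by decide +kernel) 1 a j 0)
    (chk3 (p := fun _ a j _ => κ a j (x6 1) = x6 1) (by decide +kernel) 1 a j 0)).step3 ?_⟩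
  change _ * e (κ a j (y2 1)) * _ = e (κ a j (y8 1))
  calc _ = (e v)⁻¹ * (s * e (v * κ a j (y2 1) * v⁻¹) * s⁻¹) * e v := by
        rw [map_mul e (v * _), map_mul e v, map_inv]; group
    _ = _ := by rw [k1, e0, ← k2, map_mul e (v * _), map_mul e v, map_inv]; group

end Pre

namespace Lc

variable [Finite G] (h : Lc R e)
include h

theorem x4_cases {g : G} (hg : g ∉ 𝐍(e.range)) :
    g * e (x4 1) * g⁻¹ = e (x6 1) ∨ g * e (x4 1) * g⁻¹ = e (x1 1 * x6 1 * (x1 1)⁻¹) := by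
  rw [← h.e_ac g (by vs)]
  refine (Z2_cases _ ((auR (h.au g)).1 _ (Z_Z2 (x4_mem 1))) fun hz => hg (h.stabR fun z h' => ?_)).imp
    (congrArg e) (congrArg e)
  obtain rfl | rfl := Z_cases z h'
  exacts [by rw [(h.au g).one]; exact one_mem _, hz]

theorem mem_of_x4 {g g' : G} (e' : g * e (x4 1) * g⁻¹ = g' * e (x4 1) * g'⁻¹) : g⁻¹ * g' ∈ 𝐍(e.range) :=
  h.stabR fun z h' => by
    obtain rfl | rfl := Z_cases z h'
    · rw [(h.au _).one]; exact one_mem _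
    · rw [h.ac_eq (w := x4 1) (by rw [mul_inv_rev, inv_inv, mul_assoc _ g', mul_assoc, ← mul_assoc (g' * _), ← e']; group)]
      exact h'

theorem cube (hN : 𝐍(e.range) ≤ e.range) {g : G} (ho : Odd (orderOf g)) : g ^ 3 = 1 := by
  have k : ∀ i, g ^ i ∈ 𝐍(e.range) → g ^ i = 1 := fun i h' => mem_bot.1 ((disjoint_of_coprime (GW.cop_two
    (h.syl pgV).pgroup (GW.odd_zpowers ho))).le ⟨hN h', pow_mem (mem_zpowers g) i⟩)
  by_contra h3
  have k1 : g ∉ 𝐍(e.range) := fun e => h3 (k 3 (pow_mem e 3))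
  have k2 : g ^ 2 ∉ 𝐍(e.range) := fun e => h3 (by
    rw [orderOf_eq_one_iff.1 ((Nat.coprime_two_right.2 ho).eq_one_of_dvd (orderOf_dvd_of_pow_eq_one (k 2 e))), one_pow])
  have a : g * e (x4 1) * g⁻¹ ≠ g ^ 2 * e (x4 1) * (g ^ 2)⁻¹ := fun e => k1 (by
    convert h.mem_of_x4 e using 1; group)
  have b : g * e (x4 1) * g⁻¹ ≠ g ^ 3 * e (x4 1) * (g ^ 3)⁻¹ := fun e => k2 (by
    convert h.mem_of_x4 e using 1; group)
  have c : g ^ 2 * e (x4 1) * (g ^ 2)⁻¹ ≠ g ^ 3 * e (x4 1) * (g ^ 3)⁻¹ := fun e => k1 (by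
    convert h.mem_of_x4 e using 1; group)
  rcases h.x4_cases k1 with e1 | e1 <;> rcases h.x4_cases k2 with e2 | e2 <;>
    rcases h.x4_cases (mt (k 3) h3) with e3 | e3 <;> simp only [e1, e2, e3, ne_eq, not_true_eq_false] at a b c

theorem exists_pre (hN : 𝐍(e.range) ≤ e.range) (ne : 𝐍(e.range) ≠ ⊤) : ∃ s, Pre e s := by
  have xx : e (x1 1) * e (x1 1) = 1 := by rw [← map_mul, ← map_one e]; congr 1; exact chk0 (by decide +kernel)
  have xi := inv_eq_of_mul_eq_one_left xx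
  have hp := (h.syl pgV).pgroup
  obtain ⟨x, -, x1', ho, e0⟩ := Inv.exists_odd_inverted_of_not_mem_pCore_map (mem_top _) xx fun e0 => ne (by
    rw [← pcore_p_eq] at e0
    have : e.range = 𝐎({2}, ⊤) := Syl.eq_of_le_pgroup (h.syl pgV) (by
      rintro _ ⟨v, rfl⟩
      have := mul_mem (pcore_max_p (pgroup_of_le hp (map_le_range e R)) ⟨le_top,
        ((normalizer_eq_top_iff).2 h.normal).ge⟩ ⟨_, dec_R v, rfl⟩) (show e (x1 v.a1) ∈ _ by
          rcases Q2.h v.a1 with e' | e' <;> rw [e']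
          exacts [(map_one e).symm ▸ one_mem _, e0])
      simpa using this) (pcore_nml _ _).le (pcore_pgroup 2 _)
    rw [this]; exact eq_top_iff.2 (pcore_nml _ _).norm)
  have k : ∀ x, x ^ 3 = 1 → e (x1 1) * x * (e (x1 1))⁻¹ = x⁻¹ →
      e (x1 1) * x * e (x4 1) * (e (x1 1) * x)⁻¹ = e (x6 1) → ∃ s, Pre e s := fun x h3 e0 e' => by
    refine ⟨_, ?_, ?_, e'⟩
    · rw [xi] at e0
      rw [← mul_assoc, e0, inv_mul_cancel]
    · calc _ = e (x1 1) * x * (e (x1 1) * e (x1 1)) * x := by group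
        _ = e (x1 1) * x ^ 3 * x⁻¹ := by rw [xx]; simp [pow_succ, mul_assoc]
        _ = _ := by rw [h3, ← e0, xi]; group
  have h3 := h.cube hN ho
  rcases h.x4_cases (g := e (x1 1) * x) fun hb => x1' (mem_bot.1 ((disjoint_of_coprime (GW.cop_two hp
    (GW.odd_zpowers ho))).le ⟨(e.range.mul_mem_cancel_left ⟨_, rfl⟩).1 (hN hb), mem_zpowers x⟩)) with e' | e'
  · exact k x h3 e0 e'
  · refine k x⁻¹ (by rw [inv_pow, h3, inv_one]) (by rw [← conj_inv, e0]) ?_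
    rw [map_mul, map_mul, map_inv] at e'
    calc _ = (e (x1 1))⁻¹ * (e (x1 1) * (e (x1 1) * x⁻¹ * (e (x1 1))⁻¹) * (e (x1 1) * e (x4 1) *
          (e (x1 1))⁻¹) * (e (x1 1) * (e (x1 1) * x⁻¹ * (e (x1 1))⁻¹))⁻¹) * e (x1 1) := by group
      _ = _ := by
        rw [← conj_inv, e0, inv_inv, ← map_mul e (x1 1) (x4 1), Z_comm (x4_mem _), map_mul, mul_inv_cancel_right, e']
        group

theorem of_pre {s : G} (hs : Pre e s) : ∃ (α : MulAut (V K)) (s : G), (∀ v ∈ Q, α (ρr v) = ρr (α v)) ∧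
    ∀ v ∈ R, s * e (α v) * s⁻¹ = e (α (ρs v)) := by
  obtain ⟨b, hb, e0⟩ := h.nrm s (y2 1) (by vs)
  have e5 := (h.e_ac s (v := x5 1) (by vs)).symm
  have h3 := (auR (h.au s)).2.1 (x5 1) (by vs)
  generalize ac e s (x5 1) = y at e5 h3
  have h4 : cm y b = x6 1 := h.inj (by
    rw [← hs.s4, show x4 (1 : K) = cm (x5 1) (y2 1) from chk0 (by decide +kernel), map_cm, map_cm, ← e0, ← e5]
    simp only [cm]; group)
  obtain ⟨h2, h8⟩ : b.b2 = 0 ∧ b.b8 = 1 := chk3 (p := fun b r s t => b ∈ R → cm (x4 r * x5 s * x6 t) b = x6 1 →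
    b.b2 = 0 ∧ b.b8 = 1) (by decide +kernel) b y.c4 y.a5 y.c6 hb (by
      rwa [show x4 y.c4 * x5 y.a5 * x6 y.c6 = y by revert h3; vs; tauto])
  by_cases hp : b.b4 = b.b6
  · exact hs.step2 h.inj hb e0 h2 h8 hp
  obtain ⟨p1, p2, p3, p4, p5⟩ := chk1 (p := fun b : V K => b ∈ R → b.b2 = 0 → b.b8 = 1 → b.b4 ≠ b.b6 → α3 b⁻¹ ∈ R ∧
    (α3 b⁻¹).b2 = 0 ∧ (α3 b⁻¹).b8 = 1 ∧ (α3 b⁻¹).b4 = (α3 b⁻¹).b6 ∧ α3 (α3 b⁻¹) = b⁻¹) (by decide +kernel) b hb h2 h8 hp
  obtain ⟨α, s', k1, k2⟩ := (hs.chg (α := aut3) (chk0 (p := α3 (x1 1) = x1 1) (by decide +kernel))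
    (chk0 (p := α3 (x6 1) = x6 1) (by decide +kernel))).step2 (h.inj.comp aut3.injective) p1 (by
      change s * e (α3 (y2 1)) * s⁻¹ = e (α3 _)
      rw [p5, show α3 (y2 (1 : K)) = (y2 1)⁻¹ from chk0 (by decide +kernel), map_inv, map_inv, ← e0]
      group) p2 p3 p4
  exact ⟨aut3 * α, s', fun v hv => (congrArg α3 (k1 v hv)).trans
    (chk1 (p := fun v => v ∈ Q → α3 (ρr v) = ρr (α3 v)) (by decide +kernel) _ (aut_Q α hv)), k2⟩

theorem two_s (hN : 𝐍(e.range) ≤ e.range) (ne : 𝐍(e.range) ≠ ⊤) : ∃ (α : MulAut (V K)) (s : G),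
    (∀ v ∈ Q, α (ρr v) = ρr (α v)) ∧ ∀ v ∈ R, s * e (α v) * s⁻¹ = e (α (ρs v)) :=
  (h.exists_pre hN ne).elim fun _ => h.of_pre

end Lc

end Cfsg.Lib.FR
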