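import Cfsg.Agent.Lib.FR.Eh
import Cfsg.Agent.Lib.RF4.Ident

/-!
# S5262: more subgroups of `V K`, commutators and squares.  See `docs/FR.md`.
-/

set_option autoImplicit false

namespace Cfsg.Lib.FR

open Subgroup Cfsg.Lib.BG Cfsg.Lib.G2S Cfsg.Lib.RF4 Cfsg.Lib.RF4.V
open scoped commutatorElement Cfsg.Lib.Transfer

variable {K : Type*} [Field K] [Tw K]

/-- `U₃ V₄ U₅ V₆` -/
def Z4 : Subgroup (V K) where
  carrier := {v | v.a1 = 0 ∧ v.b2 = 0 ∧ v.c2 = 0 ∧ v.b4 = 0 ∧ v.b6 = 0 ∧ v.a7 = 0 ∧ v.b8 = 0 ∧ v.c8 = 0}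
  one_mem' := by simp [one_def]
  mul_mem' := fun {v w} hv hw => by simp_all [mul_def, V.mul]
  inv_mem' := fun {v} hv => by simp_all [inv_def, V.inv]

theorem mem_Z4 {v : V K} : v ∈ Z4 ↔
    v.a1 = 0 ∧ v.b2 = 0 ∧ v.c2 = 0 ∧ v.b4 = 0 ∧ v.b6 = 0 ∧ v.a7 = 0 ∧ v.b8 = 0 ∧ v.c8 = 0 := Iff.rfl

/-- `U₃ V₄ U₅ V₆ U₇` -/
def D : Subgroup (V K) where
  carrier := {v | v.a1 = 0 ∧ v.b2 = 0 ∧ v.c2 = 0 ∧ v.b4 = 0 ∧ v.b6 = 0 ∧ v.b8 = 0 ∧ v.c8 = 0}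
  one_mem' := by simp [one_def]
  mul_mem' := fun {v w} hv hw => by simp_all [mul_def, V.mul]
  inv_mem' := fun {v} hv => by simp_all [inv_def, V.inv]

theorem mem_D {v : V K} : v ∈ D ↔
    v.a1 = 0 ∧ v.b2 = 0 ∧ v.c2 = 0 ∧ v.b4 = 0 ∧ v.b6 = 0 ∧ v.b8 = 0 ∧ v.c8 = 0 := Iff.rfl

/-- `A D` -/
def Z5 : Subgroup (V K) where
  carrier := {v | v.a1 = 0 ∧ v.b2 = 0 ∧ v.b4 = 0 ∧ v.b6 = 0 ∧ v.b8 = 0 ∧ v.c8 = 0}
  one_mem' := by simp [one_def]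
  mul_mem' := fun {v w} hv hw => by simp_all [mul_def, V.mul]
  inv_mem' := fun {v} hv => by simp_all [inv_def, V.inv]

theorem mem_Z5 {v : V K} : v ∈ Z5 ↔
    v.a1 = 0 ∧ v.b2 = 0 ∧ v.b4 = 0 ∧ v.b6 = 0 ∧ v.b8 = 0 ∧ v.c8 = 0 := Iff.rfl

/-- `U₄ A` -/
def B4 : Subgroup (V K) where
  carrier := {v | v.a1 = 0 ∧ v.b2 = 0 ∧ v.b6 = 0 ∧ v.a7 = 0 ∧ v.b8 = 0 ∧ v.c8 = 0}
  one_mem' := by simp [one_def]
  mul_mem' := fun {v w} hv hw => by simp_all [mul_def, V.mul]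
  inv_mem' := fun {v} hv => by simp_all [inv_def, V.inv]

theorem mem_B4 {v : V K} : v ∈ B4 ↔
    v.a1 = 0 ∧ v.b2 = 0 ∧ v.b6 = 0 ∧ v.a7 = 0 ∧ v.b8 = 0 ∧ v.c8 = 0 := Iff.rfl

/-- `U₄ U₇ A` -/
def B7 : Subgroup (V K) where
  carrier := {v | v.a1 = 0 ∧ v.b2 = 0 ∧ v.b6 = 0 ∧ v.b8 = 0 ∧ v.c8 = 0}
  one_mem' := by simp [one_def]
  mul_mem' := fun {v w} hv hw => by simp_all [mul_def, V.mul]
  inv_mem' := fun {v} hv => by simp_all [inv_def, V.inv]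

theorem mem_B7 {v : V K} : v ∈ B7 ↔
    v.a1 = 0 ∧ v.b2 = 0 ∧ v.b6 = 0 ∧ v.b8 = 0 ∧ v.c8 = 0 := Iff.rfl

/-- `V₂ U₃ ⋯ U₇ V₈` -/
def X8 : Subgroup (V K) where
  carrier := {v | v.a1 = 0 ∧ v.b2 = 0 ∧ v.b8 = 0}
  one_mem' := by simp [one_def]
  mul_mem' := fun {v w} hv hw => by simp_all [mul_def, V.mul]
  inv_mem' := fun {v} hv => by simp_all [inv_def, V.inv]

theorem mem_X8 {v : V K} : v ∈ X8 ↔
    v.a1 = 0 ∧ v.b2 = 0 ∧ v.b8 = 0 := Iff.rfl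

/-- `U₂ ⋯ U₇` -/
def Q1 : Subgroup (V K) where
  carrier := {v | v.a1 = 0 ∧ v.b8 = 0 ∧ v.c8 = 0}
  one_mem' := by simp [one_def]
  mul_mem' := fun {v w} hv hw => by simp_all [mul_def, V.mul]
  inv_mem' := fun {v} hv => by simp_all [inv_def, V.inv]

theorem mem_Q1 {v : V K} : v ∈ Q1 ↔
    v.a1 = 0 ∧ v.b8 = 0 ∧ v.c8 = 0 := Iff.rfl

/-- `U₁ V₂ U₃ V₄ U₅` -/
def D1 : Subgroup (V K) where
  carrier := {v | v.b2 = 0 ∧ v.b4 = 0 ∧ v.b6 = 0 ∧ v.c6 = 0 ∧ v.a7 = 0 ∧ v.b8 = 0 ∧ v.c8 = 0}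
  one_mem' := by simp [one_def]
  mul_mem' := fun {v w} hv hw => by simp_all [mul_def, V.mul]
  inv_mem' := fun {v} hv => by simp_all [inv_def, V.inv]

theorem mem_D1 {v : V K} : v ∈ D1 ↔
    v.b2 = 0 ∧ v.b4 = 0 ∧ v.b6 = 0 ∧ v.c6 = 0 ∧ v.a7 = 0 ∧ v.b8 = 0 ∧ v.c8 = 0 := Iff.rfl

/-- `V₂ U₃ V₄ U₅` -/
def Y4 : Subgroup (V K) where
  carrier := {v | v.a1 = 0 ∧ v.b2 = 0 ∧ v.b4 = 0 ∧ v.b6 = 0 ∧ v.c6 = 0 ∧ v.a7 = 0 ∧ v.b8 = 0 ∧ v.c8 = 0}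
  one_mem' := by simp [one_def]
  mul_mem' := fun {v w} hv hw => by simp_all [mul_def, V.mul]
  inv_mem' := fun {v} hv => by simp_all [inv_def, V.inv]

theorem mem_Y4 {v : V K} : v ∈ Y4 ↔
    v.a1 = 0 ∧ v.b2 = 0 ∧ v.b4 = 0 ∧ v.b6 = 0 ∧ v.c6 = 0 ∧ v.a7 = 0 ∧ v.b8 = 0 ∧ v.c8 = 0 := Iff.rfl

/-- Unfold everything to coordinates. -/
scoped macro "vz" loc:(Lean.Parser.Tactic.location)? : tactic =>
  `(tactic| ((try simp only [commutatorElement_def, cm, mem_Z4, mem_D, mem_Z5, mem_B4, mem_B7, mem_X8, mem_Q1, mem_D1,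
    mem_Y4] $[$loc]?); (try vs $[$loc]?)))

/-- Substitute the vanishing coordinates. -/
scoped macro "dz" v:ident h:ident : tactic =>
  `(tactic| (obtain ⟨_, _, _, _, _, _, _, _, _, _, _, _⟩ := $v; vz at $h:ident; (try casesm* _ ∧ _); subst_vars))

/-- Verify a statement in coordinates. -/
scoped macro "vq" : tactic => `(tactic| (vz <;> ((try constructorm* _ ∧ _) <;> pol)))

theorem cm_symm {G : Type*} [Group G] {N : Subgroup G} {x y : G} (h : ⁅x, y⁆ ∈ N) : ⁅y, x⁆ ∈ N := by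
  rw [← commutatorElement_inv]; exact inv_mem h

theorem cm1_symm {G : Type*} [Group G] {x y : G} (h : ⁅x, y⁆ = 1) : ⁅y, x⁆ = 1 := by
  rw [← commutatorElement_inv, h, inv_one]

theorem cm1 {G : Type*} [Group G] {x y : G} : ⁅x, y⁆ = 1 ↔ x * y = y * x := commutatorElement_eq_one_iff_mul_comm

/-- Use: `obtain ⟨z, hz, e⟩ := cme h; dz z hz; vz at e`. -/
theorem cme {G : Type*} [Group G] {N : Subgroup G} {x y : G} (h : ⁅x, y⁆ ∈ N) : ∃ z ∈ N, x * y = z * (y * x) := cm_eq h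

variable {v w x a d : V K}

theorem Z_Z2 : (Z : Subgroup (V K)) ≤ Z2 := fun v h => by revert h; vz; tauto
theorem Z2_Z3 : (Z2 : Subgroup (V K)) ≤ Z3 := fun v h => by revert h; vz; tauto
theorem Z3_Z4 : (Z3 : Subgroup (V K)) ≤ Z4 := fun v h => by revert h; vz; tauto
theorem Z4_A : (Z4 : Subgroup (V K)) ≤ A := fun v h => by revert h; vz; tauto
theorem Z4_D : (Z4 : Subgroup (V K)) ≤ D := fun v h => by revert h; vz; tauto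
theorem A_Z5 : (A : Subgroup (V K)) ≤ Z5 := fun v h => by revert h; vz; tauto
theorem D_Z5 : (D : Subgroup (V K)) ≤ Z5 := fun v h => by revert h; vz; tauto
theorem A_B4 : (A : Subgroup (V K)) ≤ B4 := fun v h => by revert h; vz; tauto
theorem B4_B7 : (B4 : Subgroup (V K)) ≤ B7 := fun v h => by revert h; vz; tauto
theorem Z5_B7 : (Z5 : Subgroup (V K)) ≤ B7 := fun v h => by revert h; vz; tauto
theorem B7_X2 : (B7 : Subgroup (V K)) ≤ X2 := fun v h => by revert h; vz; tauto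
theorem X2_X8 : (X2 : Subgroup (V K)) ≤ X8 := fun v h => by revert h; vz; tauto
theorem X2_Q1 : (X2 : Subgroup (V K)) ≤ Q1 := fun v h => by revert h; vz; tauto
theorem X8_Ph : (X8 : Subgroup (V K)) ≤ Ph := fun v h => by revert h; vz; tauto
theorem Q1_Ph : (Q1 : Subgroup (V K)) ≤ Ph := fun v h => by revert h; vz; tauto
theorem Q1_Q : (Q1 : Subgroup (V K)) ≤ Q := fun v h => by revert h; vz; tauto
theorem Ph_R : (Ph : Subgroup (V K)) ≤ R := fun _ h => h.1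
theorem Ph_Q8 : (Ph : Subgroup (V K)) ≤ Q8 := fun _ h => h.2
theorem Q_Q8 : (Q : Subgroup (V K)) ≤ Q8 := fun _ h => h.1
theorem Z_Z3 : (Z : Subgroup (V K)) ≤ Z3 := Z_Z2.trans Z2_Z3
theorem Z_A : (Z : Subgroup (V K)) ≤ A := Z_Z3.trans (Z3_Z4.trans Z4_A)
theorem Z3_A : (Z3 : Subgroup (V K)) ≤ A := Z3_Z4.trans Z4_A
theorem A_X2 : (A : Subgroup (V K)) ≤ X2 := A_B4.trans (B4_B7.trans B7_X2)
theorem D_X2 : (D : Subgroup (V K)) ≤ X2 := D_Z5.trans (Z5_B7.trans B7_X2)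
theorem X2_Q : (X2 : Subgroup (V K)) ≤ Q := X2_Q1.trans Q1_Q
theorem X8_R : (X8 : Subgroup (V K)) ≤ R := X8_Ph.trans Ph_R
theorem Q1_R : (Q1 : Subgroup (V K)) ≤ R := Q1_Ph.trans Ph_R
theorem A_Q : (A : Subgroup (V K)) ≤ Q := A_X2.trans X2_Q
theorem Y4_A : (Y4 : Subgroup (V K)) ≤ A := fun v h => by revert h; vz; tauto
theorem D1_Q : (D1 : Subgroup (V K)) ≤ Q := fun v h => by revert h; vz; tauto
theorem Q1_iff : v ∈ Q1 ↔ v ∈ R ∧ v ∈ Q := Iff.rfl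
theorem Z4_iff : v ∈ Z4 ↔ v ∈ A ∧ v ∈ D := by vz; tauto
theorem X2_iff : v ∈ X2 ↔ v ∈ X8 ∧ v ∈ Q := by vz; tauto

/-! ### Commutators -/

theorem c_Z (h : x ∈ Z) (v : V K) : ⁅v, x⁆ = 1 := cm1.2 (Z_comm h v)
theorem c_Z2 (h : x ∈ Z2) (v : V K) : ⁅v, x⁆ ∈ Z := cm_symm (Z2_cm h v)
theorem c_Z3 (h : x ∈ Z3) (v : V K) : ⁅v, x⁆ ∈ Z2 := cm_symm (Z3_cm h v)
theorem c_Z4 (h : x ∈ Z4) (v : V K) : ⁅v, x⁆ ∈ Z3 := cm_symm (by dz x h; vq)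
theorem c_Z5 (h : x ∈ Z5) (v : V K) : ⁅v, x⁆ ∈ Z4 := cm_symm (by dz x h; vq)
theorem c_B7 (h : x ∈ B7) (v : V K) : ⁅v, x⁆ ∈ A := cm_symm (by dz x h; vq)
theorem c_X2 (h : x ∈ X2) (v : V K) : ⁅v, x⁆ ∈ Z5 := cm_symm (by dz x h; vq)
theorem c_Ph (h : x ∈ Ph) (v : V K) : ⁅v, x⁆ ∈ X2 := cm_symm (by dz x h; vq)
theorem c_Q8 (h : x ∈ Q8) (v : V K) : ⁅v, x⁆ ∈ Q1 := cm_symm (by dz x h; vq)
theorem c_V (x v : V K) : ⁅v, x⁆ ∈ Ph := by vq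
theorem r_Z2 (h : x ∈ Z2) (hv : v ∈ R) : ⁅v, x⁆ = 1 := cm1.2 (R_comm hv h)
theorem r_D (h : x ∈ D) (hv : v ∈ R) : ⁅v, x⁆ ∈ Z3 := by dz x h; dz v hv; vq
theorem r_X8 (h : x ∈ X8) (hv : v ∈ R) : ⁅v, x⁆ ∈ D := by dz x h; dz v hv; vq
theorem r_R (h : x ∈ R) (hv : v ∈ R) : ⁅v, x⁆ ∈ X8 := by dz x h; dz v hv; vq
theorem q_A (h : x ∈ A) (hv : v ∈ Q) : ⁅v, x⁆ ∈ Z := by dz x h; dz v hv; vq
theorem q_Q (h : x ∈ Q) (hv : v ∈ Q) : ⁅v, x⁆ ∈ A := by dz x h; dz v hv; vq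
theorem q8_Z3 (h : x ∈ Z3) (hv : v ∈ Q8) : ⁅v, x⁆ ∈ Z := Q8_cm hv h
theorem q8_A (h : x ∈ A) (hv : v ∈ Q8) : ⁅v, x⁆ ∈ Z3 := by dz x h; dz v hv; vq
theorem x_Z3 (h : x ∈ Z3) (hv : v ∈ X8) : ⁅v, x⁆ = 1 := cm1.2 (by dz x h; dz v hv; vq)
theorem x_X8 (h : x ∈ X8) (hv : v ∈ X8) : ⁅v, x⁆ ∈ Z3 := by dz x h; dz v hv; vq
theorem x2_Z5 (h : x ∈ Z5) (hv : v ∈ X2) : ⁅v, x⁆ ∈ Z2 := by dz x h; dz v hv; vq
theorem ph_Z4 (h : x ∈ Z4) (hv : v ∈ Ph) : ⁅v, x⁆ ∈ Z2 := by dz x h; dz v hv; vq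
theorem q1_B7 (h : x ∈ B7) (hv : v ∈ Q1) : ⁅v, x⁆ ∈ Z4 := by dz x h; dz v hv; vq
theorem b_A (h : x ∈ A) (hv : v ∈ B4) : ⁅v, x⁆ = 1 := cm1.2 (by dz x h; dz v hv; vq)
theorem b7_Z4 (h : x ∈ Z4) (hv : v ∈ B7) : ⁅v, x⁆ = 1 := cm1.2 (by dz x h; dz v hv; vq)
theorem b_B7 (h : x ∈ B7) (hv : v ∈ B4) : ⁅v, x⁆ ∈ Z2 := by dz x h; dz v hv; vq
theorem d_D (h : x ∈ D) (hv : v ∈ D) : ⁅v, x⁆ = 1 := cm1.2 (by dz x h; dz v hv; vq)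

theorem normal_of_cm {G : Type*} [Group G] {N : Subgroup G} (h : ∀ x ∈ N, ∀ v : G, ⁅v, x⁆ ∈ N) : N.Normal :=
  ⟨fun x hx v => by simpa [commutatorElement_def] using mul_mem (h x hx v) hx⟩

instance nZ : (Z : Subgroup (V K)).Normal := normal_of_cm fun _ h v => c_Z h v ▸ one_mem _
instance nZ2 : (Z2 : Subgroup (V K)).Normal := normal_of_cm fun _ h v => Z_Z2 (c_Z2 h v)
instance nZ3 : (Z3 : Subgroup (V K)).Normal := normal_of_cm fun _ h v => Z2_Z3 (c_Z3 h v)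
instance nZ4 : (Z4 : Subgroup (V K)).Normal := normal_of_cm fun _ h v => Z3_Z4 (c_Z4 h v)
instance nA : (A : Subgroup (V K)).Normal := normal_of_cm fun _ h v => Z4_A (c_Z5 (A_Z5 h) v)
instance nD : (D : Subgroup (V K)).Normal := normal_of_cm fun _ h v => Z4_D (c_Z5 (D_Z5 h) v)
instance nZ5 : (Z5 : Subgroup (V K)).Normal := normal_of_cm fun _ h v => A_Z5 (Z4_A (c_Z5 h v))
instance nB4 : (B4 : Subgroup (V K)).Normal := normal_of_cm fun _ h v => A_B4 (c_B7 (B4_B7 h) v)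
instance nB7 : (B7 : Subgroup (V K)).Normal := normal_of_cm fun _ h v => B4_B7 (A_B4 (c_B7 h v))
instance nX2 : (X2 : Subgroup (V K)).Normal := normal_of_cm fun _ h v => B7_X2 (Z5_B7 (c_X2 h v))
instance nX8 : (X8 : Subgroup (V K)).Normal := normal_of_cm fun _ h v => X2_X8 (c_Ph (X8_Ph h) v)
instance nQ1 : (Q1 : Subgroup (V K)).Normal := normal_of_cm fun _ h v => X2_Q1 (c_Ph (Q1_Ph h) v)
instance nPh : (Ph : Subgroup (V K)).Normal := normal_of_cm fun _ _ v => c_V _ v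
instance nQ : (Q : Subgroup (V K)).Normal := normal_of_cm fun _ h v => Q1_Q (c_Q8 (Q_Q8 h) v)
instance nQ8 : (Q8 : Subgroup (V K)).Normal := normal_of_cm fun _ _ v => Ph_Q8 (c_V _ v)
instance nR : (R : Subgroup (V K)).Normal := normal_of_cm fun _ _ v => Ph_R (c_V _ v)

theorem au_cj (N : Subgroup (V K)) [N.Normal] (v : V K) : Au N fun x => v * x * v⁻¹ :=
  au_conj ((normalizer_eq_top N).ge trivial)

/-! ### Squares -/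

theorem s_V (v : V K) : v * v ∈ Ph := by vq
theorem s_Q8 (h : v ∈ Q8) : v * v ∈ X2 := by dz v h; vq
theorem s_Q (h : v ∈ Q) : v * v ∈ A := by dz v h; vq
theorem s_R (h : v ∈ R) : v * v ∈ X8 := by dz v h; vq
theorem s_Ph (h : v ∈ Ph) : v * v ∈ Z5 := by dz v h; vq
theorem s_X8 (h : v ∈ X8) : v * v ∈ Z3 := by dz v h; vq
theorem s_Z5 (h : v ∈ Z5) : v * v ∈ Z := by dz v h; vq
theorem s_B4 (h : v ∈ B4) : v * v ∈ Z := by dz v h; vq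
theorem s_A (h : v ∈ A) : v * v = 1 := by dz v h; vq
theorem s_D (h : v ∈ D) : v * v = 1 := by dz v h; vq
theorem s_D1 (h : v ∈ D1) : v * v = 1 := by dz v h; vq

theorem ex_sq4 [Finite K] (h : x ∈ Z) : ∃ b, y4 b * y4 b = x := by
  obtain ⟨b, e⟩ := nm_surj x.c4
  exact ⟨b, by rw [eq_x4 h, ← e]; vq⟩

theorem ex_sq2 [Finite K] (c : K) : ∃ b, y2 b * y2 b = x2 c := by
  obtain ⟨b, e⟩ := nm_surj c
  exact ⟨b, by rw [← e]; vq⟩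

/-! ### The reflections -/

theorem ρr_ρr (h : v ∈ Q) : ρr (ρr v) = v := by dz v h; vq

theorem ρs_R (v : V K) : ρs v ∈ R := by vz

theorem ρr_Q' (v : V K) : ρr v ∈ Q := by vz

theorem au_ρr : Au Q (ρr : V K → V K) := ⟨fun v _ => ρr_Q' v, fun _ h _ h' => ρr_mul h h',
  fun v h e => by rw [← ρr_ρr h, e]; vz, fun v h => ⟨_, ρr_Q' v, ρr_ρr h⟩⟩

theorem au_ρs : Au R (ρs : V K → V K) := ⟨fun v _ => ρs_R v, fun _ h _ h' => ρs_mul h h',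
  fun v h e => by rw [← ρs_ρs h, e]; vz, fun v h => ⟨_, ρs_R v, ρs_ρs h⟩⟩

theorem rho_iff {N P P' : Subgroup (V K)} {f : V K → V K} (ff : ∀ v ∈ N, f (f v) = v) (h1 : ∀ v ∈ P, f v ∈ P')
    (h2 : ∀ v ∈ P', f v ∈ P) (h : v ∈ N) : f v ∈ P ↔ v ∈ P' := ⟨fun e => ff v h ▸ h1 _ e, h2 v⟩

theorem ρr_Z (h : v ∈ Q) : ρr v ∈ Z ↔ v ∈ Z :=
  rho_iff (fun _ => ρr_ρr) (fun v h => by dz v h; vq) (fun v h => by dz v h; vq) h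
theorem ρr_A (h : v ∈ Q) : ρr v ∈ A ↔ v ∈ A :=
  rho_iff (fun _ => ρr_ρr) (fun v h => by dz v h; vq) (fun v h => by dz v h; vq) h
theorem ρr_D (h : v ∈ Q) : ρr v ∈ D ↔ v ∈ D1 :=
  rho_iff (fun _ => ρr_ρr) (fun v h => by dz v h; vq) (fun v h => by dz v h; vq) h
theorem ρr_Z4 (h : v ∈ Q) : ρr v ∈ Z4 ↔ v ∈ Y4 :=
  rho_iff (fun _ => ρr_ρr) (fun v h => by dz v h; vq) (fun v h => by dz v h; vq) h
theorem ρr_Y4 (h : v ∈ Q) : ρr v ∈ Y4 ↔ v ∈ Z4 :=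
  rho_iff (fun _ => ρr_ρr) (fun v h => by dz v h; vq) (fun v h => by dz v h; vq) h
theorem ρs_Z (h : v ∈ R) : ρs v ∈ Z ↔ v ∈ V6 :=
  rho_iff (fun _ => ρs_ρs) (fun v h => by dz v h; vq) (fun v h => by dz v h; vq) h
theorem ρs_Z2 (h : v ∈ R) : ρs v ∈ Z2 ↔ v ∈ Z2 :=
  rho_iff (fun _ => ρs_ρs) (fun v h => by dz v h; vq) (fun v h => by dz v h; vq) h
theorem ρs_Z3 (h : v ∈ R) : ρs v ∈ Z3 ↔ v ∈ Z3 :=
  rho_iff (fun _ => ρs_ρs) (fun v h => by dz v h; vq) (fun v h => by dz v h; vq) h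
theorem ρs_A (h : v ∈ R) : ρs v ∈ A ↔ v ∈ A6 :=
  rho_iff (fun _ => ρs_ρs) (fun v h => by dz v h; vq) (fun v h => by dz v h; vq) h
theorem ρs_X8 (h : v ∈ R) : ρs v ∈ X8 ↔ v ∈ X8 :=
  rho_iff (fun _ => ρs_ρs) (fun v h => by dz v h; vq) (fun v h => by dz v h; vq) h
theorem ρs_Ph (h : v ∈ R) : ρs v ∈ Ph ↔ v ∈ R3 :=
  rho_iff (fun _ => ρs_ρs) (fun v h => by dz v h; vq) (fun v h => by dz v h; vq) h

end Cfsg.Lib.FR
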